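import Groth.Prelude.Def_Exal
import Mathlib.RingTheory.Ideal.Quotient.Operations
import Mathlib.Algebra.MvPolynomial.Eval

/-!
# Extensions of a quotient of a ring from maps on the kernel
-/

noncomputable section

universe u v

open Exal

attribute [local instance] Exal.opModule Exal.isCentralScalar_opModule

namespace Groth.Agent.Lib.CotTwo

variable {A : Type u} [CommRing A] {R : Type v} [CommRing R] [Algebra A R] {B M : Type v} [CommRing B] [Algebra A B]
  [AddCommGroup M] [Module B M] (p : R →ₐ[A] B)

/-- `R ⊕ M` with `M` an `R`-module through `p`. -/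
@[nolint unusedArguments]
def Sq (_p : R →ₐ[A] B) (M : Type v) : Type v := TrivSqZeroExt R M

@[reducible]
def modR : Module R M := Module.compHom M p.toRingHom

instance : CommRing (Sq p M) :=
  letI := modR (M := M) p
  inferInstanceAs (CommRing (TrivSqZeroExt R M))

/-- The inclusion of `R`. -/
def sqInl : R →+* Sq p M :=
  letI := modR (M := M) p
  TrivSqZeroExt.inlHom R M

instance : Algebra A (Sq p M) := ((sqInl p).comp (algebraMap A R)).toAlgebra

/-- The ring component. -/
def sqFst (x : Sq p M) : R := TrivSqZeroExt.fst x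

/-- The module component. -/
def sqSnd (x : Sq p M) : M := TrivSqZeroExt.snd x

/-- An element from its components. -/
def sqMk (r : R) (m : M) : Sq p M := (r, m)

lemma sq_ext {x y : Sq p M} (h : sqFst p x = sqFst p y) (h' : sqSnd p x = sqSnd p y) : x = y :=
  TrivSqZeroExt.ext h h'

lemma sqFst_mul (x y : Sq p M) : sqFst p (x * y) = sqFst p x * sqFst p y := rfl

lemma sqSnd_mul (x y : Sq p M) :
    sqSnd p (x * y) = p (sqFst p x) • sqSnd p y + p (sqFst p y) • sqSnd p x := rfl

variable {p}

/-- The map to an extension given a lift of `p`. -/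
def toExt (X : Ext A B M) (u : R →ₐ[A] X.E) (hu : ∀ r, X.proj (u r) = p r) : Sq p M →ₐ[A] X.E where
  toFun x := u (sqFst p x) + X.incl (sqSnd p x)
  map_one' := by
    show u 1 + X.incl 0 = 1
    rw [map_one, map_zero, add_zero]
  map_mul' x y := by
    rw [sqFst_mul, sqSnd_mul, map_mul, map_add, add_mul, mul_add, mul_add, mul_comm (X.incl (sqSnd p x)) (u (sqFst p y)),
      X.isExtension.mul_incl, X.isExtension.mul_incl, X.isExtension.mul_incl, hu, hu,
      (X.isExtension.exact (X.incl (sqSnd p x))).2 ⟨_, rfl⟩, zero_smul, map_zero]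
    abel
  map_zero' := by
    show u 0 + X.incl 0 = 0
    rw [map_zero, map_zero, add_zero]
  map_add' x y := by
    show u (sqFst p x + sqFst p y) + X.incl (sqSnd p x + sqSnd p y) = _
    rw [map_add, map_add]
    abel
  commutes' a := by
    show u (algebraMap A R a) + X.incl 0 = _
    rw [map_zero, add_zero, AlgHom.commutes]

lemma toExt_surjective (hp : Function.Surjective p) (X : Ext A B M) (u : R →ₐ[A] X.E)
    (hu : ∀ r, X.proj (u r) = p r) : Function.Surjective (toExt X u hu) := fun e => by
  obtain ⟨r, hr⟩ := hp (X.proj e)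
  obtain ⟨z, hz⟩ := (X.isExtension.exact (e - u r)).1 (by rw [map_sub, hu, hr, sub_self])
  exact ⟨sqMk p r z, by show u r + X.incl z = e; rw [hz, add_sub_cancel]⟩

lemma toExt_eq_zero_iff (X : Ext A B M) (u : R →ₐ[A] X.E) (hu : ∀ r, X.proj (u r) = p r) (x : Sq p M) :
    toExt X u hu x = 0 ↔ p (sqFst p x) = 0 ∧ u (sqFst p x) + X.incl (sqSnd p x) = 0 := by
  refine ⟨fun h => ⟨?_, h⟩, fun h => h.2⟩
  have h' := congrArg X.proj (show u (sqFst p x) + X.incl (sqSnd p x) = 0 from h)
  rw [map_add, hu, (X.isExtension.exact (X.incl (sqSnd p x))).2 ⟨_, rfl⟩, add_zero, map_zero] at h'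
  exact h'

/-- Extensions with lifts of `p` inducing the same map on the kernel are equivalent. -/
theorem nonempty_equiv_of_eq_on_ker (hp : Function.Surjective p) (X Y : Ext A B M)
    (u : R →ₐ[A] X.E) (hu : ∀ r, X.proj (u r) = p r) (v : R →ₐ[A] Y.E) (hv : ∀ r, Y.proj (v r) = p r)
    (θ : R → M) (hθu : ∀ r, p r = 0 → X.incl (θ r) = u r) (hθv : ∀ r, p r = 0 → Y.incl (θ r) = v r) :
    Nonempty (Ext.Equiv X Y) := by
  have key : ∀ (Z : Ext A B M) (w : R →ₐ[A] Z.E) (hw : ∀ r, Z.proj (w r) = p r),
      (∀ r, p r = 0 → Z.incl (θ r) = w r) → ∀ x, toExt Z w hw x = 0 ↔ p (sqFst p x) = 0 ∧ θ (sqFst p x) + sqSnd p x = 0 :=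
    fun Z w hw hθ x => by
      rw [toExt_eq_zero_iff]
      refine and_congr_right fun h => ?_
      rw [← hθ _ h, ← map_add]
      exact ⟨fun h' => Z.isExtension.incl_injective (h'.trans (map_zero _).symm), fun h' => by rw [h', map_zero]⟩
  have hker : RingHom.ker (toExt X u hu) = RingHom.ker (toExt Y v hv) := Ideal.ext fun x =>
    ((key X u hu hθu x).trans (key Y v hv hθv x).symm)
  let eX := Ideal.quotientKerAlgEquivOfSurjective (f := toExt X u hu) (toExt_surjective hp X u hu)
  let eY := Ideal.quotientKerAlgEquivOfSurjective (f := toExt Y v hv) (toExt_surjective hp Y v hv)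
  let e : X.E ≃ₐ[A] Y.E := eX.symm.trans ((Ideal.quotientEquivAlgOfEq A hker).trans eY)
  have he : ∀ x, e (toExt X u hu x) = toExt Y v hv x := fun x => by
    have h1 : eX.symm (toExt X u hu x) = Ideal.Quotient.mk _ x := by
      rw [AlgEquiv.symm_apply_eq]; rfl
    show eY (Ideal.quotientEquivAlgOfEq A hker (eX.symm (toExt X u hu x))) = _
    rw [h1]
    rfl
  refine ⟨⟨e, fun w => ?_, fun z => ?_⟩⟩
  · obtain ⟨x, rfl⟩ := toExt_surjective hp X u hu w
    rw [he]
    show Y.proj (v _ + Y.incl _) = X.proj (u _ + X.incl _)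
    rw [map_add, map_add, hu, hv, (X.isExtension.exact (X.incl (sqSnd p x))).2 ⟨_, rfl⟩,
      (Y.isExtension.exact (Y.incl (sqSnd p x))).2 ⟨_, rfl⟩]
  · have h1 : toExt X u hu (sqMk p 0 z) = X.incl z := by
      show u 0 + X.incl z = _
      rw [map_zero, zero_add]
    rw [← h1, he]
    show v 0 + Y.incl z = _
    rw [map_zero, zero_add]

/-- An extension from a map on the kernel. -/
theorem exists_ext_of_ker_hom (hp : Function.Surjective p) (θ : R → M)
    (hadd : ∀ r s, p r = 0 → p s = 0 → θ (r + s) = θ r + θ s)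
    (hmul : ∀ r s, p s = 0 → θ (r * s) = p r • θ s) :
    ∃ (X : Ext A B M) (u : R →ₐ[A] X.E), (∀ r, X.proj (u r) = p r) ∧ ∀ r, p r = 0 → X.incl (θ r) = u r := by
  have hθ0 : θ 0 = 0 := by
    have := hmul 0 0 (map_zero p)
    rwa [zero_mul, map_zero, zero_smul] at this
  let K : Ideal (Sq p M) :=
    { carrier := {x | p (sqFst p x) = 0 ∧ θ (sqFst p x) + sqSnd p x = 0}
      add_mem' := fun {a b} ha hb => by
        refine ⟨?_, ?_⟩
        · show p (sqFst p a + sqFst p b) = 0
          rw [map_add, ha.1, hb.1, add_zero]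
        · show θ (sqFst p a + sqFst p b) + (sqSnd p a + sqSnd p b) = 0
          rw [hadd _ _ ha.1 hb.1, add_add_add_comm, ha.2, hb.2, add_zero]
      zero_mem' := by
        refine ⟨map_zero p, ?_⟩
        show θ 0 + 0 = (0 : M)
        rw [hθ0, add_zero]
      smul_mem' := fun c x hx => by
        refine ⟨?_, ?_⟩
        · rw [smul_eq_mul, sqFst_mul, map_mul, hx.1, mul_zero]
        · rw [smul_eq_mul, sqFst_mul, sqSnd_mul, hx.1, zero_smul, add_zero, hmul _ _ hx.1, ← smul_add, hx.2,
            smul_zero] }
  let pS : Sq p M →ₐ[A] B :=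
    { toFun := fun x => p (sqFst p x)
      map_one' := map_one p
      map_mul' := fun x y => by rw [sqFst_mul, map_mul]
      map_zero' := map_zero p
      map_add' := fun x y => map_add p _ _
      commutes' := fun a => p.commutes a }
  let uS : R →ₐ[A] Sq p M := { sqInl p with commutes' := fun a => rfl }
  let iS : M →+ Sq p M :=
    { toFun := fun m => sqMk p 0 m
      map_zero' := rfl
      map_add' := fun a b => sq_ext p (add_zero 0).symm rfl }
  let X : Ext A B M :=
    { E := Sq p M ⧸ K
      proj := Ideal.Quotient.liftₐ K pS fun x hx => hx.1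
      incl := (Ideal.Quotient.mk K).toAddMonoidHom.comp iS
      isExtension :=
        { proj_surjective := fun b => by
            obtain ⟨r, rfl⟩ := hp b
            exact ⟨Ideal.Quotient.mk K (sqMk p r 0), rfl⟩
          incl_injective := fun a b h => by
            have h1 : θ (sqFst p (iS a - iS b)) + sqSnd p (iS a - iS b) = 0 := (Ideal.Quotient.eq.1 h).2
            change θ ((0 : R) - 0) + (a - b) = 0 at h1
            rwa [sub_zero, hθ0, zero_add, sub_eq_zero] at h1
          exact := fun e => by
            obtain ⟨x, rfl⟩ := Ideal.Quotient.mk_surjective e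
            constructor
            · intro hx
              refine ⟨θ (sqFst p x) + sqSnd p x, ?_⟩
              symm
              refine Ideal.Quotient.eq.2 ⟨?_, ?_⟩
              · show p (sqFst p x - 0) = 0
                rw [sub_zero]; exact hx
              · show θ (sqFst p x - 0) + (sqSnd p x - (θ (sqFst p x) + sqSnd p x)) = 0
                rw [sub_zero]; abel
            · rintro ⟨z, hz⟩
              rw [← hz]
              exact map_zero p
          mul_incl := fun e z => by
            obtain ⟨x, rfl⟩ := Ideal.Quotient.mk_surjective e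
            show Ideal.Quotient.mk K x * Ideal.Quotient.mk K (iS z) = Ideal.Quotient.mk K (iS (p (sqFst p x) • z))
            rw [← map_mul]
            refine congrArg _ (sq_ext p (mul_zero _) ?_)
            show p (sqFst p x) • z + p 0 • sqSnd p x = _
            rw [map_zero, zero_smul, add_zero]
            rfl } }
  let uX : R →ₐ[A] X.E := (Ideal.Quotient.mkₐ A K).comp uS
  refine ⟨X, uX, fun r => rfl, fun r hr => ?_⟩
  show Ideal.Quotient.mk K (iS (θ r)) = Ideal.Quotient.mk K (sqMk p r 0)
  symm
  refine Ideal.Quotient.eq.2 ⟨?_, ?_⟩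
  · show p (r - 0) = 0
    rw [sub_zero, hr]
  · show θ (r - 0) + (0 - θ r) = 0
    rw [sub_zero]; abel

end Groth.Agent.Lib.CotTwo
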