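import Groth.Agent.Lib.CotTwo.Indep
import Groth.Agent.Lib.CotTwo.ExtOfHom

/-!
# Classes of extensions and `T¹`
-/

noncomputable section

universe u t

open TensorProduct CotT Exal

attribute [local instance] Exal.opModule Exal.isCentralScalar_opModule

namespace Groth.Agent.Lib.CotTwo

variable {A : Type u} {B : Type u} [CommRing A] [CommRing B] [Algebra A B] {ι : Type u} {σ : Type t}
  (P : Algebra.Presentation A B ι σ) {M : Type u} [AddCommGroup M] [Module B M]

lemma cocycle_apply_eq (c : cocycles1 P M) {f g : relMod P} (h : jmap P f = jmap P g) :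
    (c : L1 P →ₗ[B] M) ((1 : B) ⊗ₜ f) = (c : L1 P →ₗ[B] M) ((1 : B) ⊗ₜ g) := by
  let q : relKer P := ⟨f - g, LinearMap.mem_ker.2 (by rw [map_sub, h, sub_self])⟩
  have h1 := (mem_cocycles1_iff P M _).1 c.2 (Submodule.Quotient.mk ((1 : B) ⊗ₜ q))
  rw [d2_mk_tmul] at h1
  change (c : L1 P →ₗ[B] M) ((1 : B) ⊗ₜ (f - g)) = 0 at h1
  rwa [TensorProduct.tmul_sub, map_sub, sub_eq_zero] at h1

open Classical in
/-- The map on the kernel given by a cocycle. -/
def θc (c : cocycles1 P M) (r : P.toExtension.Ring) : M :=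
  if h : algebraMap P.toExtension.Ring B r = 0 then
    (c : L1 P →ₗ[B] M) ((1 : B) ⊗ₜ (exists_jmap_eq P h).choose) else 0

lemma θc_jmap (c : cocycles1 P M) (f : relMod P) : θc P c (jmap P f) = (c : L1 P →ₗ[B] M) ((1 : B) ⊗ₜ f) := by
  rw [θc, dif_pos (algebraMap_jmap P f)]
  exact cocycle_apply_eq P c (exists_jmap_eq P (algebraMap_jmap P f)).choose_spec

/-- The structure map of the presentation. -/
abbrev pP : P.toExtension.Ring →ₐ[A] B := IsScalarTower.toAlgHom A P.toExtension.Ring B

theorem exists_ext_of_cocycle (c : cocycles1 P M) :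
    ∃ (X : Ext A B M) (u : P.toExtension.Ring →ₐ[A] X.E), (∀ r, X.proj (u r) = pP P r) ∧
      ∀ f : relMod P, X.incl ((c : L1 P →ₗ[B] M) ((1 : B) ⊗ₜ f)) = u (jmap P f) := by
  obtain ⟨X, u, hu, hθ⟩ := exists_ext_of_ker_hom (p := pP P) (algebraMap_surjective P) (θc P c)
    (fun r s hr hs => by
      obtain ⟨f, rfl⟩ := exists_jmap_eq P hr
      obtain ⟨g, rfl⟩ := exists_jmap_eq P hs
      rw [← map_add, θc_jmap, θc_jmap, θc_jmap, TensorProduct.tmul_add, map_add])
    (fun r s hs => by
      obtain ⟨g, rfl⟩ := exists_jmap_eq P hs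
      rw [← smul_eq_mul, ← map_smul, θc_jmap, θc_jmap, ← map_smul, TensorProduct.smul_tmul',
        TensorProduct.tmul_smul, TensorProduct.smul_tmul', Algebra.smul_def, smul_eq_mul]
      rfl)
  exact ⟨X, u, hu, fun f => by rw [← θc_jmap]; exact hθ _ (algebraMap_jmap P f)⟩

theorem nonempty_equiv_of_cocycle (c : cocycles1 P M) (X Y : Ext A B M)
    (u : P.toExtension.Ring →ₐ[A] X.E) (hu : ∀ r, X.proj (u r) = pP P r)
    (v : P.toExtension.Ring →ₐ[A] Y.E) (hv : ∀ r, Y.proj (v r) = pP P r)
    (hcu : ∀ f : relMod P, X.incl ((c : L1 P →ₗ[B] M) ((1 : B) ⊗ₜ f)) = u (jmap P f))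
    (hcv : ∀ f : relMod P, Y.incl ((c : L1 P →ₗ[B] M) ((1 : B) ⊗ₜ f)) = v (jmap P f)) :
    Nonempty (Ext.Equiv X Y) :=
  nonempty_equiv_of_eq_on_ker (p := pP P) (algebraMap_surjective P) X Y u hu v hv (θc P c)
    (fun r hr => by obtain ⟨f, rfl⟩ := exists_jmap_eq P hr; rw [θc_jmap, hcu])
    (fun r hr => by obtain ⟨f, rfl⟩ := exists_jmap_eq P hr; rw [θc_jmap, hcv])

lemma one_tmul_smul (c : P.toExtension.Ring) (x : Ω[P.toExtension.Ring⁄A]) :
    ((1 : B) ⊗ₜ[P.toExtension.Ring] (c • x) : L0 P) = algebraMap P.toExtension.Ring B c • ((1 : B) ⊗ₜ x) := by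
  rw [TensorProduct.smul_tmul', smul_eq_mul, mul_one, ← TensorProduct.smul_tmul, Algebra.smul_def, mul_one]

/-- The difference of two lifts of `p` comes from a map on `L₀`. -/
theorem exists_L0_of_lifts (X : Ext A B M) (u v : P.toExtension.Ring →ₐ[A] X.E)
    (hu : ∀ r, X.proj (u r) = pP P r) (hv : ∀ r, X.proj (v r) = pP P r) :
    ∃ φ : L0 P →ₗ[B] M, ∀ r, v r = u r + X.incl (φ ((1 : B) ⊗ₜ KaehlerDifferential.D A P.toExtension.Ring r)) := by
  have hd : ∀ i, ∃ m : M, X.incl m = v (var P i) - u (var P i) := fun i =>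
    (X.isExtension.exact _).1 (by rw [map_sub, hu, hv, sub_self])
  choose m hm using hd
  let φ : L0 P →ₗ[B] M := P.cotangentSpaceBasis.constr B m
  refine ⟨φ, fun r => ?_⟩
  have hφ : ∀ i, φ ((1 : B) ⊗ₜ KaehlerDifferential.D A P.toExtension.Ring (var P i)) = m i := fun i => by
    rw [← basis_eq]; exact P.cotangentSpaceBasis.constr_basis B m i
  let w : P.toExtension.Ring → X.E := fun r =>
    u r + X.incl (φ ((1 : B) ⊗ₜ KaehlerDifferential.D A P.toExtension.Ring r))
  have hw : ∀ a b, w (a * b) = w a * w b := fun a b => by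
    simp only [w, Derivation.leibniz, TensorProduct.tmul_add, one_tmul_smul, map_add, map_smul, map_mul,
      add_mul, mul_add]
    rw [mul_comm (X.incl (φ ((1 : B) ⊗ₜ KaehlerDifferential.D A P.toExtension.Ring a))) (u b),
      X.isExtension.mul_incl, X.isExtension.mul_incl, X.isExtension.mul_incl, hu, hu,
      (X.isExtension.exact (X.incl _)).2 ⟨_, rfl⟩, zero_smul, map_zero, add_zero]
    show u a * u b + (X.incl (algebraMap P.toExtension.Ring B a • _) + X.incl (algebraMap P.toExtension.Ring B b • _)) = _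
    simp only [pP, IsScalarTower.coe_toAlgHom']
    abel
  let wH : P.toExtension.Ring →+* X.E :=
    { toFun := w
      map_one' := by simp [w]
      map_mul' := hw
      map_zero' := by simp [w]
      map_add' := fun a b => by
        simp only [w, map_add, TensorProduct.tmul_add]
        abel }
  have : (v : P.toExtension.Ring →+* X.E) = wH := by
    refine MvPolynomial.ringHom_ext (fun a => ?_) fun i => ?_
    · show v (algebraMap A P.toExtension.Ring a) = w (algebraMap A P.toExtension.Ring a)
      simp [w]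
    · show v (var P i) = w (var P i)
      simp only [w]
      rw [hφ, hm, add_sub_cancel]
  exact RingHom.congr_fun this r

/-- A lift of the generators to an extension gives a cocycle. -/
theorem exists_cocycle_of_lift (Y : Ext A B M) (v : P.toExtension.Ring →ₐ[A] Y.E)
    (hv : ∀ r, Y.proj (v r) = pP P r) :
    ∃ c : cocycles1 P M, ∀ f : relMod P, Y.incl ((c : L1 P →ₗ[B] M) ((1 : B) ⊗ₜ f)) = v (jmap P f) := by
  classical
  have hk : ∀ s : σ, ∃ m : M, Y.incl m = v (rel P s) := fun s =>
    (Y.isExtension.exact _).1 ((hv _).trans (algebraMap_rel P s))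
  choose m hm using hk
  let c₀ : L1 P →ₗ[B] M := (L1basis P).constr B m
  have hc₀ : ∀ f : relMod P, Y.incl (c₀ ((1 : B) ⊗ₜ f)) = v (jmap P f) := fun f => by
    induction f using Finsupp.induction_linear with
    | zero => rw [TensorProduct.tmul_zero, map_zero, map_zero, map_zero, map_zero]
    | add a b ha hb => rw [TensorProduct.tmul_add, map_add, map_add, map_add, map_add, ha, hb]
    | single s r =>
      rw [show Finsupp.single s r = r • Finsupp.single s (1 : P.toExtension.Ring) by
        rw [Finsupp.smul_single, smul_eq_mul, mul_one], ← tmul_eq P,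
        show algebraMap P.toExtension.Ring B r ⊗ₜ[P.toExtension.Ring] Finsupp.single s (1 : P.toExtension.Ring)
          = algebraMap P.toExtension.Ring B r • L1basis P s by
          rw [L1basis_apply, TensorProduct.smul_tmul', smul_eq_mul, mul_one],
        LinearMap.map_smul, Module.Basis.constr_basis, LinearMap.map_smul, jmap_single, one_mul, smul_eq_mul,
        map_mul, ← hm,
        Y.isExtension.mul_incl, hv]
      rfl
  have hc₀' : c₀ ∈ cocycles1 P M := (mem_cocycles1_iff P M _).2 fun z => by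
    obtain ⟨z, rfl⟩ := Submodule.Quotient.mk_surjective _ z
    obtain ⟨q, rfl⟩ := exists_one_tmul P z
    rw [d2_mk_tmul]
    refine Y.isExtension.incl_injective ?_
    rw [hc₀, show jmap P (q : relMod P) = 0 from q.2, map_zero, map_zero]
  exact ⟨⟨c₀, hc₀'⟩, hc₀⟩

/-- Classes of extensions are `T¹`, through cocycles of lifts. -/
theorem exists_equiv_exalcom_spec : ∃ e : Exalcom A B M ≃ T1 P M, e 0 = 0 ∧
    ∀ (c : cocycles1 P M) (X : Ext A B M) (u : P.toExtension.Ring →ₐ[A] X.E), (∀ r, X.proj (u r) = pP P r) →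
      (∀ f : relMod P, X.incl ((c : L1 P →ₗ[B] M) ((1 : B) ⊗ₜ f)) = u (jmap P f)) →
      e X.cl = Submodule.Quotient.mk c := by
  classical
  choose X u hu hcu using exists_ext_of_cocycle (M := M) P
  let Φ : cocycles1 P M → Exalcom A B M := fun c => (X c).cl
  have hsurj : Function.Surjective Φ := by
    intro q
    induction q using Quotient.ind with
    | _ Y =>
      have hl : ∀ i, ∃ y : Y.E, Y.proj y = P.val i := fun i => Y.isExtension.proj_surjective _
      choose y hy using hl
      let v : P.toExtension.Ring →ₐ[A] Y.E :=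
        ({ MvPolynomial.aeval (R := A) y with } : MvPolynomial ι A →ₐ[A] Y.E)
      have hv : ∀ r, Y.proj (v r) = pP P r := fun r => by
        show _ = algebraMap P.toExtension.Ring B r
        rw [CotT.algebraMap_toExtension]
        have : Y.proj.comp (MvPolynomial.aeval (R := A) y) = MvPolynomial.aeval P.val :=
          MvPolynomial.algHom_ext fun i => by simp [hy]
        exact AlgHom.congr_fun this r
      obtain ⟨c, hc⟩ := exists_cocycle_of_lift P Y v hv
      exact ⟨c, Quotient.sound (nonempty_equiv_of_cocycle P c _ Y (u _) (hu _) v hv (hcu _) hc)⟩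
  have hfib : ∀ c c', Φ c = Φ c' ↔ (Submodule.Quotient.mk c : T1 P M) = Submodule.Quotient.mk c' := by
    intro c c'
    rw [← sub_eq_zero (a := (Submodule.Quotient.mk c : T1 P M)), ← Submodule.Quotient.mk_sub, mk_eq_zero_iff_T1]
    constructor
    · intro h
      obtain ⟨e⟩ := Quotient.exact h
      let v : P.toExtension.Ring →ₐ[A] (X c').E := e.toAlgEquiv.toAlgHom.comp (u c)
      have hv : ∀ r, (X c').proj (v r) = pP P r := fun r => (e.proj_apply _).trans (hu c r)
      obtain ⟨φ, hφ⟩ := exists_L0_of_lifts P (X c') (u c') v (hu c') hv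
      refine ⟨φ, (L1basis P).ext fun s => (X c').isExtension.incl_injective ?_⟩
      rw [L1basis_apply, LinearMap.comp_apply, d1_tmul, one_smul]
      show _ = (X c').incl ((c : L1 P →ₗ[B] M) _ - (c' : L1 P →ₗ[B] M) _)
      rw [map_sub, hcu c', ← e.apply_incl ((c : L1 P →ₗ[B] M) ((1 : B) ⊗ₜ Finsupp.single s 1)), hcu c]
      exact (eq_sub_iff_add_eq'.2 (hφ _).symm)
    · rintro ⟨φ, hφ⟩
      let v : P.toExtension.Ring →ₐ[A] (X c').E := ({ MvPolynomial.aeval (R := A)
        (fun i => u c' (var P i) + (X c').incl (φ ((1 : B) ⊗ₜ KaehlerDifferential.D A P.toExtension.Ring (var P i)))) with } :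
          MvPolynomial ι A →ₐ[A] (X c').E)
      have hvX : ∀ i, v (var P i) =
          u c' (var P i) + (X c').incl (φ ((1 : B) ⊗ₜ KaehlerDifferential.D A P.toExtension.Ring (var P i))) :=
        fun i => MvPolynomial.aeval_X _ i
      have hv : ∀ r, (X c').proj (v r) = pP P r := fun r => by
        have : (((X c').proj.comp v : P.toExtension.Ring →ₐ[A] B) : P.toExtension.Ring →+* B) = (pP P).toRingHom :=
          MvPolynomial.ringHom_ext (fun a => ((X c').proj.comp v).commutes a |>.trans ((pP P).commutes a).symm)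
            fun i => by
              show (X c').proj (v (var P i)) = pP P (var P i)
              rw [hvX, map_add, hu, ((X c').isExtension.exact _).2 ⟨_, rfl⟩, add_zero]
        exact RingHom.congr_fun this r
      obtain ⟨φ', hφ'⟩ := exists_L0_of_lifts P (X c') (u c') v (hu c') hv
      have hφφ : φ' = φ := P.cotangentSpaceBasis.ext fun i => by
        rw [basis_eq]
        exact (X c').isExtension.incl_injective (add_left_cancel ((hφ' (var P i)).symm.trans (hvX i)))
      subst hφφ
      refine Quotient.sound (nonempty_equiv_of_cocycle P c _ _ (u c) (hu c) v hv (hcu c) fun f => ?_)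
      rw [hφ', ← hcu, ← map_add]
      refine congrArg _ ?_
      have h1 := LinearMap.congr_fun hφ ((1 : B) ⊗ₜ f)
      rw [LinearMap.comp_apply, d1_tmul, one_smul] at h1
      rw [h1]
      exact (add_sub_cancel _ _).symm
  let g : T1 P M → Exalcom A B M := fun x => Φ (Submodule.Quotient.mk_surjective _ x).choose
  have hg : ∀ c, g (Submodule.Quotient.mk c) = Φ c := fun c =>
    (hfib _ _).2 (Submodule.Quotient.mk_surjective _ (Submodule.Quotient.mk c)).choose_spec
  have hgbij : Function.Bijective g := by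
    refine ⟨fun x y h => ?_, fun q => ?_⟩
    · obtain ⟨c, rfl⟩ := Submodule.Quotient.mk_surjective _ x
      obtain ⟨c', rfl⟩ := Submodule.Quotient.mk_surjective _ y
      rw [hg, hg] at h
      exact (hfib c c').1 h
    · obtain ⟨c, rfl⟩ := hsurj q
      exact ⟨_, hg c⟩
  refine ⟨(Equiv.ofBijective g hgbij).symm, ?_, fun c Y w hw hcw => ?_⟩
  swap
  · rw [Equiv.symm_apply_eq]
    refine Eq.trans ?_ (hg c).symm
    exact Quotient.sound (nonempty_equiv_of_cocycle P c Y _ w hw (u c) (hu c) hcw (hcu c))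
  rw [Equiv.symm_apply_eq]
  show _ = g (Submodule.Quotient.mk 0)
  rw [hg]
  refine Quotient.sound (nonempty_equiv_of_cocycle P 0 (Ext.trivial A B M) _
    ({ (TrivSqZeroExt.inlHom B M).comp (algebraMap P.toExtension.Ring B) with
        commutes' := fun a => congrArg (TrivSqZeroExt.inl (M := M))
          (IsScalarTower.algebraMap_apply A P.toExtension.Ring B a).symm } :
      P.toExtension.Ring →ₐ[A] (Ext.trivial A B M).E) (fun r => rfl) (u 0) (hu 0) (fun f => ?_) (hcu 0))
  show TrivSqZeroExt.inr (0 : M) = TrivSqZeroExt.inl (algebraMap P.toExtension.Ring B (jmap P f))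
  rw [algebraMap_jmap, TrivSqZeroExt.inr_zero, TrivSqZeroExt.inl_zero]

/-- Classes of extensions are `T¹`. -/
theorem exists_equiv_exalcom : ∃ e : Exalcom A B M ≃ T1 P M, e 0 = 0 :=
  (exists_equiv_exalcom_spec P).imp fun _ h => h.1

end Groth.Agent.Lib.CotTwo
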