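import Groth.Agent.Lib.CotTwo.Basic

/-!
# Values of the maps induced on `T²` by a map of modules
-/

noncomputable section

universe u v w t m m'

open CotT

namespace Groth.Agent.Lib.CotTwo

variable {A : Type u} {B : Type v} {ι : Type w} {σ : Type t} [CommRing A] [CommRing B] [Algebra A B]
  (P : Algebra.Presentation A B ι σ) {M : Type m} [AddCommGroup M] [Module B M]
  {N : Type m'} [AddCommGroup N] [Module B N]

lemma T2map_mk (g : M →ₗ[B] N) (a : L2 P →ₗ[B] M) :
    T2map P g ((LinearMap.range (d2Star P M)).mkQ a) = (LinearMap.range (d2Star P N)).mkQ (g ∘ₗ a) := rfl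

lemma exists_T2_mk (x : T2 P M) : ∃ a, (LinearMap.range (d2Star P M)).mkQ a = x :=
  Submodule.mkQ_surjective _ x

lemma T2map_comp_eq_zero {L : Type m'} [AddCommGroup L] [Module B L] (f : N →ₗ[B] M) (g : M →ₗ[B] L)
    (h : ∀ x, g (f x) = 0) (a : T2 P N) : T2map P g (T2map P f a) = 0 := by
  obtain ⟨a, rfl⟩ := exists_T2_mk P a
  rw [T2map_mk, T2map_mk, show g ∘ₗ (f ∘ₗ a) = 0 from LinearMap.ext fun z => h (a z), map_zero]

end Groth.Agent.Lib.CotTwo
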