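import Mathlib.LinearAlgebra.Quotient.Basic
import Mathlib.LinearAlgebra.Isomorphisms
import Mathlib.Algebra.Exact.Basic
import Mathlib.Tactic.Abel

/-!
# The long exact sequence of three term complexes, elementwise
-/

universe u

namespace Groth.Agent.Lib.CotTwo

/-- A map killing the kernel of a surjection descends. -/
theorem exists_descend {R : Type*} [CommRing R] {X Y Z : Type*} [AddCommGroup X] [Module R X] [AddCommGroup Y]
    [Module R Y] [AddCommGroup Z] [Module R Z] (s : X →ₗ[R] Y) (hs : Function.Surjective s) (t : X →ₗ[R] Z)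
    (h : ∀ x, s x = 0 → t x = 0) : ∃ δ : Y →ₗ[R] Z, ∀ x, δ (s x) = t x := by
  refine ⟨(Submodule.liftQ (LinearMap.ker s) t fun x hx => h x hx).comp
    (LinearMap.quotKerEquivOfSurjective s hs).symm.toLinearMap, fun x => ?_⟩
  have : (LinearMap.quotKerEquivOfSurjective s hs).symm (s x) = Submodule.Quotient.mk x := by
    rw [LinearEquiv.symm_apply_eq]; rfl
  rw [LinearMap.comp_apply, LinearEquiv.coe_coe, this]
  rfl

variable {R : Type*} [CommRing R]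
  {A0 A1 A2 B0 B1 B2 C0 C1 C2 : Type*}
  [AddCommGroup A0] [Module R A0] [AddCommGroup A1] [Module R A1] [AddCommGroup A2] [Module R A2]
  [AddCommGroup B0] [Module R B0] [AddCommGroup B1] [Module R B1] [AddCommGroup B2] [Module R B2]
  [AddCommGroup C0] [Module R C0] [AddCommGroup C1] [Module R C1] [AddCommGroup C2] [Module R C2]

/-- Three complexes with exact rows, surjective on the right in degrees `0` and `1`. -/
structure Rows (R A0 A1 A2 B0 B1 B2 C0 C1 C2 : Type*) [CommRing R]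
    [AddCommGroup A0] [Module R A0] [AddCommGroup A1] [Module R A1] [AddCommGroup A2] [Module R A2]
    [AddCommGroup B0] [Module R B0] [AddCommGroup B1] [Module R B1] [AddCommGroup B2] [Module R B2]
    [AddCommGroup C0] [Module R C0] [AddCommGroup C1] [Module R C1] [AddCommGroup C2] [Module R C2] where
  a0 : A0 →ₗ[R] A1
  a1 : A1 →ₗ[R] A2
  b0 : B0 →ₗ[R] B1
  b1 : B1 →ₗ[R] B2
  c0 : C0 →ₗ[R] C1
  c1 : C1 →ₗ[R] C2
  i0 : A0 →ₗ[R] B0
  i1 : A1 →ₗ[R] B1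
  i2 : A2 →ₗ[R] B2
  p0 : B0 →ₗ[R] C0
  p1 : B1 →ₗ[R] C1
  p2 : B2 →ₗ[R] C2
  hbb : ∀ x, b1 (b0 x) = 0
  hia0 : ∀ x, i1 (a0 x) = b0 (i0 x)
  hia1 : ∀ x, i2 (a1 x) = b1 (i1 x)
  hpb0 : ∀ x, p1 (b0 x) = c0 (p0 x)
  hpb1 : ∀ x, p2 (b1 x) = c1 (p1 x)
  hi0 : Function.Injective i0
  hi1 : Function.Injective i1
  hi2 : Function.Injective i2
  hex0 : Function.Exact i0 p0
  hex1 : Function.Exact i1 p1
  hex2 : Function.Exact i2 p2
  hp0 : Function.Surjective p0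
  hp1 : Function.Surjective p1

variable (S : Rows R A0 A1 A2 B0 B1 B2 C0 C1 C2)

namespace Rows

theorem exact_zero (x : B0) (hx : S.b0 x = 0) (hp : S.p0 x = 0) : ∃ a, S.a0 a = 0 ∧ S.i0 a = x := by
  obtain ⟨a, rfl⟩ := (S.hex0 x).1 hp
  exact ⟨a, S.hi1 (by rw [S.hia0, hx, map_zero]), rfl⟩

theorem exact_one (z : B1) (hz : S.b1 z = 0) (w : C0) (hw : S.c0 w = S.p1 z) :
    ∃ a, S.a1 a = 0 ∧ ∃ x, S.i1 a = z + S.b0 x := by
  obtain ⟨x, rfl⟩ := S.hp0 w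
  obtain ⟨a, ha⟩ := (S.hex1 (z + S.b0 (-x))).1 (by rw [map_add, S.hpb0, map_neg, map_neg, ← hw, add_neg_cancel])
  exact ⟨a, S.hi2 (by rw [S.hia1, ha, map_add, hz, S.hbb, add_zero, map_zero]), -x, ha⟩

theorem exact_two (z : B2) (w : C1) (hw : S.c1 w = S.p2 z) : ∃ a x, S.i2 a = z + S.b1 x := by
  obtain ⟨x, rfl⟩ := S.hp1 w
  obtain ⟨a, ha⟩ := (S.hex2 (z + S.b1 (-x))).1 (by rw [map_add, S.hpb1, map_neg, map_neg, ← hw, add_neg_cancel])
  exact ⟨a, -x, ha⟩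

variable {H1A H1B H1C H2A H2B : Type*} [AddCommGroup H1A] [Module R H1A] [AddCommGroup H1B] [Module R H1B]
  [AddCommGroup H1C] [Module R H1C] [AddCommGroup H2A] [Module R H2A] [AddCommGroup H2B] [Module R H2B]

/-- The connecting map in degree `0`. -/
theorem exists_δ0 (π : LinearMap.ker S.a1 →ₗ[R] H1A) (hπ : Function.Surjective π)
    (hπ0 : ∀ z, π z = 0 ↔ ∃ x, S.a0 x = z) :
    ∃ δ : LinearMap.ker S.c0 →ₗ[R] H1A,
      (∀ (w : LinearMap.ker S.c0), δ w = 0 ↔ ∃ x, S.b0 x = 0 ∧ S.p0 x = w) ∧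
      (∀ z : LinearMap.ker S.a1, (∃ x, S.b0 x = S.i1 z) ↔ π z ∈ Set.range δ) := by
  let X : Submodule R B0 := LinearMap.ker (S.c0.comp S.p0)
  let s : X →ₗ[R] LinearMap.ker S.c0 := (S.p0.comp X.subtype).codRestrict _ fun x => x.2
  have hs : Function.Surjective s := fun w => by
    obtain ⟨x, hx⟩ := S.hp0 w
    exact ⟨⟨x, show S.c0 (S.p0 x) = 0 by rw [hx]; exact w.2⟩, Subtype.ext hx⟩
  let ψ : X →ₗ[R] B1 := S.b0.comp X.subtype
  have hψ : ∀ x, ψ x ∈ LinearMap.range S.i1 := fun x => (S.hex1 _).1 ((S.hpb0 _).trans x.2)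
  let t₁ : X →ₗ[R] A1 := (LinearEquiv.ofInjective S.i1 S.hi1).symm.toLinearMap.comp (ψ.codRestrict _ hψ)
  have ht₁ : ∀ x : X, S.i1 (t₁ x) = S.b0 x := fun x =>
    congrArg Subtype.val ((LinearEquiv.ofInjective S.i1 S.hi1).apply_symm_apply ⟨ψ x, hψ x⟩)
  have ht₁' : ∀ x, t₁ x ∈ LinearMap.ker S.a1 := fun x => S.hi2 (by rw [S.hia1, ht₁, S.hbb, map_zero])
  let t : X →ₗ[R] H1A := π.comp (t₁.codRestrict _ ht₁')
  have ht : ∀ (x : X) (z : LinearMap.ker S.a1), S.i1 z = S.b0 x → t x = π z := fun x z h =>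
    congrArg π (Subtype.ext (S.hi1 ((ht₁ x).trans h.symm)))
  obtain ⟨δ, hδ⟩ := exists_descend s hs t fun x hx => by
    obtain ⟨a, ha⟩ := (S.hex0 x.1).1 (congrArg Subtype.val hx)
    exact (hπ0 _).2 ⟨a, S.hi1 (by
      show S.i1 (S.a0 a) = S.i1 (t₁ x)
      rw [S.hia0, ha, ht₁])⟩
  refine ⟨δ, fun w => ?_, fun z => ?_⟩
  · obtain ⟨x, rfl⟩ := hs w
    rw [hδ]
    constructor
    · intro h
      obtain ⟨a, ha⟩ := (hπ0 _).1 h
      have ha' : S.b0 (S.i0 a) = S.b0 x := by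
        rw [← S.hia0, ha]; exact ht₁ x
      refine ⟨x.1 - S.i0 a, by rw [map_sub, ha', sub_self], ?_⟩
      rw [map_sub, S.hex0.apply_apply_eq_zero, sub_zero]
      rfl
    · rintro ⟨y, hy, hyx⟩
      obtain ⟨a, ha⟩ := (S.hex0 (x.1 - y)).1 (by rw [map_sub, hyx]; exact sub_self _)
      refine (hπ0 _).2 ⟨a, S.hi1 ?_⟩
      show S.i1 (S.a0 a) = S.i1 (t₁ x)
      rw [S.hia0, ha, map_sub, hy, sub_zero, ht₁]
  · constructor
    · rintro ⟨x, hx⟩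
      have hxX : x ∈ X := by
        show S.c0 (S.p0 x) = 0
        rw [← S.hpb0, hx, S.hex1.apply_apply_eq_zero]
      exact ⟨s ⟨x, hxX⟩, by rw [hδ]; exact ht ⟨x, hxX⟩ z hx.symm⟩
    · rintro ⟨w, hw⟩
      obtain ⟨x, rfl⟩ := hs w
      rw [hδ] at hw
      have hw' : π (t₁.codRestrict _ ht₁' x) = π z := hw
      rw [← sub_eq_zero, ← map_sub] at hw'
      obtain ⟨a, ha⟩ := (hπ0 _).1 hw'
      refine ⟨x.1 - S.i0 a, ?_⟩
      rw [map_sub, ← S.hia0, ha, Submodule.coe_sub, map_sub]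
      show S.b0 x - (S.i1 (t₁ x) - S.i1 z) = S.i1 z
      rw [ht₁, sub_sub_cancel]

/-- The connecting map in degree `1`. -/
theorem exists_δ1 (π : LinearMap.ker S.c1 →ₗ[R] H1C) (hπ : Function.Surjective π)
    (hπ0 : ∀ z, π z = 0 ↔ ∃ x, S.c0 x = z) (q : A2 →ₗ[R] H2A) (hq : Function.Surjective q)
    (hq0 : ∀ z, q z = 0 ↔ ∃ x, S.a1 x = z) :
    ∃ δ : H1C →ₗ[R] H2A,
      (∀ (w : LinearMap.ker S.c1), δ (π w) = 0 ↔ ∃ z x, S.b1 z = 0 ∧ S.p1 z = w + S.c0 x) ∧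
      (∀ a, (∃ z, S.b1 z = S.i2 a) ↔ q a ∈ Set.range δ) := by
  let X : Submodule R B1 := LinearMap.ker (S.c1.comp S.p1)
  let s : X →ₗ[R] H1C := π.comp ((S.p1.comp X.subtype).codRestrict _ fun x => x.2)
  have hs : Function.Surjective s := fun y => by
    obtain ⟨w, rfl⟩ := hπ y
    obtain ⟨x, hx⟩ := S.hp1 w
    exact ⟨⟨x, show S.c1 (S.p1 x) = 0 by rw [hx]; exact w.2⟩, congrArg π (Subtype.ext hx)⟩
  let ψ : X →ₗ[R] B2 := S.b1.comp X.subtype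
  have hψ : ∀ x, ψ x ∈ LinearMap.range S.i2 := fun x => (S.hex2 _).1 ((S.hpb1 _).trans x.2)
  let t₁ : X →ₗ[R] A2 := (LinearEquiv.ofInjective S.i2 S.hi2).symm.toLinearMap.comp (ψ.codRestrict _ hψ)
  have ht₁ : ∀ x : X, S.i2 (t₁ x) = S.b1 x := fun x =>
    congrArg Subtype.val ((LinearEquiv.ofInjective S.i2 S.hi2).apply_symm_apply ⟨ψ x, hψ x⟩)
  obtain ⟨δ, hδ⟩ := exists_descend s hs (q.comp t₁) fun x hx => by
    obtain ⟨w, hw⟩ := (hπ0 _).1 hx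
    obtain ⟨y, rfl⟩ := S.hp0 w
    obtain ⟨a, ha⟩ := (S.hex1 (x.1 - S.b0 y)).1 (by
      rw [map_sub, S.hpb0, hw]; exact sub_self _)
    refine (hq0 _).2 ⟨a, S.hi2 ?_⟩
    rw [S.hia1, ha, map_sub, S.hbb, sub_zero, ht₁]
  refine ⟨δ, fun w => ?_, fun a => ?_⟩
  · obtain ⟨x₀, hx₀⟩ := S.hp1 w
    let x : X := ⟨x₀, show S.c1 (S.p1 x₀) = 0 by rw [hx₀]; exact w.2⟩
    have hsx : s x = π w := congrArg π (Subtype.ext hx₀)
    rw [← hsx, hδ]
    constructor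
    · intro h
      obtain ⟨a, ha⟩ := (hq0 _).1 h
      have ha' : S.b1 (S.i1 a) = S.b1 x₀ := by
        rw [← S.hia1, ha]; exact ht₁ x
      refine ⟨x₀ - S.i1 a, 0, by rw [map_sub, ha', sub_self], ?_⟩
      rw [map_sub, S.hex1.apply_apply_eq_zero, sub_zero, map_zero, add_zero, hx₀]
    · rintro ⟨z, v, hz, hzw⟩
      obtain ⟨y, rfl⟩ := S.hp0 v
      obtain ⟨a, ha⟩ := (S.hex1 (x₀ - (z - S.b0 y))).1 (by
        rw [map_sub, map_sub, S.hpb0, hzw, hx₀]; abel)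
      refine (hq0 _).2 ⟨a, S.hi2 ?_⟩
      rw [S.hia1, ha, map_sub, map_sub, hz, S.hbb, sub_zero, sub_zero, ht₁]
  · constructor
    · rintro ⟨z, hz⟩
      have hzX : z ∈ X := by
        show S.c1 (S.p1 z) = 0
        rw [← S.hpb1, hz, S.hex2.apply_apply_eq_zero]
      refine ⟨s ⟨z, hzX⟩, ?_⟩
      rw [hδ]
      exact congrArg q (S.hi2 ((ht₁ _).trans hz))
    · rintro ⟨y, hy⟩
      obtain ⟨x, rfl⟩ := hs y
      rw [hδ, LinearMap.comp_apply, ← sub_eq_zero, ← map_sub] at hy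
      obtain ⟨c, hc⟩ := (hq0 _).1 hy
      refine ⟨x.1 - S.i1 c, ?_⟩
      rw [map_sub, ← S.hia1, hc, map_sub, ht₁, sub_sub_cancel]

end Rows

end Groth.Agent.Lib.CotTwo
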