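import Groth.Agent.Lib.CotTwo.Indep
import Groth.Agent.Lib.CotTwo.Snake

/-!
# Presentations of polynomial algebras and change of the base to the polynomial ring
-/

noncomputable section

universe u v w t w' t' m

open TensorProduct CotT

namespace Groth.Agent.Lib.CotTwo

variable {A : Type u} {B : Type v} [CommRing A] [CommRing B] [Algebra A B]

section Poly

variable {κ : Type w} (e : MvPolynomial κ A ≃ₐ[A] B)

/-- The presentation of a polynomial algebra without relations. -/
def polyPres : Algebra.Presentation A B κ (ULift.{t} PEmpty.{1}) where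
  toGenerators := Algebra.Generators.ofSurjective (fun i => e (MvPolynomial.X i)) (by
    have : MvPolynomial.aeval (R := A) (fun i => e (MvPolynomial.X i)) = e.toAlgHom :=
      MvPolynomial.algHom_ext fun i => by simp
    rw [this]
    exact e.surjective)
  relation x := PEmpty.elim x.down
  span_range_relation_eq_ker := by
    rw [Set.range_eq_empty, Ideal.span_empty, eq_comm, Algebra.Generators.ker_eq_ker_aeval_val,
      ← RingHom.injective_iff_ker_eq_bot]
    show Function.Injective (MvPolynomial.aeval (R := A) fun i => e (MvPolynomial.X i))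
    have : MvPolynomial.aeval (R := A) (fun i => e (MvPolynomial.X i)) = e.toAlgHom :=
      MvPolynomial.algHom_ext fun i => by simp
    rw [this]
    exact e.injective

variable (M : Type m) [AddCommGroup M] [Module B M]

lemma subsingleton_T1_polyPres : Subsingleton (T1 (polyPres.{u, v, w, t} e) M) := by
  have : Subsingleton (L1 (polyPres.{u, v, w, t} e) →ₗ[B] M) :=
    ⟨fun a b => (L1basis _).ext fun s => PEmpty.elim s.down⟩
  infer_instance

lemma subsingleton_T2_polyPres : Subsingleton (T2 (polyPres.{u, v, w, t} e) M) := by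
  have : Subsingleton (relKer (polyPres.{u, v, w, t} e)) :=
    ⟨fun a b => Subtype.ext (Finsupp.ext fun s => PEmpty.elim s.down)⟩
  have : Subsingleton (L2 (polyPres.{u, v, w, t} e) →ₗ[B] M) := ⟨fun a b => LinearMap.ext fun z => by
    obtain ⟨y, rfl⟩ := Submodule.Quotient.mk_surjective _ z
    obtain ⟨q, rfl⟩ := exists_one_tmul (polyPres.{u, v, w, t} e) y
    rw [Subsingleton.elim q 0, TensorProduct.tmul_zero, Submodule.Quotient.mk_zero, map_zero, map_zero]⟩
  infer_instance

end Poly

section OverRing

variable {ι : Type w} {σ : Type t} (P : Algebra.Presentation A B ι σ)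

/-- `B` presented over the polynomial ring of `P` without variables. -/
def overRingPres : Algebra.Presentation P.toExtension.Ring B PEmpty.{w' + 1} σ where
  toGenerators := Algebra.Generators.ofSurjectiveAlgebraMap (algebraMap_surjective P)
  relation s := MvPolynomial.C (rel P s)
  span_range_relation_eq_ker := by
    refine le_antisymm (Ideal.span_le.2 ?_) fun x hx => ?_
    · rintro _ ⟨s, rfl⟩
      rw [SetLike.mem_coe, Algebra.Generators.ker_eq_ker_aeval_val, RingHom.mem_ker, MvPolynomial.aeval_C]
      exact algebraMap_rel P s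
    · obtain ⟨r, rfl⟩ := MvPolynomial.C_surjective (R := P.toExtension.Ring) PEmpty x
      rw [Algebra.Generators.ker_eq_ker_aeval_val, RingHom.mem_ker, MvPolynomial.aeval_C] at hx
      obtain ⟨f, rfl⟩ := exists_jmap_eq P hx
      rw [jmap, Finsupp.linearCombination_apply, map_finsuppSum]
      refine Ideal.sum_mem _ fun s _ => ?_
      show MvPolynomial.C (f s * rel P s) ∈ _
      rw [map_mul]
      exact Ideal.mul_mem_left _ _ (Ideal.subset_span ⟨s, rfl⟩)

/-- The constants. -/
abbrev Cr : P.toExtension.Ring →+* (overRingPres.{u, v, w, t, w'} P).toExtension.Ring := MvPolynomial.C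

/-- The variables as constants. -/
abbrev overVal (i : ι) : (overRingPres.{u, v, w, t, w'} P).toExtension.Ring :=
  Cr.{u, v, w, t, w'} P (var P i)

lemma aeval_overVal (r : P.toExtension.Ring) :
    MvPolynomial.aeval (R := A) (overVal.{u, v, w, t, w'} P) (r : MvPolynomial ι A) = Cr.{u, v, w, t, w'} P r := by
  have h : ((MvPolynomial.aeval (R := A) (overVal.{u, v, w, t, w'} P)).toRingHom :
      P.toExtension.Ring →+* _) = Cr.{u, v, w, t, w'} P :=
    MvPolynomial.ringHom_ext (fun a => MvPolynomial.aeval_C _ a) fun i => MvPolynomial.aeval_X _ i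
  exact RingHom.congr_fun h r

/-- The morphism to the presentation over the polynomial ring. -/
def toOverRing : PresHom P (overRingPres.{u, v, w, t, w'} P) where
  hom := ⟨overVal.{u, v, w, t, w'} P, fun i =>
    (MvPolynomial.aeval_C _ (var P i)).trans ((algebraMap_toExtension P _).trans (MvPolynomial.aeval_X _ _))⟩
  relVal s := Finsupp.single s 1
  jmap_relVal s := by
    rw [jmap_single, one_mul]
    exact (aeval_overVal P (rel P s)).symm

lemma toOverRing_ringHom (r : P.toExtension.Ring) :
    (toOverRing.{u, v, w, t, w'} P).ringHom r = Cr.{u, v, w, t, w'} P r :=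
  aeval_overVal P r

lemma toOverRing_relModMap (f : relMod P) (s : σ) :
    (toOverRing.{u, v, w, t, w'} P).relModMap f s = Cr.{u, v, w, t, w'} P (f s) := by
  classical
  induction f using Finsupp.induction_linear with
  | zero => rw [map_zero, Finsupp.zero_apply, Finsupp.zero_apply, map_zero]
  | add a b ha hb => rw [map_add, Finsupp.add_apply, Finsupp.add_apply, ha, hb, map_add]
  | single s' r =>
    rw [PresHom.relModMap_single, toOverRing_ringHom]
    show (Cr.{u, v, w, t, w'} P r • (Finsupp.single s' 1 : relMod (overRingPres.{u, v, w, t, w'} P))) s = _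
    rw [Finsupp.smul_apply, Finsupp.single_apply, Finsupp.single_apply, smul_eq_mul]
    split
    · exact mul_one _
    · rw [mul_zero, map_zero]

lemma toOverRing_relModMap_bijective :
    Function.Bijective (toOverRing.{u, v, w, t, w'} P).relModMap := by
  have hinj : Function.Injective (Cr.{u, v, w, t, w'} P) := MvPolynomial.C_injective _ _
  have hsurj : Function.Surjective (Cr.{u, v, w, t, w'} P) :=
    MvPolynomial.C_surjective (R := P.toExtension.Ring) PEmpty.{w' + 1}
  refine ⟨fun a b hab => Finsupp.ext fun s => hinj ?_, fun g => ?_⟩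
  · rw [← toOverRing_relModMap, ← toOverRing_relModMap, hab]
  · choose r hr using hsurj
    refine ⟨Finsupp.onFinset g.support (fun s => r (g s)) fun s hs => Finsupp.mem_support_iff.2 fun h0 => hs ?_,
      Finsupp.ext fun s => ?_⟩
    · exact hinj ((hr _).trans (h0.trans (map_zero _).symm))
    · rw [toOverRing_relModMap, Finsupp.onFinset_apply, hr]

end OverRing

section L2

variable {ι : Type w} {σ : Type t} (P : Algebra.Presentation A B ι σ)

lemma smul_mem_trivRelKer {x : P.toExtension.Ring} (hx : algebraMap P.toExtension.Ring B x = 0) (q : relKer P) :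
    x • q ∈ trivRelKer P := by
  obtain ⟨a, rfl⟩ := exists_jmap_eq P hx
  show jmap P a • (q : relMod P) ∈ trivRel P
  exact Submodule.subset_span ⟨a, q, by rw [show jmap P (q : relMod P) = 0 from q.2, zero_smul, sub_zero]⟩

lemma mk_one_tmul_eq_zero_iff (q : relKer P) :
    (Submodule.Quotient.mk ((1 : B) ⊗ₜ q) : L2 P) = 0 ↔ q ∈ trivRelKer P := by
  constructor
  · intro h
    let N := relMod P ⧸ trivRel P
    let κ : relKer P →ₗ[P.toExtension.Ring] N := (trivRel P).mkQ.comp (relKer P).subtype
    obtain ⟨δ, hδ⟩ := exists_descend (Algebra.linearMap P.toExtension.Ring B) (algebraMap_surjective P)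
      (Z := relKer P →ₗ[P.toExtension.Ring] N)
      (LinearMap.toSpanSingleton P.toExtension.Ring (relKer P →ₗ[P.toExtension.Ring] N) κ)
      fun x hx => LinearMap.ext fun y => by
        show x • (trivRel P).mkQ (y : relMod P) = 0
        rw [← map_smul, Submodule.mkQ_apply, Submodule.Quotient.mk_eq_zero]
        exact smul_mem_trivRelKer P hx y
    have h1 : ∀ y, TensorProduct.lift δ ((1 : B) ⊗ₜ y) = κ y := fun y => by
      rw [TensorProduct.lift.tmul, ← map_one (algebraMap P.toExtension.Ring B)]
      show δ (Algebra.linearMap P.toExtension.Ring B 1) y = _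
      rw [hδ, LinearMap.toSpanSingleton_apply, one_smul]
    obtain ⟨z, hz⟩ := (Submodule.Quotient.mk_eq_zero _).1 h
    obtain ⟨k, rfl⟩ := exists_one_tmul P z
    have h2 := congrArg (TensorProduct.lift δ) hz
    rw [LinearMap.baseChange_tmul, h1, h1] at h2
    show (q : relMod P) ∈ trivRel P
    refine (Submodule.Quotient.mk_eq_zero _).1 ?_
    show κ q = 0
    rw [← h2]
    exact (Submodule.Quotient.mk_eq_zero _).2 k.2
  · intro h
    exact (Submodule.Quotient.mk_eq_zero _).2 ⟨(1 : B) ⊗ₜ ⟨q, h⟩, rfl⟩

end L2

section OverRingT2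

omit [Algebra A B] in
/-- A map semilinear over `B → B` as a linear map. -/
def asLinear {X Y : Type*} [AddCommMonoid X] [Module B X] [AddCommMonoid Y] [Module B Y]
    (g : X →ₛₗ[(algebraMap B B : B →+* B)] Y) : X →ₗ[B] Y where
  toFun := g
  map_add' := g.map_add
  map_smul' := g.map_smulₛₗ

variable {ι : Type w} {σ : Type t} (P : Algebra.Presentation A B ι σ)

lemma toOverRing_L1map_bijective : Function.Bijective (toOverRing.{u, v, w, t, w'} P).L1map := by
  let h := toOverRing.{u, v, w, t, w'} P
  let e : L1 P ≃ₗ[B] L1 (overRingPres.{u, v, w, t, w'} P) :=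
    (L1basis P).equiv (L1basis (overRingPres.{u, v, w, t, w'} P)) (Equiv.refl σ)
  have he : ∀ x, e x = h.L1map x := fun x => by
    have : e.toLinearMap = asLinear h.L1map := (L1basis P).ext fun s => by
      show e (L1basis P s) = h.L1map (L1basis P s)
      rw [Module.Basis.equiv_apply, L1basis_apply, L1basis_apply, PresHom.L1map_tmul, map_one,
        PresHom.relModMap_single, map_one, one_smul]
      rfl
    exact LinearMap.congr_fun this x
  exact (funext he : (e : L1 P → _) = h.L1map) ▸ e.bijective

lemma toOverRing_L2map_bijective : Function.Bijective (toOverRing.{u, v, w, t, w'} P).L2map := by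
  let h := toOverRing.{u, v, w, t, w'} P
  obtain ⟨hi, hs⟩ := toOverRing_relModMap_bijective.{u, v, w, t, w'} P
  have hC : Function.Injective h.ringHom := fun a b hab => by
    rw [toOverRing_ringHom, toOverRing_ringHom] at hab
    exact MvPolynomial.C_injective _ _ hab
  have hCs : Function.Surjective h.ringHom := fun x => by
    obtain ⟨r, hr⟩ := MvPolynomial.C_surjective (R := P.toExtension.Ring) PEmpty.{w' + 1} x
    exact ⟨r, (toOverRing_ringHom P r).trans hr⟩
  have hker : ∀ g : relMod P, h.relModMap g ∈ relKer (overRingPres.{u, v, w, t, w'} P) → g ∈ relKer P :=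
    fun g hg => LinearMap.mem_ker.2 (hC (by
      rw [map_zero, ← PresHom.jmap_relModMap]
      exact hg))
  have htriv : ∀ y ∈ trivRel (overRingPres.{u, v, w, t, w'} P), ∃ x ∈ trivRel P, h.relModMap x = y := by
    intro y hy
    induction hy using Submodule.span_induction with
    | mem y hy =>
      obtain ⟨a', b', rfl⟩ := hy
      obtain ⟨a, rfl⟩ := hs a'
      obtain ⟨b, rfl⟩ := hs b'
      refine ⟨jmap P a • b - jmap P b • a, Submodule.subset_span ⟨a, b, rfl⟩, ?_⟩
      rw [map_sub, LinearMap.map_smulₛₗ, LinearMap.map_smulₛₗ, PresHom.jmap_relModMap, PresHom.jmap_relModMap]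
    | zero => exact ⟨0, zero_mem _, map_zero _⟩
    | add x y _ _ hx hy =>
      obtain ⟨a, ha, rfl⟩ := hx
      obtain ⟨b, hb, rfl⟩ := hy
      exact ⟨a + b, add_mem ha hb, map_add _ _ _⟩
    | smul c x _ hx =>
      obtain ⟨a, ha, rfl⟩ := hx
      obtain ⟨c, rfl⟩ := hCs c
      exact ⟨c • a, Submodule.smul_mem _ c ha, LinearMap.map_smulₛₗ _ _ _⟩
  refine ⟨(injective_iff_map_eq_zero h.L2map).2 fun z hz => ?_, fun z => ?_⟩
  · obtain ⟨y, rfl⟩ := Submodule.Quotient.mk_surjective _ z
    obtain ⟨q, rfl⟩ := exists_one_tmul P y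
    rw [PresHom.L2map_mk_tmul, map_one, mk_one_tmul_eq_zero_iff] at hz
    obtain ⟨x, hx, hxq⟩ := htriv _ hz
    refine (mk_one_tmul_eq_zero_iff P q).2 ?_
    show (q : relMod P) ∈ trivRel P
    have hxq' : x = (q : relMod P) := hi hxq
    rwa [← hxq']
  · obtain ⟨y, rfl⟩ := Submodule.Quotient.mk_surjective _ z
    obtain ⟨q', rfl⟩ := exists_one_tmul (overRingPres.{u, v, w, t, w'} P) y
    obtain ⟨g, hg⟩ := hs q'
    let q : relKer P := ⟨g, hker g (by
      show h.relModMap g ∈ relKer (overRingPres.{u, v, w, t, w'} P)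
      rw [hg]; exact q'.2)⟩
    refine ⟨Submodule.Quotient.mk ((1 : B) ⊗ₜ q), ?_⟩
    rw [PresHom.L2map_mk_tmul, map_one, show h.relKerMap q = q' from Subtype.ext hg]

set_option maxHeartbeats 800000 in
/-- `T²` does not see the base of the polynomial ring. -/
theorem bijective_toOverRing_T2pull (M : Type m) [AddCommGroup M] [Module B M] :
    Function.Bijective ((toOverRing.{u, v, w, t, w'} P).T2pull M) := by
  let h := toOverRing.{u, v, w, t, w'} P
  let e1 : L1 P ≃ₗ[B] L1 (overRingPres.{u, v, w, t, w'} P) :=
    LinearEquiv.ofBijective (asLinear h.L1map) (toOverRing_L1map_bijective P)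
  let e2 : L2 P ≃ₗ[B] L2 (overRingPres.{u, v, w, t, w'} P) :=
    LinearEquiv.ofBijective (asLinear h.L2map) (toOverRing_L2map_bijective P)
  refine ⟨(injective_iff_map_eq_zero (h.T2pull M)).2 fun x hx => ?_, fun x => ?_⟩
  · obtain ⟨ψ, rfl⟩ := Submodule.Quotient.mk_surjective _ x
    have hx' : (Submodule.Quotient.mk (h.pull2 M ψ) : T2 P M) = 0 := hx
    rw [Submodule.Quotient.mk_eq_zero] at hx'
    obtain ⟨φ, hφ⟩ := hx'
    refine (Submodule.Quotient.mk_eq_zero _).2 ⟨φ ∘ₗ e1.symm.toLinearMap, LinearMap.ext fun z => ?_⟩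
    obtain ⟨y, rfl⟩ := e2.surjective z
    show φ (e1.symm (d2 _ (h.L2map y))) = ψ (h.L2map y)
    rw [PresHom.d2_L2map, show e1.symm (h.L1map (d2 P y)) = d2 P y from e1.symm_apply_apply _]
    exact LinearMap.congr_fun hφ y
  · obtain ⟨ψ, rfl⟩ := Submodule.Quotient.mk_surjective _ x
    refine ⟨Submodule.Quotient.mk (ψ ∘ₗ e2.symm.toLinearMap), ?_⟩
    show (Submodule.Quotient.mk (h.pull2 M _) : T2 P M) = _
    refine congrArg _ (LinearMap.ext fun y => ?_)
    show ψ (e2.symm (h.L2map y)) = ψ y
    rw [show e2.symm (h.L2map y) = y from e2.symm_apply_apply y]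

end OverRingT2

end Groth.Agent.Lib.CotTwo
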