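import Groth.Prelude.Def_CotT2
import Mathlib.RingTheory.Ideal.Operations
import Mathlib.LinearAlgebra.TensorProduct.Quotient
import Mathlib.RingTheory.Ideal.Maps

/-!
# Basic facts on the complex `L•` of a presentation
-/

noncomputable section

universe u v w t m

open TensorProduct CotT

namespace Groth.Agent.Lib.CotTwo

variable {A : Type u} {B : Type v} {ι : Type w} {σ : Type t}
variable [CommRing A] [CommRing B] [Algebra A B]
variable (P : Algebra.Presentation A B ι σ)

lemma algebraMap_surjective : Function.Surjective (algebraMap P.toExtension.Ring B) :=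
  fun b => ⟨P.toExtension.σ b, P.toExtension.algebraMap_σ b⟩

lemma tmul_eq (r : P.toExtension.Ring) (f : relMod P) :
    (algebraMap P.toExtension.Ring B r) ⊗ₜ[P.toExtension.Ring] f = (1 : B) ⊗ₜ[P.toExtension.Ring] (r • f) := by
  rw [← TensorProduct.smul_tmul, Algebra.smul_def, mul_one]

lemma exists_one_tmul {X : Type*} [AddCommMonoid X] [Module P.toExtension.Ring X]
    (x : B ⊗[P.toExtension.Ring] X) : ∃ y : X, x = (1 : B) ⊗ₜ y := by
  induction x using TensorProduct.induction_on with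
  | zero => exact ⟨0, (TensorProduct.tmul_zero _ _).symm⟩
  | add x y hx hy =>
    obtain ⟨a, rfl⟩ := hx
    obtain ⟨b, rfl⟩ := hy
    exact ⟨a + b, (TensorProduct.tmul_add _ _ _).symm⟩
  | tmul b y =>
    obtain ⟨r, rfl⟩ := algebraMap_surjective P b
    exact ⟨r • y, by rw [← TensorProduct.smul_tmul, Algebra.smul_def, mul_one]⟩

lemma exists_jmap_eq {x : P.toExtension.Ring} (hx : algebraMap P.toExtension.Ring B x = 0) :
    ∃ f : relMod P, jmap P f = x := by
  have h : x ∈ LinearMap.range (jmap P) := by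
    rw [range_jmap]; exact hx
  exact h

lemma toCot_surjective : Function.Surjective (toCot P) := fun c => by
  obtain ⟨x, rfl⟩ := Algebra.Extension.Cotangent.mk_surjective c
  obtain ⟨f, hf⟩ := exists_jmap_eq P x.2
  refine ⟨(1 : B) ⊗ₜ f, ?_⟩
  rw [toCot_tmul, one_smul]
  exact congrArg _ (Subtype.ext hf)

lemma exact_d2_toCot : Function.Exact (d2 P) (toCot P) := by
  intro x
  constructor
  · intro hx
    obtain ⟨f, rfl⟩ := exists_one_tmul P x
    rw [toCot_tmul, one_smul] at hx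
    have h2 : jmap P f ∈ P.toExtension.ker * P.toExtension.ker := by
      rw [← pow_two]
      exact Algebra.Extension.Cotangent.mk_eq_zero_iff _ |>.1 hx
    obtain ⟨f', hf', hz⟩ : ∃ f' : relMod P, jmap P f' = jmap P f ∧
        (1 : B) ⊗ₜ[P.toExtension.Ring] f' = (0 : L1 P) := by
      refine Submodule.mul_induction_on h2 (fun a ha b hb => ?_) fun a b ha hb => ?_
      · obtain ⟨g, rfl⟩ := exists_jmap_eq P hb
        refine ⟨a • g, map_smul _ _ _, ?_⟩
        rw [← TensorProduct.smul_tmul, Algebra.smul_def, show algebraMap P.toExtension.Ring B a = 0 from ha,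
          zero_mul, TensorProduct.zero_tmul]
      · obtain ⟨a', rfl, ha'⟩ := ha
        obtain ⟨b', rfl, hb'⟩ := hb
        exact ⟨a' + b', map_add _ _ _, by rw [TensorProduct.tmul_add, ha', hb', add_zero]⟩
    let q : relKer P := ⟨f - f', LinearMap.mem_ker.2 (by rw [map_sub, hf', sub_self])⟩
    refine ⟨Submodule.Quotient.mk ((1 : B) ⊗ₜ q), ?_⟩
    rw [d2_mk_tmul]
    show (1 : B) ⊗ₜ[P.toExtension.Ring] (f - f') = _
    rw [TensorProduct.tmul_sub, hz, sub_zero]
  · rintro ⟨y, rfl⟩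
    exact LinearMap.congr_fun (toCot_comp_d2 P) y

variable (M : Type m) [AddCommGroup M] [Module B M]

lemma mem_cocycles1_iff (c : L1 P →ₗ[B] M) :
    c ∈ cocycles1 P M ↔ ∀ z : L2 P, c (d2 P z) = 0 :=
  ⟨fun h z => LinearMap.congr_fun (LinearMap.mem_ker.1 h) z, fun h => LinearMap.mem_ker.2 (LinearMap.ext h)⟩

/-- A cocycle factors through `I / I ^ 2`. -/
lemma exists_comp_toCot (c : cocycles1 P M) :
    ∃ φ : P.toExtension.Cotangent →ₗ[B] M, φ ∘ₗ toCot P = c := by
  have hker : LinearMap.ker (toCot P) ≤ LinearMap.ker (c : L1 P →ₗ[B] M) := fun x hx => by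
    obtain ⟨z, rfl⟩ := (exact_d2_toCot P x).1 hx
    exact (mem_cocycles1_iff P M _).1 c.2 z
  let e := LinearMap.quotKerEquivOfSurjective (toCot P) (toCot_surjective P)
  refine ⟨(Submodule.liftQ _ (c : L1 P →ₗ[B] M) hker).comp e.symm.toLinearMap, LinearMap.ext fun x => ?_⟩
  have : e.symm (toCot P x) = Submodule.Quotient.mk x := by
    rw [LinearEquiv.symm_apply_eq]
    rfl
  show Submodule.liftQ _ (c : L1 P →ₗ[B] M) hker (e.symm (toCot P x)) = _
  rw [this]
  rfl

lemma homToT1_mk (φ : P.toExtension.Cotangent →ₗ[B] M) (h : φ ∘ₗ toCot P ∈ cocycles1 P M) :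
    homToT1 P M φ = Submodule.Quotient.mk ⟨φ ∘ₗ toCot P, h⟩ := rfl

lemma comp_toCot_mem (φ : P.toExtension.Cotangent →ₗ[B] M) : φ ∘ₗ toCot P ∈ cocycles1 P M := by
  rw [mem_cocycles1_iff]
  intro z
  show φ (toCot P (d2 P z)) = 0
  rw [← LinearMap.comp_apply (toCot P), toCot_comp_d2, LinearMap.zero_apply, map_zero]

lemma homToT1_surjective : Function.Surjective (homToT1 P M) := fun x => by
  obtain ⟨c, rfl⟩ := Submodule.Quotient.mk_surjective _ x
  obtain ⟨φ, hφ⟩ := exists_comp_toCot P M c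
  refine ⟨φ, ?_⟩
  rw [homToT1_mk P M φ (comp_toCot_mem P M φ)]
  exact congrArg Submodule.Quotient.mk (Subtype.ext hφ)

lemma homToT1_eq_zero_iff (φ : P.toExtension.Cotangent →ₗ[B] M) :
    homToT1 P M φ = 0 ↔ ∃ ψ : L0 P →ₗ[B] M, ψ ∘ₗ P.toExtension.cotangentComplex = φ := by
  rw [homToT1_mk P M φ (comp_toCot_mem P M φ), Submodule.Quotient.mk_eq_zero]
  constructor
  · rintro ⟨ψ, hψ⟩
    refine ⟨ψ, LinearMap.ext fun x => ?_⟩
    obtain ⟨y, rfl⟩ := toCot_surjective P x
    exact LinearMap.congr_fun hψ y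
  · rintro ⟨ψ, rfl⟩
    exact ⟨ψ, rfl⟩

lemma mk_eq_zero_iff_T1 (c : cocycles1 P M) :
    (Submodule.Quotient.mk c : T1 P M) = 0 ↔ ∃ φ : L0 P →ₗ[B] M, φ ∘ₗ d1 P = c := by
  rw [Submodule.Quotient.mk_eq_zero]
  rfl

end Groth.Agent.Lib.CotTwo
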