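import Groth.Agent.Lib.CotTwo.Koszul
import Mathlib.Algebra.MvPolynomial.PDeriv
import Mathlib.RingTheory.Regular.RegularSequence

/-!
# `T¹` of a complete intersection
-/

noncomputable section

universe u

open MvPolynomial

namespace Groth.Agent.Lib.CotTwo

theorem exists_equiv_jacobian {k : Type u} [CommRing k] {d n : ℕ} (f : Fin n → MvPolynomial (Fin d) k)
    (hreg : RingTheory.Sequence.IsWeaklyRegular (MvPolynomial (Fin d) k) (List.ofFn f)) :
    ∃ e : ((↥(Ideal.span (Set.range f)) →ₗ[MvPolynomial (Fin d) k] (MvPolynomial (Fin d) k ⧸ Ideal.span (Set.range f))) ⧸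
            Submodule.span (MvPolynomial (Fin d) k)
              {ψ : ↥(Ideal.span (Set.range f)) →ₗ[MvPolynomial (Fin d) k] (MvPolynomial (Fin d) k ⧸ Ideal.span (Set.range f)) |
                ∃ D : Derivation k (MvPolynomial (Fin d) k) (MvPolynomial (Fin d) k ⧸ Ideal.span (Set.range f)), ∀ a : ↥(Ideal.span (Set.range f)), ψ a = D (a : MvPolynomial (Fin d) k)}) ≃ₗ[MvPolynomial (Fin d) k]
          ((Fin n → MvPolynomial (Fin d) k ⧸ Ideal.span (Set.range f)) ⧸
            Submodule.span (MvPolynomial (Fin d) k ⧸ Ideal.span (Set.range f))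
              (Set.range fun j : Fin d => fun i : Fin n => Ideal.Quotient.mk (Ideal.span (Set.range f)) (pderiv j (f i)))),
      ∀ φ : ↥(Ideal.span (Set.range f)) →ₗ[MvPolynomial (Fin d) k] (MvPolynomial (Fin d) k ⧸ Ideal.span (Set.range f)),
        e (Submodule.Quotient.mk φ) =
          Submodule.Quotient.mk (fun i : Fin n => φ ⟨f i, Ideal.subset_span (Set.mem_range_self i)⟩) := by
  classical
  let P := MvPolynomial (Fin d) k
  let J : Ideal P := Ideal.span (Set.range f)
  let B := P ⧸ J
  let col : Fin d → Fin n → B := fun j i => Ideal.Quotient.mk J (pderiv j (f i))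
  let S := Submodule.span B (Set.range col)
  let fj : Fin n → J := fun i => ⟨f i, Ideal.subset_span (Set.mem_range_self i)⟩
  let Φ : (J →ₗ[P] B) →ₗ[P] ((Fin n → B) ⧸ S) :=
    (S.mkQ.restrictScalars P).comp (LinearMap.pi fun i => LinearMap.applyₗ (fj i))
  have hΦ : ∀ φ, Φ φ = Submodule.Quotient.mk (fun i => φ (fj i)) := fun φ => rfl
  have hJ : ∀ a ∈ J, ∃ c : Fin n →₀ P, Finsupp.linearCombination P f c = a := fun a ha =>
    Finsupp.mem_span_range_iff_exists_finsupp.1 ha |>.imp fun c hc => (Finsupp.linearCombination_apply P c).trans hc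
  have hext : ∀ φ ψ : J →ₗ[P] B, (∀ i, φ (fj i) = ψ (fj i)) → φ = ψ := fun φ ψ h => LinearMap.ext fun ⟨a, ha⟩ => by
    obtain ⟨c, rfl⟩ := hJ a ha
    have : (⟨Finsupp.linearCombination P f c, ha⟩ : J) = Finsupp.linearCombination P fj c :=
      Subtype.ext (Finsupp.apply_linearCombination P J.subtype fj c).symm
    rw [this, Finsupp.apply_linearCombination, Finsupp.apply_linearCombination]
    exact congrArg (fun v => Finsupp.linearCombination P v c) (funext h)
  have hreg' : ∀ (i : Fin n) (x : P), f i * x ∈ Ideal.span (f '' {j | j < i}) → x ∈ Ideal.span (f '' {j | j < i}) := by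
    intro i x hx
    have h1 := hreg.regular_mod_prev i.val (by rw [List.length_ofFn]; exact i.2)
    have htake : Ideal.ofList ((List.ofFn f).take i.val) = Ideal.span (f '' {j | j < i}) := by
      refine congrArg Ideal.span (Set.ext fun y => ?_)
      constructor
      · intro hy
        obtain ⟨m, hm, rfl⟩ := List.mem_take_iff_getElem.1 hy
        rw [lt_min_iff, List.length_ofFn] at hm
        exact ⟨⟨m, hm.2⟩, Fin.lt_def.2 hm.1, by rw [List.getElem_ofFn]⟩
      · rintro ⟨j, hj, rfl⟩
        exact List.mem_take_iff_getElem.2 ⟨j.val, lt_min (Fin.lt_def.1 hj) (by rw [List.length_ofFn]; exact j.2),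
          by rw [List.getElem_ofFn]⟩
    rw [isSMulRegular_quotient_iff_mem_of_smul_mem, htake, smul_eq_mul, Ideal.mul_top] at h1
    refine h1 x ?_
    rw [List.getElem_ofFn, smul_eq_mul]
    exact hx
  have hsurj : Function.Surjective Φ := by
    intro z
    obtain ⟨v, rfl⟩ := Submodule.Quotient.mk_surjective _ z
    have hsyz : ∀ c : Fin n →₀ P, Finsupp.linearCombination P f c = 0 → Finsupp.linearCombination P v c = 0 := by
      intro c hc
      have h1 := mem_span_trivial_of_regular f hreg' c hc
      clear hc
      induction h1 using Submodule.span_induction with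
      | mem y hy =>
        obtain ⟨p, q, rfl⟩ := hy
        have hmem : ∀ p : Fin n →₀ P, algebraMap P B (Finsupp.linearCombination P f p) = 0 := fun p =>
          Ideal.Quotient.eq_zero_iff_mem.2 ((Finsupp.range_linearCombination P (v := f)).le ⟨p, rfl⟩)
        rw [map_sub, map_smul, map_smul, ← algebraMap_smul B (Finsupp.linearCombination P f p),
          ← algebraMap_smul B (Finsupp.linearCombination P f q), hmem, hmem, smul_eq_mul, smul_eq_mul, zero_mul,
          zero_mul, sub_zero]
      | zero => rw [map_zero]
      | add x y _ _ hx hy => rw [map_add, hx, hy, add_zero]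
      | smul r x _ hx => rw [map_smul, hx, smul_zero]
    choose cf hcf using fun a : J => hJ a.1 a.2
    have hwd : ∀ (a : J) c, Finsupp.linearCombination P f c = a.1 →
        Finsupp.linearCombination P v (cf a) = Finsupp.linearCombination P v c := fun a c hc => by
      rw [← sub_eq_zero, ← map_sub]
      exact hsyz _ (by rw [map_sub, hcf, hc, sub_self])
    refine ⟨{ toFun := fun a => Finsupp.linearCombination P v (cf a)
              map_add' := fun a b => by
                rw [hwd (a + b) (cf a + cf b) (by rw [map_add, hcf, hcf]; rfl), map_add]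
              map_smul' := fun r a => by
                rw [RingHom.id_apply, hwd (r • a) (r • cf a) (by rw [map_smul, hcf]; rfl), map_smul] }, ?_⟩
    rw [hΦ]
    refine congrArg _ (funext fun i => ?_)
    show Finsupp.linearCombination P v (cf (fj i)) = v i
    rw [hwd (fj i) (Finsupp.single i 1) (by rw [Finsupp.linearCombination_single, one_smul]),
      Finsupp.linearCombination_single, one_smul]
  let Der : Fin d → Derivation k P B := fun j =>
    mkDerivation k (fun j' : Fin d => if j' = j then (1 : B) else 0)
  have hDer : ∀ j a, Der j a = Ideal.Quotient.mk J (pderiv j a) := fun j a => by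
    have h : Der j = (Ideal.Quotient.mkₐ P J).toLinearMap.compDer (pderiv j) := MvPolynomial.derivation_ext fun j' => by
      show mkDerivation k _ (X j') = Ideal.Quotient.mk J (pderiv j (X j'))
      rw [mkDerivation_X, pderiv_X]
      by_cases h : j' = j
      · subst h; simp
      · simp [h]
    rw [h]
    rfl
  let res : ∀ D : Derivation k P B, (J →ₗ[P] B) := fun D =>
    { toFun := fun a => D a.1
      map_add' := fun a b => map_add D a.1 b.1
      map_smul' := fun r a => by
        show D (r * a.1) = r • D a.1
        rw [Derivation.leibniz, ← algebraMap_smul B a.1, show algebraMap P B a.1 = 0 from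
          Ideal.Quotient.eq_zero_iff_mem.2 a.2, smul_eq_mul (0 : B), zero_mul, add_zero] }
  let U : Submodule P (J →ₗ[P] B) :=
    Submodule.span P {ψ | ∃ D : Derivation k P B, ∀ a : J, ψ a = D (a : P)}
  have hker : LinearMap.ker Φ = U := by
    refine le_antisymm (fun φ hφ => ?_) (Submodule.span_le.2 ?_)
    · rw [LinearMap.mem_ker, hΦ, Submodule.Quotient.mk_eq_zero] at hφ
      obtain ⟨c, hc⟩ := (Submodule.mem_span_range_iff_exists_fun B).1 hφ
      choose c' hc' using fun j => Ideal.Quotient.mk_surjective (I := J) (c j)
      have h1 : φ = ∑ j, c' j • res (Der j) := hext _ _ fun i => by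
        rw [LinearMap.sum_apply]
        refine (congrFun hc i).symm.trans ?_
        rw [Finset.sum_apply]
        refine Finset.sum_congr rfl fun j _ => ?_
        show c j * col j i = c' j • Der j (f i)
        rw [hDer, ← algebraMap_smul B (c' j), smul_eq_mul, ← hc']
        rfl
      rw [h1]
      exact Submodule.sum_mem _ fun j _ => Submodule.smul_mem _ _ (Submodule.subset_span ⟨Der j, fun a => rfl⟩)
    · rintro ψ ⟨D, hD⟩
      rw [SetLike.mem_coe, LinearMap.mem_ker, hΦ, Submodule.Quotient.mk_eq_zero]
      refine (Submodule.mem_span_range_iff_exists_fun B).2 ⟨fun j => D (X j), funext fun i => ?_⟩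
      have h2 : D = ∑ j, (D (X j)) • Der j := MvPolynomial.derivation_ext fun j' => by
        rw [← Derivation.coeFnAddMonoidHom_apply (D := ∑ j, (D (X j)) • Der j), map_sum, Finset.sum_apply]
        have hterm : ∀ j, Derivation.coeFnAddMonoidHom (D (X j) • Der j) (X j') = if j' = j then D (X j) else 0 :=
          fun j => by
            show D (X j) * mkDerivation k (fun j'' : Fin d => if j'' = j then (1 : B) else 0) (X j') = _
            erw [mkDerivation_X]
            split_ifs <;> simp
        rw [Finset.sum_congr rfl fun j _ => hterm j, Finset.sum_ite_eq, if_pos (Finset.mem_univ _)]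
      rw [Finset.sum_apply, hD (fj i)]
      conv_rhs => rw [h2]
      rw [← Derivation.coeFnAddMonoidHom_apply (D := ∑ j, (D (X j)) • Der j), map_sum, Finset.sum_apply]
      refine Finset.sum_congr rfl fun j _ => ?_
      show D (X j) * col j i = D (X j) * Der j (f i)
      rw [hDer]
  refine ⟨(Submodule.quotEquivOfEq _ _ hker.symm).trans (Φ.quotKerEquivOfSurjective hsurj), fun φ => rfl⟩

end Groth.Agent.Lib.CotTwo
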