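import Groth.Agent.Lib.CotTwo.Indep

/-!
# Composition of morphisms of presentations over composable squares
-/

noncomputable section

universe u v w t u' v' w' t' u'' v'' w'' t'' m

open TensorProduct CotT

namespace Groth.Agent.Lib.CotTwo

variable {A : Type u} {B : Type v} {ι : Type w} {σ : Type t}
variable {A' : Type u'} {B' : Type v'} {ι' : Type w'} {σ' : Type t'}
variable [CommRing A] [CommRing B] [Algebra A B] [CommRing A'] [CommRing B'] [Algebra A' B']
variable [Algebra A A'] [Algebra B B'] [Algebra A B'] [IsScalarTower A A' B'] [IsScalarTower A B B']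
variable {P : Algebra.Presentation A B ι σ} {P' : Algebra.Presentation A' B' ι' σ'}

lemma L0map_one_tmul' (h : PresHom P P') (r : P.toExtension.Ring) :
    h.L0map ((1 : B) ⊗ₜ KaehlerDifferential.D A P.toExtension.Ring r) =
      (1 : B') ⊗ₜ KaehlerDifferential.D A' P'.toExtension.Ring (h.ringHom r) := by
  rw [PresHom.L0map_apply]
  refine (Algebra.Extension.CotangentSpace.map_tmul _ _ _).trans ?_
  rw [map_one]
  rfl

variable {A'' : Type u''} {B'' : Type v''} {ι'' : Type w''} {σ'' : Type t''}
variable [CommRing A''] [CommRing B''] [Algebra A'' B''] [Algebra A' A''] [Algebra B' B''] [Algebra A' B'']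
  [IsScalarTower A' A'' B''] [IsScalarTower A' B' B'']
variable [Algebra A A''] [Algebra B B''] [Algebra A B''] [IsScalarTower A A'' B''] [IsScalarTower A B B'']
  [IsScalarTower A A' A''] [IsScalarTower B B' B'']
variable {P'' : Algebra.Presentation A'' B'' ι'' σ''}

/-- Composite over composable squares. -/
def sqComp (g : PresHom P' P'') (h : PresHom P P') : PresHom P P'' where
  hom := g.hom.comp h.hom
  relVal s := g.relModMap (h.relVal s)
  jmap_relVal s := by
    rw [g.jmap_relModMap, h.jmap_relVal]
    exact (Algebra.Generators.Hom.toAlgHom_comp_apply (f := h.hom) (g := g.hom) (x := rel P s)).symm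

lemma sqComp_ringHom (g : PresHom P' P'') (h : PresHom P P') (r : P.toExtension.Ring) :
    (sqComp g h).ringHom r = g.ringHom (h.ringHom r) :=
  Algebra.Generators.Hom.toAlgHom_comp_apply (f := h.hom) (g := g.hom) (x := r)

lemma sqComp_relModMap (g : PresHom P' P'') (h : PresHom P P') (f : relMod P) :
    (sqComp g h).relModMap f = g.relModMap (h.relModMap f) := by
  induction f using Finsupp.induction_linear with
  | zero => simp
  | add a b ha hb => rw [map_add, map_add, map_add, ha, hb]
  | single s r =>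
    rw [PresHom.relModMap_single, PresHom.relModMap_single, LinearMap.map_smulₛₗ, sqComp_ringHom]
    rfl

variable (M : Type m) [AddCommGroup M] [Module B'' M] [Module B' M] [Module B M] [IsScalarTower B B'' M]
  [IsScalarTower B' B'' M] [IsScalarTower B B' M]

theorem sqComp_T0pull (g : PresHom P' P'') (h : PresHom P P') (ψ : T0 P'' M) :
    (sqComp g h).T0pull M ψ = h.T0pull M (g.T0pull M ψ) := by
  refine Subtype.ext ((P.cotangentSpaceBasis).ext fun i => ?_)
  show (ψ : L0 P'' →ₗ[B''] M) ((sqComp g h).L0map _) = (ψ : L0 P'' →ₗ[B''] M) (g.L0map (h.L0map _))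
  rw [basis_eq, L0map_one_tmul', L0map_one_tmul', L0map_one_tmul', sqComp_ringHom]

theorem sqComp_T1pull (g : PresHom P' P'') (h : PresHom P P') (x : T1 P'' M) :
    (sqComp g h).T1pull M x = h.T1pull M (g.T1pull M x) := by
  obtain ⟨c, rfl⟩ := Submodule.Quotient.mk_surjective _ x
  show (Submodule.Quotient.mk ((sqComp g h).cocycles1Pull M c) : T1 P M) =
    Submodule.Quotient.mk (h.cocycles1Pull M (g.cocycles1Pull M c))
  refine congrArg _ (Subtype.ext ((L1basis P).ext fun s => ?_))
  rw [L1basis_apply]
  show (c : L1 P'' →ₗ[B''] M) ((sqComp g h).L1map _) = (c : L1 P'' →ₗ[B''] M) (g.L1map (h.L1map _))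
  rw [PresHom.L1map_tmul, PresHom.L1map_tmul, PresHom.L1map_tmul, sqComp_relModMap, map_one, map_one, map_one]

set_option maxHeartbeats 1000000 in
theorem sqComp_T2pull (g : PresHom P' P'') (h : PresHom P P') (x : T2 P'' M) :
    (sqComp g h).T2pull M x = h.T2pull M (g.T2pull M x) := by
  obtain ⟨ψ, rfl⟩ := Submodule.Quotient.mk_surjective _ x
  show (Submodule.Quotient.mk ((sqComp g h).pull2 M ψ) : T2 P M) =
    Submodule.Quotient.mk (h.pull2 M (g.pull2 M ψ))
  refine congrArg _ (LinearMap.ext fun z => ?_)
  obtain ⟨y, rfl⟩ := Submodule.Quotient.mk_surjective _ z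
  obtain ⟨f, rfl⟩ := exists_one_tmul P y
  show ψ ((sqComp g h).L2map _) = ψ (g.L2map (h.L2map _))
  rw [PresHom.L2map_mk_tmul, PresHom.L2map_mk_tmul, PresHom.L2map_mk_tmul, map_one, map_one, map_one]
  exact congrArg (fun q : relKer P'' => ψ (Submodule.Quotient.mk ((1 : B'') ⊗ₜ q)))
    (Subtype.ext (sqComp_relModMap g h f))

end Groth.Agent.Lib.CotTwo
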