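import Groth.Agent.Lib.ArtinFun.FlatSmooth
import Mathlib.RingTheory.Kaehler.Basic
import Mathlib.RingTheory.Smooth.Basic
import Mathlib.Algebra.DualNumber
import Mathlib.RingTheory.Smooth.Kaehler
import Mathlib.RingTheory.FiniteType
import Mathlib.Algebra.Polynomial.Derivation

/-!
# Differentials of deformations over truncated polynomial rings
-/

noncomputable section

universe u

open Polynomial TensorProduct KaehlerDifferential

namespace Groth.Agent.Lib.CotTwo.DtSeq

variable {k : Type u} [Field k] {n : ℕ} {D : Type u} [CommRing D] [Algebra k D] {τ : D}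
  (e : (k[X] ⧸ Ideal.span {(X : k[X]) ^ (n + 1)}) ≃ₐ[k] D)
  (he : e (Ideal.Quotient.mk (Ideal.span {(X : k[X]) ^ (n + 1)}) X) = τ)
  {B : Type u} [CommRing B] [Algebra k B] [Algebra D B] [IsScalarTower k D B]
  {t : B} (ht : t = algebraMap D B τ)

include he in
lemma e_mk (p : k[X]) : e (Ideal.Quotient.mk _ p) = aeval τ p := by
  have h : e.toAlgHom.comp (Ideal.Quotient.mkₐ k (Ideal.span {(X : k[X]) ^ (n + 1)})) = aeval τ :=
    Polynomial.algHom_ext (by rw [aeval_X]; exact he)
  exact AlgHom.congr_fun h p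

include e he in
lemma exists_poly (d : D) : ∃ p : k[X], d = aeval τ p := by
  obtain ⟨p, hp⟩ := Ideal.Quotient.mk_surjective (e.symm d)
  exact ⟨p, by rw [← e_mk e he p, hp, e.apply_symm_apply]⟩

include e he in
lemma exists_const (d : D) : ∃ c : k, d - algebraMap k D c ∈ Ideal.span {τ} := by
  obtain ⟨p, rfl⟩ := exists_poly e he d
  refine ⟨p.coeff 0, Ideal.mem_span_singleton.2 ?_⟩
  obtain ⟨q, hq⟩ := X_dvd_iff.2 (show (p - C (p.coeff 0)).coeff 0 = 0 by simp)
  refine ⟨aeval τ q, ?_⟩
  rw [← aeval_C τ (p.coeff 0), ← map_sub, hq, map_mul, aeval_X]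

include e he in
lemma tau_pow : τ ^ (n + 1) = 0 := by
  rw [← he, ← map_pow, ← map_pow, Ideal.Quotient.eq_zero_iff_mem.2 (Ideal.mem_span_singleton_self _), map_zero]

include e he ht in
lemma t_pow : t ^ (n + 1) = 0 := by rw [ht, ← map_pow, tau_pow e he, map_zero]

include e he ht in
/-- Annihilators of powers of the parameter. -/
lemma mem_span_of_pow_mul [Module.Flat D B] {i j : ℕ} (hij : i + j = n + 1) {x : B} (hx : t ^ i * x = 0) :
    x ∈ Ideal.span {t ^ j} := by
  have hex : Function.Exact (LinearMap.lsmul D D (τ ^ j)) (LinearMap.lsmul D D (τ ^ i)) := by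
    intro d
    show τ ^ i * d = 0 ↔ d ∈ Set.range fun c => τ ^ j * c
    constructor
    · intro hd
      obtain ⟨p, rfl⟩ := exists_poly e he d
      rw [show τ ^ i = aeval τ ((X : k[X]) ^ i) by rw [map_pow, aeval_X], ← map_mul, ← e_mk e he, map_eq_zero_iff _ e.injective,
        Ideal.Quotient.eq_zero_iff_mem, Ideal.mem_span_singleton, ← hij, pow_add] at hd
      obtain ⟨q, hq⟩ := (mul_dvd_mul_iff_left (pow_ne_zero i X_ne_zero)).1 hd
      exact ⟨aeval τ q, by simp only; rw [hq, map_mul, map_pow, aeval_X]⟩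
    · rintro ⟨c, rfl⟩
      show τ ^ i * (τ ^ j * c) = 0
      rw [← mul_assoc, ← pow_add, hij, tau_pow e he, zero_mul]
  have h := Module.Flat.lTensor_exact B hex
  have h1 : ∀ (l : ℕ) (z : B ⊗[D] D), TensorProduct.rid D B ((LinearMap.lsmul D D (τ ^ l)).lTensor B z) =
      t ^ l * TensorProduct.rid D B z := by
    intro l z
    induction z with
    | zero => simp
    | add a b ha hb => rw [map_add, map_add, map_add, mul_add, ha, hb]
    | tmul b d =>
      simp only [LinearMap.lTensor_tmul, LinearMap.lsmul_apply, TensorProduct.rid_tmul, smul_eq_mul]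
      rw [mul_smul, Algebra.smul_def (τ ^ l), map_pow, ← ht]
  obtain ⟨z, hz⟩ := (h ((TensorProduct.rid D B).symm x)).1 ((TensorProduct.rid D B).injective (by
    rw [h1, LinearEquiv.apply_symm_apply, hx, map_zero]))
  have h2 := congrArg (TensorProduct.rid D B) hz
  rw [h1, LinearEquiv.apply_symm_apply] at h2
  exact Ideal.mem_span_singleton.2 ⟨_, h2.symm⟩

include e he ht in
theorem formallySmooth [Module.Flat D B] (hsm : Algebra.Smooth k (B ⧸ Ideal.span {t})) :
    Algebra.FormallySmooth D B := by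
  have hM : (Ideal.span {τ}).map (algebraMap D B) = Ideal.span {t} := by
    rw [Ideal.map_span, Set.image_singleton, ht]
  haveI : Algebra.FormallySmooth k (B ⧸ (Ideal.span {τ}).map (algebraMap D B)) := by
    haveI := hsm.formallySmooth
    exact Algebra.FormallySmooth.of_equiv (Ideal.quotientEquivAlgOfEq k hM.symm)
  exact ArtinFun.formallySmooth_of_flat_of_closedFibre (k := k) (Ideal.span {τ})
    ⟨n + 1, by rw [Ideal.span_singleton_pow, tau_pow e he]; exact Ideal.span_singleton_eq_bot.2 rfl⟩
    (exists_const e he)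

include e he ht in
/-- A functional taking `dt` to one. -/
theorem exists_retraction [Module.Flat D B] (hsm : Algebra.Smooth k (B ⧸ Ideal.span {t})) :
    ∃ r : (B ⧸ Ideal.span {t ^ n}) ⊗[B] Ω[B⁄k] →ₗ[B ⧸ Ideal.span {t ^ n}] B ⧸ Ideal.span {t ^ n},
      r (1 ⊗ₜ KaehlerDifferential.D k B t) = 1 := by
  haveI := formallySmooth e he ht hsm
  subst ht
  let B' := B ⧸ Ideal.span {algebraMap D B τ ^ n}
  let q : B →ₐ[k] B' := Ideal.Quotient.mkₐ k _
  let E := DualNumber B'
  let t' := algebraMap D B τ
  let τ' : E := TrivSqZeroExt.inl (q t') + TrivSqZeroExt.inr 1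
  have hτf : TrivSqZeroExt.fst τ' = q t' := add_zero (q t')
  have hτs : TrivSqZeroExt.snd τ' = 1 := zero_add (1 : B')
  have hqn : q t' ^ n = 0 := by
    rw [← map_pow]
    exact Ideal.Quotient.eq_zero_iff_mem.2 (Ideal.mem_span_singleton_self _)
  have hτ' : τ' ^ (n + 1) = 0 := by
    refine TrivSqZeroExt.ext ?_ ?_
    · rw [TrivSqZeroExt.fst_pow, TrivSqZeroExt.fst_zero, hτf, pow_succ, hqn, zero_mul]
    · rw [TrivSqZeroExt.snd_pow, TrivSqZeroExt.snd_zero, hτf, hτs]
      simp [hqn]
  let ψ : D →ₐ[k] E := (Ideal.Quotient.liftₐ (Ideal.span {(X : k[X]) ^ (n + 1)}) (aeval τ') (fun p hp => by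
    obtain ⟨c, rfl⟩ := Ideal.mem_span_singleton.1 hp
    rw [map_mul, map_pow, aeval_X, hτ', zero_mul])).comp e.symm.toAlgHom
  have hψ : ∀ p : k[X], ψ (aeval τ p) = aeval τ' p := fun p => by
    rw [← e_mk e he p]
    simp only [ψ, AlgHom.comp_apply, AlgEquiv.toAlgHom_eq_coe, AlgHom.coe_coe, AlgEquiv.coe_toAlgHom,
      e.symm_apply_apply]
    rfl
  have hfst : ∀ d, TrivSqZeroExt.fst (ψ d) = q (algebraMap D B d) := fun d => by
    obtain ⟨p, rfl⟩ := exists_poly e he d
    have h1 : TrivSqZeroExt.fst (aeval τ' p) = aeval (q t') p := by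
      refine (aeval_algHom_apply (TrivSqZeroExt.fstHom k B' B') τ' p).symm.trans ?_
      show aeval (TrivSqZeroExt.fst τ') p = _
      rw [hτf]
    rw [hψ, h1, aeval_algHom_apply, aeval_algebraMap_apply]
  letI : Algebra D E := ψ.toRingHom.toAlgebra
  letI : Algebra D B' := Ideal.Quotient.algebra D
  let pr : E →ₐ[D] B' := { (TrivSqZeroExt.fstHom k B' B').toRingHom with commutes' := hfst }
  have hker : IsNilpotent (RingHom.ker (pr : E →+* B')) := by
    refine ⟨2, le_bot_iff.1 ?_⟩
    refine (le_of_eq (pow_two (RingHom.ker (pr : E →+* B')))).trans ?_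
    refine Ideal.mul_le.2 fun a ha b hb => ?_
    have ha' : TrivSqZeroExt.fst a = 0 := ha
    have hb' : TrivSqZeroExt.fst b = 0 := hb
    rw [Ideal.mem_bot]
    refine TrivSqZeroExt.ext ?_ ?_
    · rw [TrivSqZeroExt.fst_mul, ha', zero_mul, TrivSqZeroExt.fst_zero]
    · rw [TrivSqZeroExt.snd_mul, ha', hb', zero_smul, MulOpposite.op_zero, zero_smul, add_zero, TrivSqZeroExt.snd_zero]
  let σ : B →ₐ[D] E := Algebra.FormallySmooth.liftOfSurjective (Ideal.Quotient.mkₐ D _) pr
    (fun b => ⟨TrivSqZeroExt.inl b, rfl⟩) hker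
  have hσ : ∀ b, TrivSqZeroExt.fst (σ b) = q b := fun b =>
    Algebra.FormallySmooth.liftOfSurjective_apply (Ideal.Quotient.mkₐ D _) pr
      (fun b => ⟨TrivSqZeroExt.inl b, rfl⟩) hker b
  have hσk : ∀ c : k, σ (algebraMap k B c) = algebraMap k E c := fun c => by
    rw [IsScalarTower.algebraMap_apply k D B, σ.commutes]
    exact ψ.commutes c
  let δ : Derivation k B B' := Derivation.mk'
    { toFun := fun b => TrivSqZeroExt.snd (σ b)
      map_add' := fun a b => by rw [map_add, TrivSqZeroExt.snd_add]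
      map_smul' := fun c b => by
        show TrivSqZeroExt.snd (σ (c • b)) = c • TrivSqZeroExt.snd (σ b)
        rw [Algebra.smul_def, map_mul, hσk, ← Algebra.smul_def, TrivSqZeroExt.snd_smul] }
    fun a b => by
      show TrivSqZeroExt.snd (σ (a * b)) = a • TrivSqZeroExt.snd (σ b) + b • TrivSqZeroExt.snd (σ a)
      rw [map_mul, TrivSqZeroExt.snd_mul, hσ, hσ, op_smul_eq_smul]
      rfl
  refine ⟨δ.liftKaehlerDifferential.liftBaseChange B', ?_⟩
  rw [LinearMap.liftBaseChange_tmul, one_smul, Derivation.liftKaehlerDifferential_comp_D]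
  show TrivSqZeroExt.snd (σ t') = 1
  rw [σ.commutes]
  show TrivSqZeroExt.snd (ψ τ) = 1
  have h1 := hψ (X : k[X])
  rw [aeval_X, aeval_X] at h1
  rw [h1]
  exact hτs

include e he ht in
lemma map_D_t : KaehlerDifferential.map k D B B (KaehlerDifferential.D k B t) = 0 := by
  rw [KaehlerDifferential.map_D, Algebra.algebraMap_self, RingHom.id_apply, ht, Derivation.map_algebraMap]

include e he ht in
/-- The kernel of `Ω_{B/k} → Ω_{B/D}` is spanned by `dt`. -/
theorem ker_map : LinearMap.ker (KaehlerDifferential.map k D B B) = Submodule.span B {KaehlerDifferential.D k B t} := by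
  refine le_antisymm ?_ ((Submodule.span_singleton_le_iff_mem _ _).2 (map_D_t e he ht))
  rw [← KaehlerDifferential.range_mapBaseChange]
  have hd : ∀ d, KaehlerDifferential.D k B (algebraMap D B d) ∈ Submodule.span B {KaehlerDifferential.D k B t} := fun d => by
    obtain ⟨p, rfl⟩ := exists_poly e he d
    rw [← aeval_algebraMap_apply, ← ht, Derivation.map_aeval]
    exact Submodule.smul_mem _ _ (Submodule.mem_span_singleton_self _)
  rintro _ ⟨z, rfl⟩
  induction z with
  | zero => rw [map_zero]; exact zero_mem _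
  | add a b ha hb => rw [map_add]; exact add_mem ha hb
  | tmul b w =>
    rw [KaehlerDifferential.mapBaseChange_tmul]
    refine Submodule.smul_mem _ b ?_
    have hw : w ∈ Submodule.span D (Set.range (KaehlerDifferential.D k D)) := by
      rw [KaehlerDifferential.span_range_derivation]; trivial
    induction hw using Submodule.span_induction with
    | mem x hx =>
      obtain ⟨d, rfl⟩ := hx
      rw [KaehlerDifferential.map_D]
      exact hd d
    | zero => rw [map_zero]; exact zero_mem _
    | add x y _ _ hx hy => rw [map_add]; exact add_mem hx hy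
    | smul c x _ hx => rw [map_smul]; exact Submodule.smul_of_tower_mem _ c hx

variable (t n) in
/-- The map `b ↦ b dt`. -/
abbrev dtMap (k : Type u) [Field k] [Algebra k B] :
    (B ⧸ Ideal.span {t ^ n}) →ₗ[B ⧸ Ideal.span {t ^ n}] (B ⧸ Ideal.span {t ^ n}) ⊗[B] Ω[B⁄k] :=
  LinearMap.toSpanSingleton _ _ ((1 : B ⧸ Ideal.span {t ^ n}) ⊗ₜ[B] KaehlerDifferential.D k B t)

include e he ht in
theorem exact_dtMap : Function.Exact (dtMap n t k) (LinearMap.baseChange (B ⧸ Ideal.span {t ^ n}) (KaehlerDifferential.map k D B B)) ∧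
    Function.Surjective (LinearMap.baseChange (B ⧸ Ideal.span {t ^ n}) (KaehlerDifferential.map k D B B)) := by
  let B' := B ⧸ Ideal.span {t ^ n}
  have hs : Function.Surjective (KaehlerDifferential.map k D B B) := KaehlerDifferential.map_surjective k D B
  have hex : Function.Exact (LinearMap.toSpanSingleton B Ω[B⁄k] (KaehlerDifferential.D k B t))
      (KaehlerDifferential.map k D B B) := by
    rw [LinearMap.exact_iff, ker_map e he ht, LinearMap.range_toSpanSingleton]
  refine ⟨fun z => ?_, fun z => ?_⟩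
  · constructor
    · intro hz
      obtain ⟨w, rfl⟩ := ((lTensor_exact B' hex hs) z).1 hz
      refine ⟨TensorProduct.rid B B' w, ?_⟩
      clear hz
      induction w with
      | zero => simp
      | add a b ha hb => simp only [map_add, ha, hb]
      | tmul b c =>
        simp only [LinearMap.lTensor_tmul, LinearMap.toSpanSingleton_apply, TensorProduct.rid_tmul]
        rw [TensorProduct.smul_tmul', TensorProduct.tmul_smul, TensorProduct.smul_tmul', smul_eq_mul, mul_one]
    · rintro ⟨b, rfl⟩
      rw [LinearMap.toSpanSingleton_apply, map_smul, LinearMap.baseChange_tmul, map_D_t e he ht,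
        TensorProduct.tmul_zero, smul_zero]
  · exact LinearMap.lTensor_surjective B' hs z

end Groth.Agent.Lib.CotTwo.DtSeq
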