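import Groth.Prelude.Def_Exal2
import Groth.Agent.Lib.CotTwo.ExtOfHom
import Mathlib.Tactic.LinearCombination

/-!
# The six-term sequence of extensions under a change of base
-/

noncomputable section

universe u

open Exal

namespace Groth.Agent.Lib.CotTwo.ExalBaseChange

variable {K B R L : Type u} [CommRing K] [CommRing B] [CommRing R] [Algebra K B] [Algebra K R] [Algebra B R]
  [IsScalarTower K B R] [AddCommGroup L] [Module R L] [Module B L] [IsScalarTower B R L]

omit [CommRing B] [Algebra K B] [Algebra B R] [IsScalarTower K B R] [Module B L] [IsScalarTower B R L] in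
lemma proj_incl (X : Ext K R L) (z : L) : X.proj (X.incl z) = 0 := (X.isExtension.exact _).2 ⟨z, rfl⟩

omit [CommRing B] [Algebra K B] [Algebra B R] [IsScalarTower K B R] [Module B L] [IsScalarTower B R L] in
/-- Two split extensions are equivalent. -/
theorem nonempty_equiv_of_split (X Y : Ext K R L) (hX : X.IsTrivial) (hY : Y.IsTrivial) : Nonempty (X.Equiv Y) := by
  obtain ⟨s, hs⟩ := hX
  obtain ⟨t, ht⟩ := hY
  exact nonempty_equiv_of_eq_on_ker (p := AlgHom.id K R) Function.surjective_id X Y s hs t ht (fun _ => 0)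
    (fun r hr => by rw [show r = 0 from hr, map_zero, map_zero])
    (fun r hr => by rw [show r = 0 from hr, map_zero, map_zero])

/-- Derivations extend when extensions over the intermediate ring split. -/
theorem exists_derivation [Module K L] [IsScalarTower K B L] [IsScalarTower K R L]
    (h : ∀ X : Ext B R L, X.IsTrivial) (D : Derivation K B L) :
    ∃ D' : Derivation K R L, ∀ b, D' (algebraMap B R b) = D b := by
  obtain ⟨s, hs⟩ := h (Ext.ofDerivation (C := R) D)
  have hfst : ∀ r, TrivSqZeroExt.fst (show TrivSqZeroExt R L from s r) = r := hs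
  let d : R → L := fun r => TrivSqZeroExt.snd (show TrivSqZeroExt R L from s r)
  letI := Exal.opModule R L
  haveI := Exal.isCentralScalar_opModule R L
  have hsb : ∀ b, d (algebraMap B R b) = D b := fun b => by
    show TrivSqZeroExt.snd (show TrivSqZeroExt R L from s (algebraMap B R b)) = D b
    rw [s.commutes]
    show TrivSqZeroExt.snd (TrivSqZeroExt.inl (algebraMap B R b) + TrivSqZeroExt.inr (D b) : TrivSqZeroExt R L) = D b
    rw [TrivSqZeroExt.snd_add, TrivSqZeroExt.snd_inl, TrivSqZeroExt.snd_inr, zero_add]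
  have hadd : ∀ r r', d (r + r') = d r + d r' := fun r r' =>
    (congrArg (fun x : TrivSqZeroExt R L => TrivSqZeroExt.snd x) (map_add s r r')).trans
      (TrivSqZeroExt.snd_add (R := R) (show TrivSqZeroExt R L from s r) (show TrivSqZeroExt R L from s r'))
  have hmul : ∀ r r', d (r * r') = r • d r' + r' • d r := fun r r' => by
    refine ((congrArg (fun x : TrivSqZeroExt R L => TrivSqZeroExt.snd x) (map_mul s r r')).trans
      (TrivSqZeroExt.snd_mul (show TrivSqZeroExt R L from s r) (show TrivSqZeroExt R L from s r'))).trans ?_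
    show (TrivSqZeroExt.fst (show TrivSqZeroExt R L from s r)) • d r' +
      MulOpposite.op (TrivSqZeroExt.fst (show TrivSqZeroExt R L from s r')) • d r = _
    rw [hfst, hfst, op_smul_eq_smul]
  have hk : ∀ c, d (algebraMap K R c) = 0 := fun c => by
    rw [IsScalarTower.algebraMap_apply K B R, hsb, Derivation.map_algebraMap]
  refine ⟨Derivation.mk' { toFun := d, map_add' := hadd, map_smul' := fun c r => ?_ } fun r r' => hmul r r', hsb⟩
  show d (c • r) = c • d r
  rw [Algebra.smul_def, hmul, hk, smul_zero, add_zero, algebraMap_smul]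

/-- Extensions with equivalent inverse images are equivalent when extensions over the intermediate ring split. -/
theorem nonempty_equiv_of_pullback (h : ∀ X : Ext B R L, X.IsTrivial) (Y Y' : Ext K R L)
    (e : (Y.pullback B).Equiv (Y'.pullback B)) : Nonempty (Y.Equiv Y') := by
  classical
  let S := AlgHom.equalizer (Y.proj.comp (AlgHom.fst K Y.E Y'.E)) (Y'.proj.comp (AlgHom.snd K Y.E Y'.E))
  have hS : ∀ s : S, Y.proj s.1.1 = Y'.proj s.1.2 := fun s => s.2
  let p : S →ₐ[K] R := Y.proj.comp ((AlgHom.fst K Y.E Y'.E).comp S.val)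
  have hp : Function.Surjective p := fun r => by
    obtain ⟨y, hy⟩ := Y.isExtension.proj_surjective r
    obtain ⟨y', hy'⟩ := Y'.isExtension.proj_surjective r
    exact ⟨⟨(y, y'), hy.trans hy'.symm⟩, hy⟩
  have hz : ∀ s : S, p s = 0 → ∃ z z', Y.incl z = s.1.1 ∧ Y'.incl z' = s.1.2 := fun s hs => by
    obtain ⟨z, hz⟩ := (Y.isExtension.exact s.1.1).1 hs
    obtain ⟨z', hz'⟩ := (Y'.isExtension.exact s.1.2).1 ((hS s).symm.trans hs)
    exact ⟨z, z', hz, hz'⟩
  let θ : S → L := fun s => if hs : p s = 0 then (hz s hs).choose - (hz s hs).choose_spec.choose else 0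
  have hθ : ∀ (s : S) z z', Y.incl z = s.1.1 → Y'.incl z' = s.1.2 → θ s = z - z' := fun s z z' h1 h2 => by
    have hs : p s = 0 := (congrArg Y.proj h1).symm.trans (proj_incl Y z)
    simp only [θ, dif_pos hs]
    exact congrArg₂ (· - ·) (Y.isExtension.incl_injective ((hz s hs).choose_spec.choose_spec.1.trans h1.symm))
      (Y'.isExtension.incl_injective ((hz s hs).choose_spec.choose_spec.2.trans h2.symm))
  obtain ⟨W, u, hu, hθu⟩ := exists_ext_of_ker_hom hp θ
    (fun r s hr hs => by
      obtain ⟨z, z', h1, h2⟩ := hz r hr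
      obtain ⟨w, w', h3, h4⟩ := hz s hs
      rw [hθ r z z' h1 h2, hθ s w w' h3 h4, hθ (r + s) (z + w) (z' + w') (by rw [map_add, h1, h3]; rfl)
        (by rw [map_add, h2, h4]; rfl)]
      abel)
    (fun r s hs => by
      obtain ⟨w, w', h3, h4⟩ := hz s hs
      rw [hθ s w w' h3 h4, hθ (r * s) (p r • w) (p r • w')
        (by show Y.incl (Y.proj r.1.1 • w) = r.1.1 * s.1.1; rw [← Y.isExtension.mul_incl, h3])
        (by show Y'.incl (Y.proj r.1.1 • w') = r.1.2 * s.1.2; rw [hS r, ← Y'.isExtension.mul_incl, h4]), smul_sub])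
  have hui : ∀ (s : S) z z', Y.incl z = s.1.1 → Y'.incl z' = s.1.2 → u s = W.incl (z - z') := fun s z z' h1 h2 => by
    rw [← hθ s z z' h1 h2, hθu s ((congrArg Y.proj h1).symm.trans (proj_incl Y z))]
  -- the structure of a `B`-algebra
  let P₀ := (Y.pullback B).E
  let toS : P₀ →ₐ[K] S :=
    (((AlgHom.fst K Y.E B).comp (Y.fiberProd B).val).prod
      (((AlgHom.fst K Y'.E B).comp (Y'.fiberProd B).val).comp e.toAlgEquiv.toAlgHom)).codRestrict S fun q => by
      show Y.proj q.1.1 = Y'.proj (e.toAlgEquiv q).1.1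
      rw [show Y.proj q.1.1 = algebraMap B R q.1.2 from q.2,
        show Y'.proj (e.toAlgEquiv q).1.1 = algebraMap B R (e.toAlgEquiv q).1.2 from (e.toAlgEquiv q).2]
      exact congrArg (algebraMap B R) (e.proj_apply q).symm
  have hker : ∀ q ∈ RingHom.ker (Y.pullback B).proj, (u.comp toS) q = 0 := fun q hq => by
    obtain ⟨z, rfl⟩ := ((Y.pullback B).isExtension.exact q).1 hq
    show u (toS ((Y.pullback B).incl z)) = 0
    rw [hui _ z z rfl (by
      show Y'.incl z = (e.toAlgEquiv ((Y.pullback B).incl z)).1.1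
      rw [e.apply_incl]
      rfl), sub_self, map_zero]
  let π := (Y.pullback B).proj
  let qe := Ideal.quotientKerAlgEquivOfSurjective (f := π) (Y.pullback B).isExtension.proj_surjective
  let ψ : B →ₐ[K] W.E := (Ideal.Quotient.liftₐ (RingHom.ker π) (u.comp toS) hker).comp qe.symm.toAlgHom
  have hψ : ∀ q, ψ (π q) = u (toS q) := fun q => by
    have h1 : qe.symm (π q) = Ideal.Quotient.mk _ q := by
      rw [AlgEquiv.symm_apply_eq]
      rfl
    exact (congrArg (Ideal.Quotient.liftₐ (RingHom.ker π) (u.comp toS) hker) h1).trans rfl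
  letI : Algebra B W.E := ψ.toRingHom.toAlgebra
  let W' : Ext B R L :=
    { E := W.E
      proj := { W.proj.toRingHom with
        commutes' := fun b => by
          obtain ⟨q, rfl⟩ := (Y.pullback B).isExtension.proj_surjective b
          show W.proj (ψ (π q)) = _
          rw [hψ, hu]
          exact q.2 }
      incl := W.incl
      isExtension := ⟨W.isExtension.proj_surjective, W.isExtension.incl_injective, W.isExtension.exact,
        W.isExtension.mul_incl⟩ }
  obtain ⟨s₀, hs₀⟩ := h W'
  let s : R →ₐ[K] W.E :=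
    { s₀.toRingHom with
      commutes' := fun c => by
        show s₀ (algebraMap K R c) = algebraMap K W.E c
        rw [IsScalarTower.algebraMap_apply K B R, s₀.commutes]
        exact ψ.commutes c }
  have hs : ∀ r, W.proj (s r) = r := hs₀
  let T := AlgHom.equalizer u (s.comp p)
  let f₁ : T →ₐ[K] Y.E := ((AlgHom.fst K Y.E Y'.E).comp S.val).comp T.val
  let f₂ : T →ₐ[K] Y'.E := ((AlgHom.snd K Y.E Y'.E).comp S.val).comp T.val
  have hf₁ : Function.Bijective f₁ := by
    refine ⟨?_, fun y => ?_⟩
    · rw [injective_iff_map_eq_zero]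
      intro t ht
      have h1 : t.1.1.1 = 0 := ht
      obtain ⟨z', hz'⟩ := (Y'.isExtension.exact t.1.1.2).1 ((hS t.1).symm.trans (by rw [h1, map_zero]))
      have h2 : u t.1 = s (p t.1) := t.2
      rw [hui t.1 0 z' (by rw [map_zero, h1]) hz', show p t.1 = 0 from (congrArg Y.proj h1).trans (map_zero _),
        map_zero] at h2
      have h3 := W.isExtension.incl_injective (h2.trans (map_zero W.incl).symm)
      rw [zero_sub, neg_eq_zero] at h3
      refine Subtype.ext (Subtype.ext (Prod.ext h1 ?_))
      rw [← hz', h3, map_zero]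
      rfl
    · obtain ⟨y', hy'⟩ := Y'.isExtension.proj_surjective (Y.proj y)
      let s₁ : S := ⟨(y, y'), hy'.symm⟩
      obtain ⟨z, hzz⟩ := (W.isExtension.exact (u s₁ - s (p s₁))).1 (by rw [map_sub, hu, hs, sub_self])
      let s₂ : S := ⟨(0, Y'.incl z), by show Y.proj 0 = Y'.proj (Y'.incl z); rw [map_zero, proj_incl]⟩
      refine ⟨⟨s₁ + s₂, ?_⟩, ?_⟩
      · show u (s₁ + s₂) = s (p (s₁ + s₂))
        rw [map_add, map_add, hui s₂ 0 z (map_zero _) rfl, zero_sub, map_neg, show p s₂ = 0 from map_zero Y.proj, add_zero,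
          hzz]
        abel
      · show y + 0 = y
        rw [add_zero]
  let e₁ := AlgEquiv.ofBijective f₁ hf₁
  let φ : Y.E →ₐ[K] Y'.E := f₂.comp e₁.symm.toAlgHom
  have he : ∀ t, φ (f₁ t) = f₂ t := fun t => congrArg f₂ (e₁.symm_apply_apply t)
  have hproj : ∀ y, Y'.proj (φ y) = Y.proj y := fun y => by
    obtain ⟨t, rfl⟩ := hf₁.2 y
    rw [he]
    exact (hS t.1).symm
  have hincl : ∀ z, φ (Y.incl z) = Y'.incl z := fun z => by
    let t : T := ⟨⟨(Y.incl z, Y'.incl z), by show Y.proj (Y.incl z) = Y'.proj (Y'.incl z); rw [proj_incl, proj_incl]⟩, by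
      show u _ = s (p _)
      rw [hui _ z z rfl rfl, sub_self, map_zero, show p _ = 0 from proj_incl Y z, map_zero]⟩
    exact he t
  have hφ : Function.Bijective φ := by
    refine ⟨?_, fun y' => ?_⟩
    · rw [injective_iff_map_eq_zero]
      intro y hy
      obtain ⟨z, rfl⟩ := (Y.isExtension.exact y).1 (by rw [← hproj, hy, map_zero])
      rw [hincl] at hy
      rw [Y'.isExtension.incl_injective (hy.trans (map_zero Y'.incl).symm), map_zero]
    · obtain ⟨y, hy⟩ := Y.isExtension.proj_surjective (Y'.proj y')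
      obtain ⟨z, hz'⟩ := (Y'.isExtension.exact (y' - φ y)).1 (by rw [map_sub, hproj, hy, sub_self])
      exact ⟨y + Y.incl z, by rw [map_add, hincl, hz', add_sub_cancel]⟩
  exact ⟨⟨AlgEquiv.ofBijective φ hφ, hproj, hincl⟩⟩

/-- Extensions over the intermediate ring split when derivations extend and inverse image is injective. -/
theorem isTrivial_of_injective [Module K L] [IsScalarTower K B L] [IsScalarTower K R L]
    (hD : ∀ D : Derivation K B L, ∃ D' : Derivation K R L, ∀ b, D' (algebraMap B R b) = D b)
    (hinj : ∀ Y Y' : Ext K R L, Nonempty ((Y.pullback B).Equiv (Y'.pullback B)) → Nonempty (Y.Equiv Y'))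
    (X : Ext B R L) : X.IsTrivial := by
  letI : Algebra K X.E := ((algebraMap B X.E).comp (algebraMap K B)).toAlgebra
  haveI : IsScalarTower K B X.E := IsScalarTower.of_algebraMap_eq fun _ => rfl
  let X₀ : Ext K R L :=
    { E := X.E
      proj := X.proj.restrictScalars K
      incl := X.incl
      isExtension := ⟨X.isExtension.proj_surjective, X.isExtension.incl_injective, X.isExtension.exact,
        X.isExtension.mul_incl⟩ }
  have hsec : ∀ (Z : Ext K R L) (t : B →ₐ[K] Z.E), (∀ b, Z.proj (t b) = algebraMap B R b) → (Z.pullback B).IsTrivial :=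
    fun Z t ht => ⟨(t.prod (AlgHom.id K B)).codRestrict (Z.fiberProd B) ht, fun b => rfl⟩
  let T : Ext K R L := Ext.trivial K R L
  let sT : R →ₐ[K] T.E :=
    { toFun := fun r => (TrivSqZeroExt.inl r : TrivSqZeroExt R L)
      map_one' := TrivSqZeroExt.inl_one (R := R) (M := L)
      map_mul' := fun a b => by
        letI := Exal.opModule R L
        haveI := Exal.isCentralScalar_opModule R L
        exact TrivSqZeroExt.inl_mul L a b
      map_zero' := TrivSqZeroExt.inl_zero (R := R) (M := L)
      map_add' := fun a b => TrivSqZeroExt.inl_add L a b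
      commutes' := fun c => rfl }
  obtain ⟨e⟩ := hinj T X₀ (nonempty_equiv_of_split _ _
    (hsec T (sT.comp (IsScalarTower.toAlgHom K B R)) fun b => rfl)
    (hsec X₀ (IsScalarTower.toAlgHom K B X.E) fun b => X.proj.commutes b))
  let s₀ : R →ₐ[K] X.E := e.toAlgEquiv.toAlgHom.comp sT
  have hs₀ : ∀ r, X.proj (s₀ r) = r := fun r => (e.proj_apply (sT r)).trans rfl
  have hd : ∀ b, ∃ z, X.incl z = algebraMap B X.E b - s₀ (algebraMap B R b) := fun b =>
    (X.isExtension.exact _).1 (by rw [map_sub, X.proj.commutes, hs₀, sub_self])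
  choose δ hδ using hd
  have hinj' := X.isExtension.incl_injective
  have hmulb : ∀ b z, algebraMap B X.E b * X.incl z = X.incl (b • z) := fun b z => by
    rw [X.isExtension.mul_incl, X.proj.commutes, algebraMap_smul]
  have hmuls : ∀ b z, s₀ (algebraMap B R b) * X.incl z = X.incl (b • z) := fun b z => by
    rw [X.isExtension.mul_incl, hs₀, algebraMap_smul]
  let D : Derivation K B L := Derivation.mk'
    { toFun := δ
      map_add' := fun a b => hinj' (by rw [map_add X.incl, hδ, hδ, hδ, map_add, map_add, map_add]; ring)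
      map_smul' := fun c b => hinj' (by
        show X.incl (δ (c • b)) = X.incl (c • δ b)
        rw [← algebraMap_smul B c (δ b), ← hmulb, hδ, hδ, Algebra.smul_def, map_mul, map_mul, map_mul,
          ← IsScalarTower.algebraMap_apply K B R, s₀.commutes, ← IsScalarTower.algebraMap_apply K B X.E]
        ring) }
    fun a b => hinj' (by
      show X.incl (δ (a * b)) = X.incl (a • δ b + b • δ a)
      rw [map_add X.incl, ← hmulb a, ← hmuls b (δ a), hδ, hδ, hδ, map_mul, map_mul, map_mul]
      ring)
  obtain ⟨D', hD'⟩ := hD D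
  refine ⟨{ toFun := fun r => s₀ r + X.incl (D' r)
            map_one' := by rw [Derivation.map_one_eq_zero, map_zero, add_zero, map_one]
            map_mul' := fun r r' => ?_
            map_zero' := by rw [map_zero, map_zero, map_zero, add_zero]
            map_add' := fun r r' => by rw [map_add, map_add, map_add]; abel
            commutes' := fun b => ?_ }, fun r => ?_⟩
  · have h1 : X.incl (D' r) * X.incl (D' r') = 0 := by
      rw [X.isExtension.mul_incl, (X.isExtension.exact _).2 ⟨_, rfl⟩, zero_smul, map_zero]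
    have h2 : ∀ a z, s₀ a * X.incl z = X.incl (a • z) := fun a z => by rw [X.isExtension.mul_incl, hs₀]
    rw [D'.leibniz, map_mul, map_add X.incl, ← h2, ← h2]
    linear_combination -h1
  · show s₀ (algebraMap B R b) + X.incl (D' (algebraMap B R b)) = _
    rw [hD', show D b = δ b from rfl, hδ, add_sub_cancel]
  · show X.proj (s₀ r + X.incl (D' r)) = r
    rw [map_add, hs₀, (X.isExtension.exact (X.incl (D' r))).2 ⟨_, rfl⟩, add_zero]

end Groth.Agent.Lib.CotTwo.ExalBaseChange
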