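import Groth.Prelude.Def_Exal2
import Groth.Prelude.Def_Exal3

/-!
# Sections of extensions and the characteristic homomorphism
-/

noncomputable section

universe u v

open Exal TensorProduct

attribute [local instance] Exal.opModule Exal.isCentralScalar_opModule

namespace Groth.Agent.Lib.CotTwo

variable (A : Type u) {B C L : Type v} [CommRing A] [CommRing B] [CommRing C]
  [Algebra A B] [Algebra B C] [Algebra A C] [IsScalarTower A B C] [AddCommGroup L] [Module C L]

/-- A section of `E → C` compatible with `A`. -/
structure Sect (X : Ext B C L) where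
  s : C →+* X.E
  proj_s : ∀ c, X.proj (s c) = c
  s_algebraMap : ∀ a, s (algebraMap A C a) = algebraMap B X.E (algebraMap A B a)

variable {A}

lemma proj_incl {R : Type u} {S N : Type v} [CommRing R] [CommRing S] [Algebra R S] [AddCommGroup N] [Module S N]
    (X : Ext R S N) (z : N) : X.proj (X.incl z) = 0 :=
  (X.isExtension.exact _).2 ⟨z, rfl⟩

lemma incl_mul_incl {R : Type u} {S N : Type v} [CommRing R] [CommRing S] [Algebra R S] [AddCommGroup N] [Module S N]
    (X : Ext R S N) (z z' : N) : X.incl z * X.incl z' = 0 := by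
  rw [X.isExtension.mul_incl, proj_incl, zero_smul, map_zero]

theorem isTrivialOver_iff (X : Ext B C L) : X.IsTrivialOver A ↔ Nonempty (Sect A X) := by
  constructor
  · rintro ⟨s, hs⟩
    exact ⟨⟨s.toRingHom, hs, fun a => s.commutes a⟩⟩
  · rintro ⟨S⟩
    exact ⟨{ S.s with commutes' := S.s_algebraMap }, S.proj_s⟩

namespace Sect

variable {X : Ext B C L} (S : Sect A X)

/-- The projection to the kernel given by a section. -/
def kill (x : X.E) : L := X.kerLift (x - S.s (X.proj x)) (by rw [map_sub, S.proj_s, sub_self])

lemma incl_kill (x : X.E) : X.incl (S.kill x) = x - S.s (X.proj x) := X.incl_kerLift _ _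

lemma kill_incl (z : L) : S.kill (X.incl z) = z := X.isExtension.incl_injective (by
  rw [S.incl_kill, proj_incl, map_zero, sub_zero])

lemma kill_add (x y : X.E) : S.kill (x + y) = S.kill x + S.kill y := X.isExtension.incl_injective (by
  rw [map_add X.incl, S.incl_kill, S.incl_kill, S.incl_kill, map_add X.proj, map_add S.s]
  abel)

lemma kill_s (c : C) : S.kill (S.s c) = 0 := X.isExtension.incl_injective (by
  rw [S.incl_kill, S.proj_s, sub_self, map_zero])

lemma kill_algebraMap (a : A) : S.kill (algebraMap B X.E (algebraMap A B a)) = 0 := by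
  rw [← S.s_algebraMap, S.kill_s]

lemma kill_zero : S.kill 0 = 0 := by
  rw [← map_zero X.incl, S.kill_incl]

lemma kill_mul (x y : X.E) : S.kill (x * y) = X.proj x • S.kill y + X.proj y • S.kill x :=
  X.isExtension.incl_injective (by
    rw [map_add X.incl, S.incl_kill, ← X.isExtension.mul_incl, map_mul X.proj, map_mul S.s]
    conv_rhs => arg 2; rw [← S.proj_s (X.proj y), ← X.isExtension.mul_incl]
    rw [S.incl_kill, S.incl_kill]
    ring)

/-- `kill` as a map out of `C ⊗_E Ω_{E/A}`. -/
def retr : C ⊗[X.CharCarrier A] Ω[X.CharCarrier A⁄A] →ₗ[C] L :=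
  letI : Module (X.CharCarrier A) L := Module.compHom L (algebraMap (X.CharCarrier A) C)
  haveI : IsScalarTower (X.CharCarrier A) C L := IsScalarTower.of_compHom _ C L
  letI : Module A L := Module.compHom L (algebraMap A C)
  haveI : IsScalarTower A C L := IsScalarTower.of_compHom A C L
  haveI : IsScalarTower A (X.CharCarrier A) L := IsScalarTower.of_algebraMap_smul fun a z => by
    show algebraMap (X.CharCarrier A) C (algebraMap A (X.CharCarrier A) a) • z = algebraMap A C a • z
    rw [← IsScalarTower.algebraMap_apply]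
  let f : X.CharCarrier A →ₗ[A] L :=
    { toFun := fun x => S.kill (x : X.E)
      map_add' := S.kill_add
      map_smul' := fun a x => by
        rw [Algebra.smul_def]
        show S.kill (HMul.hMul (α := X.E) (β := X.E) (algebraMap B X.E (algebraMap A B a)) x) = algebraMap A C a • S.kill x
        rw [S.kill_mul, S.kill_algebraMap, smul_zero, add_zero, X.proj.commutes,
          ← IsScalarTower.algebraMap_apply A B C] }
  LinearMap.liftBaseChange C (Derivation.mk' f fun x y => S.kill_mul x y).liftKaehlerDifferential

lemma retr_tmul (c : C) (x : X.CharCarrier A) :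
    S.retr (c ⊗ₜ KaehlerDifferential.D A (X.CharCarrier A) x) = c • S.kill (x : X.E) := by
  letI : Module (X.CharCarrier A) L := Module.compHom L (algebraMap (X.CharCarrier A) C)
  haveI : IsScalarTower (X.CharCarrier A) C L := IsScalarTower.of_compHom _ C L
  letI : Module A L := Module.compHom L (algebraMap A C)
  haveI : IsScalarTower A C L := IsScalarTower.of_compHom A C L
  haveI : IsScalarTower A (X.CharCarrier A) L := IsScalarTower.of_algebraMap_smul fun a z => by
    show algebraMap (X.CharCarrier A) C (algebraMap A (X.CharCarrier A) a) • z = algebraMap A C a • z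
    rw [← IsScalarTower.algebraMap_apply]
  rw [retr, LinearMap.liftBaseChange_tmul, Derivation.liftKaehlerDifferential_comp_D]
  rfl

lemma retr_deltaL (z : L) : S.retr (X.deltaL A z) = z :=
  (S.retr_tmul 1 (X.inclC A z)).trans ((one_smul C _).trans (S.kill_incl z))

end Sect

variable (A) in
/-- `baseChangeToMiddle` is `C`-linear. -/
def betaC (X : Ext B C L) : C ⊗[B] Ω[B⁄A] →ₗ[C] C ⊗[X.CharCarrier A] Ω[X.CharCarrier A⁄A] where
  toFun := X.baseChangeToMiddle A
  map_add' := map_add _
  map_smul' c z := by
    induction z using TensorProduct.induction_on with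
    | zero => simp
    | add x y hx hy => rw [smul_add, map_add, map_add, hx, hy, smul_add]
    | tmul d ω =>
      rw [TensorProduct.smul_tmul', RingHom.id_apply]
      show ((c • d) ⊗ₜ[X.CharCarrier A] _ : C ⊗[X.CharCarrier A] Ω[X.CharCarrier A⁄A]) = c • (d ⊗ₜ[X.CharCarrier A] _)
      rw [TensorProduct.smul_tmul']

lemma betaC_tmul (X : Ext B C L) (c : C) (b : B) :
    betaC A X (c ⊗ₜ KaehlerDifferential.D A B b) =
      c ⊗ₜ KaehlerDifferential.D A (X.CharCarrier A) (algebraMap B (X.CharCarrier A) b) := by
  show c ⊗ₜ[X.CharCarrier A] KaehlerDifferential.map A A B (X.CharCarrier A) (KaehlerDifferential.D A B b) = _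
  rw [KaehlerDifferential.map_D]

lemma mapBaseChange_betaC (X : Ext B C L) (z : C ⊗[B] Ω[B⁄A]) :
    KaehlerDifferential.mapBaseChange A (X.CharCarrier A) C (betaC A X z) =
      KaehlerDifferential.mapBaseChange A B C z := by
  induction z using TensorProduct.induction_on with
  | zero => simp
  | add x y hx hy => rw [map_add, map_add, map_add, hx, hy]
  | tmul c ω =>
    induction (KaehlerDifferential.span_range_derivation A B).ge (Submodule.mem_top : ω ∈ ⊤)
      using Submodule.span_induction with
    | mem ω hω =>
      obtain ⟨b, rfl⟩ := hω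
      rw [betaC_tmul, KaehlerDifferential.mapBaseChange_tmul, KaehlerDifferential.mapBaseChange_tmul,
        KaehlerDifferential.map_D, KaehlerDifferential.map_D, ← IsScalarTower.algebraMap_apply]
    | zero => simp
    | add x y _ _ hx hy => rw [TensorProduct.tmul_add, map_add, map_add, map_add, hx, hy]
    | smul b x _ hx =>
      rw [← TensorProduct.smul_tmul, Algebra.smul_def, ← smul_eq_mul, ← TensorProduct.smul_tmul',
        map_smul, map_smul, map_smul, hx]

namespace Sect

variable {X : Ext B C L} (S : Sect A X)

/-- The extension of the characteristic homomorphism given by a section. -/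
def phi : C ⊗[B] Ω[B⁄A] →ₗ[C] L := S.retr ∘ₗ betaC A X

lemma phi_tmul (c : C) (b : B) : S.phi (c ⊗ₜ KaehlerDifferential.D A B b) = c • S.kill (algebraMap B X.E b) := by
  rw [phi, LinearMap.comp_apply, betaC_tmul, S.retr_tmul]
  rfl

lemma exists_deltaL_eq {x : C ⊗[X.CharCarrier A] Ω[X.CharCarrier A⁄A]}
    (hx : KaehlerDifferential.mapBaseChange A (X.CharCarrier A) C x = 0) : ∃ z : L, X.deltaL A z = x := by
  obtain ⟨w, rfl⟩ := (KaehlerDifferential.exact_kerCotangentToTensor_mapBaseChange A (X.CharCarrier A) C
    (fun c => X.isExtension.proj_surjective c) x).1 hx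
  obtain ⟨⟨w, hw⟩, rfl⟩ := Ideal.toCotangent_surjective _ w
  obtain ⟨z, hz⟩ := (X.isExtension.exact (w : X.E)).1 hw
  refine ⟨z, ?_⟩
  rw [KaehlerDifferential.kerCotangentToTensor_toCotangent]
  exact congrArg (fun y : X.CharCarrier A => (1 : C) ⊗ₜ[X.CharCarrier A] KaehlerDifferential.D A (X.CharCarrier A) y) hz

include S in
theorem isCharHom_iff (χ : EGA41.imperfection A B C →ₗ[C] L) :
    X.IsCharHom A χ ↔ ∀ z, χ z = S.phi z := by
  have key : ∀ z : EGA41.imperfection A B C, X.deltaL A (S.phi z) = X.baseChangeToMiddle A z := fun z => by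
    obtain ⟨m, hm⟩ := exists_deltaL_eq (X := X) (x := betaC A X z)
      ((mapBaseChange_betaC X z.1).trans (LinearMap.mem_ker.1 z.2))
    have : S.phi z = m := by
      rw [phi, LinearMap.comp_apply, ← hm, S.retr_deltaL]
    rw [this, hm]
    rfl
  constructor
  · intro h z
    have h1 := congrArg S.retr ((h z).trans (key z).symm)
    rwa [S.retr_deltaL, S.retr_deltaL] at h1
  · intro h z
    rw [h z, key z]

/-- The section moved by a derivation of `C`. -/
def move (g : Ω[C⁄A] →ₗ[C] L) : Sect A X where
  s :=
    { toFun := fun c => S.s c + X.incl (g (KaehlerDifferential.D A C c))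
      map_one' := by rw [map_one, Derivation.map_one_eq_zero, map_zero g, map_zero, add_zero]
      map_mul' := fun c d => by
        rw [Derivation.leibniz, map_add g, map_smul, map_smul, map_add X.incl, map_mul]
        rw [add_mul, mul_add, mul_add, incl_mul_incl, mul_comm (X.incl _) (S.s d), X.isExtension.mul_incl,
          X.isExtension.mul_incl, S.proj_s, S.proj_s, add_zero]
        abel
      map_zero' := by rw [map_zero, map_zero, map_zero g, map_zero, add_zero]
      map_add' := fun c d => by
        rw [map_add, map_add, map_add g, map_add X.incl]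
        abel }
  proj_s c := by
    show X.proj (S.s c + X.incl _) = c
    rw [map_add, S.proj_s, proj_incl, add_zero]
  s_algebraMap a := by
    show S.s _ + X.incl _ = _
    rw [Derivation.map_algebraMap, map_zero g, map_zero, add_zero, S.s_algebraMap]

lemma kill_move (g : Ω[C⁄A] →ₗ[C] L) (x : X.E) :
    (S.move g).kill x = S.kill x - g (KaehlerDifferential.D A C (X.proj x)) := X.isExtension.incl_injective (by
  rw [map_sub X.incl, incl_kill, incl_kill]
  show x - (S.s _ + X.incl _) = _
  abel)

/-- The equivalence from two sections with the same derivation. -/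
theorem nonempty_equiv {Y : Ext B C L} (T : Sect A Y)
    (h : ∀ b, S.kill (algebraMap B X.E b) = T.kill (algebraMap B Y.E b)) : Nonempty (X.Equiv Y) := by
  let f : X.E → Y.E := fun x => T.s (X.proj x) + Y.incl (S.kill x)
  have hp : ∀ x, Y.proj (f x) = X.proj x := fun x => by
    show Y.proj (T.s _ + Y.incl _) = _
    rw [map_add, T.proj_s, proj_incl, add_zero]
  have hmul : ∀ x y, f (x * y) = f x * f y := fun x y => by
    show T.s _ + Y.incl _ = (T.s _ + Y.incl _) * (T.s _ + Y.incl _)
    rw [S.kill_mul, map_mul X.proj, map_mul T.s, map_add Y.incl, add_mul, mul_add, mul_add, incl_mul_incl,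
      mul_comm (Y.incl _) (T.s (X.proj y)), Y.isExtension.mul_incl, Y.isExtension.mul_incl, T.proj_s, T.proj_s]
    abel
  have halg : ∀ b, f (algebraMap B X.E b) = algebraMap B Y.E b := fun b => by
    show T.s _ + Y.incl _ = _
    rw [X.proj.commutes, h, T.incl_kill, Y.proj.commutes]
    abel
  have hinv : ∀ x, S.s (Y.proj (f x)) + X.incl (T.kill (f x)) = x := fun x => by
    have hk : T.kill (f x) = S.kill x := by
      show T.kill (T.s _ + Y.incl _) = _
      rw [T.kill_add, T.kill_s, T.kill_incl, zero_add]
    rw [hp, hk, S.incl_kill]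
    abel
  let F : X.E →ₐ[B] Y.E :=
    { toFun := f
      map_one' := by rw [← map_one (algebraMap B X.E), halg, map_one]
      map_mul' := hmul
      map_zero' := by rw [← map_zero (algebraMap B X.E), halg, map_zero]
      map_add' := fun x y => by
        show T.s _ + Y.incl _ = (T.s _ + Y.incl _) + (T.s _ + Y.incl _)
        rw [S.kill_add, map_add X.proj, map_add T.s, map_add Y.incl]
        abel
      commutes' := halg }
  have hbij : Function.Bijective F := by
    refine ⟨fun x y hxy => ?_, fun y => ⟨S.s (Y.proj y) + X.incl (T.kill y), ?_⟩⟩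
    · rw [← hinv x, ← hinv y]
      exact congrArg (fun w => S.s (Y.proj w) + X.incl (T.kill w)) hxy
    · show T.s (X.proj (S.s _ + X.incl _)) + Y.incl (S.kill (S.s _ + X.incl _)) = y
      rw [map_add X.proj, S.proj_s, proj_incl, add_zero, S.kill_add, S.kill_s, S.kill_incl, zero_add, T.incl_kill]
      abel
  refine ⟨⟨AlgEquiv.ofBijective F hbij, hp, fun z => ?_⟩⟩
  show T.s _ + Y.incl _ = Y.incl z
  rw [proj_incl, map_zero, zero_add, S.kill_incl]

/-- Extensions with the same characteristic map, up to derivations of `C`, are equivalent. -/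
theorem nonempty_equiv_of_phi {Y : Ext B C L} (T : Sect A Y) (g : Ω[C⁄A] →ₗ[C] L)
    (h : ∀ z, S.phi z = T.phi z + g (KaehlerDifferential.mapBaseChange A B C z)) : Nonempty (X.Equiv Y) := by
  refine (S.move g).nonempty_equiv T fun b => ?_
  have h1 := h (1 ⊗ₜ KaehlerDifferential.D A B b)
  rw [S.phi_tmul, T.phi_tmul, one_smul, one_smul, KaehlerDifferential.mapBaseChange_tmul, one_smul,
    KaehlerDifferential.map_D] at h1
  rw [kill_move, X.proj.commutes, h1, add_sub_cancel_right]

end Sect

/-- Every map on `C ⊗_B Ω_{B/A}` comes from a split extension. -/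
theorem exists_sect_phi_eq (Φ : C ⊗[B] Ω[B⁄A] →ₗ[C] L) :
    ∃ (X : Ext B C L) (S : Sect A X), S.phi = Φ := by
  letI : Module B L := Module.compHom L (algebraMap B C)
  haveI : IsScalarTower B C L := IsScalarTower.of_compHom B C L
  letI : Module A L := Module.compHom L (algebraMap A C)
  haveI : IsScalarTower A C L := IsScalarTower.of_compHom A C L
  haveI : IsScalarTower A B L := IsScalarTower.of_algebraMap_smul fun a z => by
    show algebraMap B C (algebraMap A B a) • z = algebraMap A C a • z
    rw [← IsScalarTower.algebraMap_apply]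
  let φ : Ω[B⁄A] →ₗ[B] L := (Φ.restrictScalars B) ∘ₗ TensorProduct.mk B C Ω[B⁄A] 1
  let D : Derivation A B L := φ.compDer (KaehlerDifferential.D A B)
  let X : Ext B C L := Ext.ofDerivation (C := C) D
  let S : Sect A X :=
    { s := TrivSqZeroExt.inlHom C L
      proj_s := fun c => rfl
      s_algebraMap := fun a => by
        refine TrivSqZeroExt.ext ?_ ?_
        · show algebraMap A C a = algebraMap B C (algebraMap A B a) + 0
          rw [add_zero, ← IsScalarTower.algebraMap_apply]
        · show (0 : L) = 0 + D (algebraMap A B a)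
          rw [Derivation.map_algebraMap, add_zero] }
  refine ⟨X, S, LinearMap.ext fun z => ?_⟩
  induction z using TensorProduct.induction_on with
  | zero => rw [map_zero, map_zero]
  | add x y hx hy => rw [map_add, map_add, hx, hy]
  | tmul c ω =>
    induction (KaehlerDifferential.span_range_derivation A B).ge (Submodule.mem_top : ω ∈ ⊤)
      using Submodule.span_induction with
    | mem ω hω =>
      obtain ⟨b, rfl⟩ := hω
      have hk : S.kill (algebraMap B X.E b) = D b := X.isExtension.incl_injective (by
        rw [S.incl_kill, X.proj.commutes]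
        refine TrivSqZeroExt.ext ?_ ?_
        · show (algebraMap B C b + 0) - algebraMap B C b = 0
          rw [add_zero, sub_self]
        · show (0 + D b) - 0 = D b
          rw [zero_add, sub_zero])
      rw [S.phi_tmul, hk]
      show c • Φ (1 ⊗ₜ KaehlerDifferential.D A B b) = _
      rw [← map_smul, TensorProduct.smul_tmul', smul_eq_mul, mul_one]
    | zero => rw [TensorProduct.tmul_zero, map_zero, map_zero]
    | add x y _ _ hx hy => rw [TensorProduct.tmul_add, map_add, map_add, hx, hy]
    | smul b x _ hx =>
      rw [← TensorProduct.smul_tmul, Algebra.smul_def, ← smul_eq_mul, ← TensorProduct.smul_tmul',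
        map_smul, map_smul, hx]

/-- Maps killing the imperfection module extend to `Ω_{C/A}` under the hypotheses of injectivity. -/
theorem exists_factor
    (h : Module.Injective C L ∨ ∃ s : Ω[C⁄B] →ₗ[C] Ω[C⁄A], ∀ ω : Ω[C⁄B], KaehlerDifferential.map A B C C (s ω) = ω)
    (Φ : C ⊗[B] Ω[B⁄A] →ₗ[C] L) (hΦ : ∀ z ∈ EGA41.imperfection A B C, Φ z = 0) :
    ∃ g : Ω[C⁄A] →ₗ[C] L, ∀ z, g (KaehlerDifferential.mapBaseChange A B C z) = Φ z := by
  let μ := KaehlerDifferential.mapBaseChange A B C
  let Φ' : LinearMap.range μ →ₗ[C] L :=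
    ((LinearMap.ker μ).liftQ Φ fun z hz => hΦ z hz) ∘ₗ μ.quotKerEquivRange.symm.toLinearMap
  have hΦ' : ∀ z, Φ' ⟨μ z, z, rfl⟩ = Φ z := fun z => by
    rw [LinearMap.comp_apply, LinearEquiv.coe_coe, show μ.quotKerEquivRange.symm ⟨μ z, z, rfl⟩ = Submodule.Quotient.mk z from
      (LinearEquiv.symm_apply_eq _).2 (Subtype.ext rfl)]
    rfl
  rcases h with hinj | ⟨s, hs⟩
  · obtain ⟨g, hg⟩ := hinj.out (LinearMap.range μ).subtype Subtype.val_injective Φ'
    exact ⟨g, fun z => (hg ⟨μ z, z, rfl⟩).trans (hΦ' z)⟩
  · have hmem : ∀ ω, (LinearMap.id - s ∘ₗ KaehlerDifferential.map A B C C : Ω[C⁄A] →ₗ[C] Ω[C⁄A]) ω ∈ LinearMap.range μ := fun ω => by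
      refine (KaehlerDifferential.exact_mapBaseChange_map A B C _).1 ?_
      show KaehlerDifferential.map A B C C (ω - s (KaehlerDifferential.map A B C C ω)) = 0
      rw [map_sub, hs, sub_self]
    refine ⟨Φ' ∘ₗ LinearMap.codRestrict _ _ hmem, fun z => ?_⟩
    rw [LinearMap.comp_apply, ← hΦ' z]
    refine congrArg Φ' (Subtype.ext ?_)
    show μ z - s (KaehlerDifferential.map A B C C (μ z)) = μ z
    rw [(KaehlerDifferential.exact_mapBaseChange_map A B C).apply_apply_eq_zero, map_zero, sub_zero]

section Der

variable [Module B L] [IsScalarTower B C L] [Module A L] [IsScalarTower A B L]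

/-- The section of the extension of a derivation. -/
def derSect (D : Derivation A B L) : Sect A (Ext.ofDerivation (C := C) D) where
  s := TrivSqZeroExt.inlHom C L
  proj_s _ := rfl
  s_algebraMap a := by
    refine TrivSqZeroExt.ext ?_ ?_
    · show algebraMap A C a = algebraMap B C (algebraMap A B a) + 0
      rw [add_zero, ← IsScalarTower.algebraMap_apply]
    · show (0 : L) = 0 + D (algebraMap A B a)
      rw [Derivation.map_algebraMap, add_zero]

lemma derSect_kill (D : Derivation A B L) (b : B) :
    (derSect (C := C) D).kill (algebraMap B (Ext.ofDerivation (C := C) D).E b) = D b :=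
  (Ext.ofDerivation (C := C) D).isExtension.incl_injective (by
    rw [Sect.incl_kill, (Ext.ofDerivation (C := C) D).proj.commutes]
    refine TrivSqZeroExt.ext ?_ ?_
    · show (algebraMap B C b + 0) - algebraMap B C b = 0
      rw [add_zero, sub_self]
    · show (0 + D b) - 0 = D b
      rw [zero_add, sub_zero])

end Der

/-- Sections pass along equivalences. -/
def Sect.ofEquiv {X Y : Ext B C L} (S : Sect A X) (e : X.Equiv Y) : Sect A Y where
  s := (e.toAlgEquiv : X.E →+* Y.E).comp S.s
  proj_s c := (e.proj_apply _).trans (S.proj_s c)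
  s_algebraMap a := (congrArg e.toAlgEquiv (S.s_algebraMap a)).trans (e.toAlgEquiv.commutes _)

end Groth.Agent.Lib.CotTwo
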