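import Groth.Agent.Lib.CotTwo.ExalChar
import Mathlib.RingTheory.Smooth.Basic
import Mathlib.RingTheory.Kaehler.JacobiZariski
import Mathlib.LinearAlgebra.TensorProduct.RightExactness

/-!
# Consequences of formal smoothness for extensions; conormal sequences
-/

noncomputable section

universe u v

open Exal TensorProduct

namespace Groth.Agent.Lib.CotTwo

variable {A : Type u} {B C L : Type v} [CommRing A] [CommRing B] [CommRing C]
  [Algebra A B] [Algebra B C] [Algebra A C] [IsScalarTower A B C] [AddCommGroup L] [Module C L]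

/-- Over a formally smooth algebra every extension splits. -/
theorem nonempty_sect_of_formallySmooth [Algebra.FormallySmooth A C] (X : Ext B C L) : Nonempty (Sect A X) := by
  let g : X.RestrictCarrier A →ₐ[A] C := (X.restrictBase A).proj
  have hnil : IsNilpotent (RingHom.ker (g : X.RestrictCarrier A →+* C)) := by
    refine ⟨2, le_bot_iff.1 ?_⟩
    rw [pow_two, Ideal.mul_le]
    intro x hx y hy
    obtain ⟨z, rfl⟩ := ((X.restrictBase A).isExtension.exact x).1 hx
    obtain ⟨z', rfl⟩ := ((X.restrictBase A).isExtension.exact y).1 hy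
    exact incl_mul_incl (X.restrictBase A) z z'
  let s := Algebra.FormallySmooth.liftOfSurjective (AlgHom.id A C) g (X.restrictBase A).isExtension.proj_surjective hnil
  exact ⟨⟨s.toRingHom, fun c => Algebra.FormallySmooth.liftOfSurjective_apply (AlgHom.id A C) g _ _ c,
    fun a => s.commutes a⟩⟩

/-- The imperfection module is a direct summand. -/
theorem exists_retraction_imperfection [Module.Projective C Ω[C⁄A]] [Module.Projective C Ω[C⁄B]] :
    (∃ r : C ⊗[B] Ω[B⁄A] →ₗ[C] EGA41.imperfection A B C, ∀ z : EGA41.imperfection A B C, r z = z) ∧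
      ∃ s : Ω[C⁄B] →ₗ[C] Ω[C⁄A], ∀ ω : Ω[C⁄B], KaehlerDifferential.map A B C C (s ω) = ω := by
  let μ := KaehlerDifferential.mapBaseChange A B C
  obtain ⟨s, hs⟩ := (KaehlerDifferential.map A B C C).exists_rightInverse_of_surjective
    (LinearMap.range_eq_top.2 (KaehlerDifferential.map_surjective A B C))
  have hs' : ∀ ω, KaehlerDifferential.map A B C C (s ω) = ω := LinearMap.congr_fun hs
  refine ⟨?_, s, hs'⟩
  have hmem : ∀ ω, (LinearMap.id - s ∘ₗ KaehlerDifferential.map A B C C : Ω[C⁄A] →ₗ[C] Ω[C⁄A]) ω ∈ LinearMap.range μ :=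
    fun ω => by
      refine (KaehlerDifferential.exact_mapBaseChange_map A B C _).1 ?_
      show KaehlerDifferential.map A B C C (ω - s (KaehlerDifferential.map A B C C ω)) = 0
      rw [map_sub, hs', sub_self]
  have hμs : ∀ x, KaehlerDifferential.map A B C C (μ x) = 0 :=
    (KaehlerDifferential.exact_mapBaseChange_map A B C).apply_apply_eq_zero
  haveI : Module.Projective C (LinearMap.range μ) :=
    .of_split (LinearMap.range μ).subtype (LinearMap.codRestrict _ _ hmem) (LinearMap.ext fun ⟨_, x, rfl⟩ => Subtype.ext (by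
      show μ x - s (KaehlerDifferential.map A B C C (μ x)) = μ x
      rw [hμs, map_zero, sub_zero]))
  obtain ⟨t, ht⟩ := μ.rangeRestrict.exists_rightInverse_of_surjective μ.range_rangeRestrict
  have ht' : ∀ y, μ (t y) = y.1 := fun y => congrArg Subtype.val (LinearMap.congr_fun ht y)
  refine ⟨LinearMap.codRestrict _ (LinearMap.id - t ∘ₗ μ.rangeRestrict) (fun z => ?_), fun z => Subtype.ext ?_⟩
  · show μ (z - t (μ.rangeRestrict z)) = 0
    rw [map_sub, ht', sub_eq_zero]; rfl
  · show z.1 - t (μ.rangeRestrict z.1) = z.1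
    rw [show μ.rangeRestrict z.1 = 0 from Subtype.ext z.2, map_zero, sub_zero]

end Groth.Agent.Lib.CotTwo
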