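import Groth.Agent.Lib.CotTwo.ExalChar2

/-!
# Change of base of the characteristic homomorphism
-/

noncomputable section

universe u v

open Exal TensorProduct

namespace Groth.Agent.Lib.CotTwo

variable {Λ : Type u} {A B C L : Type v} [CommRing Λ] [CommRing A] [CommRing B] [CommRing C]
  [Algebra Λ A] [Algebra Λ B] [Algebra A B] [IsScalarTower Λ A B] [Algebra A C] [Algebra B C] [IsScalarTower A B C]
  [Algebra Λ C] [IsScalarTower Λ A C] [IsScalarTower Λ B C] [AddCommGroup L] [Module C L]

variable (Λ A B C) in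
/-- `C ⊗_A Ω_{A/Λ} → C ⊗_B Ω_{B/Λ}`. -/
def nu : C ⊗[A] Ω[A⁄Λ] →ₗ[C] C ⊗[B] Ω[B⁄Λ] :=
  ((KaehlerDifferential.mapBaseChange Λ A B).baseChange C) ∘ₗ
    (TensorProduct.AlgebraTensorModule.cancelBaseChange A B C C Ω[A⁄Λ]).symm.toLinearMap

omit [IsScalarTower Λ A C] [IsScalarTower Λ B C] [Algebra Λ C] in
lemma nu_tmul (c : C) (a : A) :
    nu Λ A B C (c ⊗ₜ KaehlerDifferential.D Λ A a) = c ⊗ₜ KaehlerDifferential.D Λ B (algebraMap A B a) := by
  rw [nu, LinearMap.comp_apply, LinearEquiv.coe_coe, AlgebraTensorModule.cancelBaseChange_symm_tmul,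
    LinearMap.baseChange_tmul, KaehlerDifferential.mapBaseChange_tmul, one_smul, KaehlerDifferential.map_D]

/-- Linear maps out of `C ⊗_A Ω_{A/Λ}` are determined on the `c ⊗ da`. -/
lemma ext_tmul_D {N : Type*} [AddCommGroup N] [Module C N] {f g : C ⊗[A] Ω[A⁄Λ] →ₗ[C] N}
    (h : ∀ a, f (1 ⊗ₜ KaehlerDifferential.D Λ A a) = g (1 ⊗ₜ KaehlerDifferential.D Λ A a)) : f = g := by
  refine LinearMap.ext fun z => ?_
  induction z using TensorProduct.induction_on with
  | zero => rw [map_zero, map_zero]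
  | add x y hx hy => rw [map_add, map_add, hx, hy]
  | tmul c ω =>
    induction (KaehlerDifferential.span_range_derivation Λ A).ge (Submodule.mem_top : ω ∈ ⊤)
      using Submodule.span_induction generalizing c with
    | mem ω hω =>
      obtain ⟨a, rfl⟩ := hω
      rw [← mul_one c, ← smul_eq_mul, ← TensorProduct.smul_tmul', map_smul, map_smul, h]
    | zero => rw [TensorProduct.tmul_zero, map_zero, map_zero]
    | add x y _ _ hx hy => rw [TensorProduct.tmul_add, map_add, map_add, hx, hy]
    | smul a x _ hx => rw [← TensorProduct.smul_tmul, hx]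

omit [AddCommGroup L] [Module C L] in
lemma mapBaseChange_nu (z : C ⊗[A] Ω[A⁄Λ]) :
    KaehlerDifferential.mapBaseChange Λ B C (nu Λ A B C z) = KaehlerDifferential.mapBaseChange Λ A C z := by
  refine LinearMap.congr_fun (ext_tmul_D (f := KaehlerDifferential.mapBaseChange Λ B C ∘ₗ nu Λ A B C)
    (g := KaehlerDifferential.mapBaseChange Λ A C) fun a => ?_) z
  rw [LinearMap.comp_apply, nu_tmul, KaehlerDifferential.mapBaseChange_tmul, KaehlerDifferential.mapBaseChange_tmul,
    KaehlerDifferential.map_D, KaehlerDifferential.map_D, ← IsScalarTower.algebraMap_apply]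

/-- A section for a restricted extension is one for the extension. -/
def Sect.ofRestrict {X : Ext B C L} (S : Sect Λ (X.restrictBase A)) : Sect Λ X where
  s := S.s
  proj_s := S.proj_s
  s_algebraMap c := (S.s_algebraMap c).trans (congrArg (algebraMap B X.E) (IsScalarTower.algebraMap_apply Λ A B c).symm)

lemma Sect.phi_ofRestrict {X : Ext B C L} (S : Sect Λ (X.restrictBase A)) (z : C ⊗[A] Ω[A⁄Λ]) :
    S.phi z = S.ofRestrict.phi (nu Λ A B C z) := by
  refine LinearMap.congr_fun (ext_tmul_D (f := S.phi) (g := S.ofRestrict.phi ∘ₗ nu Λ A B C) fun a => ?_) z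
  rw [LinearMap.comp_apply, nu_tmul, Sect.phi_tmul, Sect.phi_tmul, one_smul, one_smul]
  exact X.isExtension.incl_injective ((S.incl_kill _).trans (S.ofRestrict.incl_kill _).symm)

end Groth.Agent.Lib.CotTwo
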