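import Groth.Prelude.Def_Exal
import Mathlib.RingTheory.AdicCompletion.Basic
import Mathlib.RingTheory.Filtration
import Mathlib.RingTheory.Nakayama
import Mathlib.RingTheory.Nilpotent.Lemmas
import Mathlib.RingTheory.Nilpotent.Basic
import Mathlib.RingTheory.SimpleModule.Basic
import Mathlib.RingTheory.LocalRing.RingHom.Basic

/-!
# Extensions of local rings by simple modules
-/

noncomputable section

universe u

open IsLocalRing

namespace Groth.Agent.Lib.CotTwo.ExalComplete

variable {A B L : Type u} [CommRing A] [CommRing B] [Algebra A B] [IsLocalRing B] [AddCommGroup L] [Module B L]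
  [IsSimpleModule B L] (X : Exal.Ext A B L)

omit [Algebra A B] in
/-- A simple module over a local ring is killed by the maximal ideal. -/
theorem smul_eq_zero {b : B} (hb : b ∈ maximalIdeal B) (z : L) : b • z = 0 := by
  have hfg : (⊤ : Submodule B L).FG := Module.Finite.fg_top
  rcases eq_bot_or_eq_top (maximalIdeal B • (⊤ : Submodule B L)) with h | h
  · have := Submodule.smul_mem_smul hb (Submodule.mem_top (x := z) (R := B))
    rwa [h, Submodule.mem_bot] at this
  · have h0 := Submodule.eq_bot_of_le_smul_of_le_jacobson_bot (maximalIdeal B) ⊤ hfg h.ge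
      (IsLocalRing.maximalIdeal_le_jacobson _)
    have : z ∈ (⊥ : Submodule B L) := h0 ▸ Submodule.mem_top
    rw [(Submodule.mem_bot B).1 this, smul_zero]

omit [IsSimpleModule B L] in
theorem isUnit_iff (x : X.E) : IsUnit x ↔ IsUnit (X.proj x) := by
  refine ⟨fun h => h.map X.proj, fun h => ?_⟩
  obtain ⟨y, hy⟩ := X.isExtension.proj_surjective ↑h.unit⁻¹
  obtain ⟨z, hz⟩ := (X.isExtension.exact (x * y - 1)).1 (by rw [map_sub, map_mul, hy, h.mul_val_inv, map_one, sub_self])
  have hnil : IsNilpotent (X.incl z) := ⟨2, by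
    rw [pow_two, X.isExtension.mul_incl, (X.isExtension.exact (X.incl z)).2 ⟨_, rfl⟩, zero_smul, map_zero]⟩
  refine isUnit_of_mul_isUnit_left (y := y) ?_
  rw [show x * y = 1 + X.incl z by rw [hz]; ring]
  exact IsNilpotent.isUnit_one_add hnil

omit [IsSimpleModule B L] in
theorem isLocalRing : IsLocalRing X.E := by
  haveI : IsLocalHom X.proj.toRingHom := ⟨fun x h => (isUnit_iff X x).2 h⟩
  exact RingHom.domain_isLocalRing X.proj.toRingHom

omit [IsSimpleModule B L] in
theorem mem_maximalIdeal [IsLocalRing X.E] (x : X.E) : x ∈ maximalIdeal X.E ↔ X.proj x ∈ maximalIdeal B := by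
  simp only [IsLocalRing.mem_maximalIdeal, mem_nonunits_iff, isUnit_iff X x]

/-- An ideal either misses the kernel or contains it. -/
theorem ker_inf_eq (I : Ideal X.E) :
    (∀ x ∈ I, X.proj x = 0 → x = 0) ∨ ∀ z, X.incl z ∈ I := by
  let N : Submodule B L :=
    { carrier := {z | X.incl z ∈ I}
      add_mem' := fun {a b} ha hb => by
        show X.incl (a + b) ∈ I
        rw [map_add]
        exact add_mem ha hb
      zero_mem' := by
        show X.incl 0 ∈ I
        rw [map_zero]
        exact zero_mem I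
      smul_mem' := fun b z hz => by
        obtain ⟨e, rfl⟩ := X.isExtension.proj_surjective b
        show X.incl (X.proj e • z) ∈ I
        rw [← X.isExtension.mul_incl]
        exact I.mul_mem_left _ hz }
  rcases eq_bot_or_eq_top N with h | h
  · refine Or.inl fun x hx h0 => ?_
    obtain ⟨z, rfl⟩ := (X.isExtension.exact x).1 h0
    rw [(Submodule.mem_bot B).1 (h ▸ hx : z ∈ (⊥ : Submodule B L)), map_zero]
  · exact Or.inr fun z => (h.symm ▸ Submodule.mem_top : z ∈ N)

theorem isNoetherianRing [IsNoetherianRing B] : IsNoetherianRing X.E := by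
  classical
  refine (isNoetherianRing_iff_ideal_fg _).2 fun I => ?_
  obtain ⟨S, hS⟩ := IsNoetherian.noetherian (I.map X.proj)
  have hpre : ∀ b ∈ S, ∃ e ∈ I, X.proj e = b := fun b hb =>
    (Ideal.mem_map_iff_of_surjective _ X.isExtension.proj_surjective).1 (hS ▸ Ideal.subset_span hb)
  choose g hgI hg using hpre
  let G : Set X.E := Set.range fun b : S => g b.1 b.2
  have hG : G.Finite := Set.finite_range _
  have hGI : Ideal.span G ≤ I := Ideal.span_le.2 (by rintro _ ⟨b, rfl⟩; exact hgI b.1 b.2)
  have hdec : ∀ x ∈ I, ∃ y ∈ Ideal.span G, X.proj (x - y) = 0 := fun x hx => by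
    have h1 : X.proj x ∈ (Ideal.span G).map X.proj := by
      rw [Ideal.map_span]
      have h2 : X.proj x ∈ Ideal.span (S : Set B) := hS.ge (Ideal.mem_map_of_mem _ hx)
      have h3 : (S : Set B) ⊆ X.proj '' G := fun b hb => ⟨g b hb, ⟨⟨b, hb⟩, rfl⟩, hg b hb⟩
      exact Ideal.span_mono h3 h2
    obtain ⟨y, hy, hy'⟩ := (Ideal.mem_map_iff_of_surjective _ X.isExtension.proj_surjective).1 h1
    exact ⟨y, hy, by rw [map_sub, hy', sub_self]⟩
  rcases ker_inf_eq X I with h | h
  · rw [show I = Ideal.span G from le_antisymm (fun x hx => by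
      obtain ⟨y, hy, hxy⟩ := hdec x hx
      rw [sub_eq_zero.1 (h _ (sub_mem hx (hGI hy)) hxy)]
      exact hy) hGI]
    exact Submodule.fg_span hG
  · haveI := IsSimpleModule.nontrivial B L
    obtain ⟨z₀, hz₀⟩ := exists_ne (0 : L)
    rw [show I = Ideal.span (insert (X.incl z₀) G) from le_antisymm (fun x hx => by
      obtain ⟨y, hy, hxy⟩ := hdec x hx
      obtain ⟨z, hz⟩ := (X.isExtension.exact _).1 hxy
      obtain ⟨b, rfl⟩ := IsSimpleModule.toSpanSingleton_surjective B hz₀ z
      obtain ⟨e, rfl⟩ := X.isExtension.proj_surjective b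
      rw [LinearMap.toSpanSingleton_apply, ← X.isExtension.mul_incl] at hz
      rw [show x = e * X.incl z₀ + y by rw [hz, sub_add_cancel]]
      exact add_mem (Ideal.mul_mem_left _ _ (Ideal.subset_span (Set.mem_insert _ _)))
        (Ideal.span_mono (Set.subset_insert _ _) hy)) (Ideal.span_le.2 (Set.insert_subset (h z₀) (Ideal.span_le.1 hGI)))]
    exact Submodule.fg_span (hG.insert _)

omit [IsSimpleModule B L] in
theorem map_maximalIdeal [IsLocalRing X.E] : (maximalIdeal X.E).map X.proj = maximalIdeal B := by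
  refine le_antisymm (Ideal.map_le_iff_le_comap.2 fun x hx => (mem_maximalIdeal X x).1 hx) fun b hb => ?_
  obtain ⟨x, rfl⟩ := X.isExtension.proj_surjective b
  exact Ideal.mem_map_of_mem _ ((mem_maximalIdeal X x).2 hb)

/-- A high power of the maximal ideal misses the kernel. -/
theorem exists_pow_inf_ker [IsLocalRing X.E] [IsNoetherianRing X.E] :
    ∃ N, ∀ x ∈ maximalIdeal X.E ^ N, X.proj x = 0 → x = 0 := by
  haveI := IsSimpleModule.nontrivial B L
  by_contra hcon
  obtain ⟨z, hz⟩ := exists_ne (0 : L)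
  have h1 : X.incl z ∈ ⨅ N, maximalIdeal X.E ^ N := Ideal.mem_iInf.2 fun N =>
    (ker_inf_eq X (maximalIdeal X.E ^ N)).resolve_left (fun h => hcon ⟨N, h⟩) z
  rw [Ideal.iInf_pow_eq_bot_of_isLocalRing (maximalIdeal X.E) (maximalIdeal.isMaximal X.E).ne_top,
    Ideal.mem_bot] at h1
  exact hz (X.isExtension.incl_injective (h1.trans (map_zero X.incl).symm))

theorem isAdicComplete [IsLocalRing X.E] [IsNoetherianRing X.E] [IsAdicComplete (maximalIdeal B) B] :
    IsAdicComplete (maximalIdeal X.E) X.E := by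
  obtain ⟨N, hN⟩ := exists_pow_inf_ker X
  have hlift : ∀ n, ∀ b ∈ maximalIdeal B ^ n, ∃ e ∈ maximalIdeal X.E ^ n, X.proj e = b := fun n b hb => by
    rw [← map_maximalIdeal X, ← Ideal.map_pow] at hb
    exact (Ideal.mem_map_iff_of_surjective _ X.isExtension.proj_surjective).1 hb
  refine { haus' := fun x hx => ?_, prec' := fun f hf => ?_ }
  · simp only [SModEq.zero, smul_eq_mul, Ideal.mul_top] at hx
    refine hN x (hx N) (IsHausdorff.haus' (I := maximalIdeal B) _ fun n => ?_)
    rw [SModEq.zero, smul_eq_mul, Ideal.mul_top, ← map_maximalIdeal X, ← Ideal.map_pow]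
    exact Ideal.mem_map_of_mem _ (hx n)
  · simp only [SModEq.sub_mem, smul_eq_mul, Ideal.mul_top] at hf ⊢
    obtain ⟨b, hb⟩ := IsPrecomplete.prec' (I := maximalIdeal B) (fun n => X.proj (f n)) fun {m n} h => by
      rw [SModEq.sub_mem, smul_eq_mul, Ideal.mul_top, ← map_sub, ← map_maximalIdeal X, ← Ideal.map_pow]
      exact Ideal.mem_map_of_mem _ (hf h)
    simp only [SModEq.sub_mem, smul_eq_mul, Ideal.mul_top] at hb
    choose t ht htp using fun n => hlift n _ (hb n)
    refine ⟨f N - t N, fun n => ?_⟩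
    rcases le_total n N with h | h
    · have h1 := add_mem (hf h) (Ideal.pow_le_pow_right h (ht N))
      rwa [show f n - f N + t N = f n - (f N - t N) by ring] at h1
    · have h2 : f n - t n = f N - t N := by
        refine sub_eq_zero.1 (hN _ ?_ (by simp only [map_sub, htp]; ring))
        have h3 := sub_mem (sub_mem (neg_mem (hf h)) (Ideal.pow_le_pow_right h (ht n))) (neg_mem (ht N))
        rwa [show -(f N - f n) - t n - -t N = f n - t n - (f N - t N) by ring] at h3
      rw [← h2, sub_sub_cancel]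
      exact ht n

end Groth.Agent.Lib.CotTwo.ExalComplete
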