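import Groth.Prelude.Def_Exal2
import Groth.Agent.Lib.CotTwo.ExalComplete
import Groth.Agent.Lib.CotTwo.ExtOfHom
import Groth.Agent.Lib.ArtinFun.PsExtension
import Groth.Agent.Lib.Adic.Transfer
import Groth.Agent.Lib.Adic.Complete
import Groth.Agent.Lib.Unram.SmoothCompletion

/-!
# Lifting presentations to truncated extensions
-/

noncomputable section

universe u

open IsLocalRing ArtFun

set_option linter.style.haveILetI false

namespace Groth.Agent.Lib.CotTwo.ExalPresent

variable {Λ : Type u} [CommRing Λ] [IsLocalRing Λ]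

/-- Maps from a local algebra to the residue field are unique. -/
theorem res_unique {R : Type u} [CommRing R] [Algebra Λ R] [IsLocalRing R]
    (φ ψ : R →ₐ[Λ] ResidueField Λ) : φ = ψ := by
  have hs : ∀ χ : R →ₐ[Λ] ResidueField Λ, RingHom.ker χ.toRingHom = maximalIdeal R := fun χ => by
    haveI := RingHom.ker_isMaximal_of_surjective χ.toRingHom fun c => by
      obtain ⟨a, rfl⟩ := IsLocalRing.residue_surjective c
      exact ⟨algebraMap Λ R a, χ.commutes a⟩
    exact IsLocalRing.eq_maximalIdeal inferInstance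
  ext r
  obtain ⟨a, ha⟩ := IsLocalRing.residue_surjective (φ r)
  have h1 : r - algebraMap Λ R a ∈ RingHom.ker φ.toRingHom := by
    rw [RingHom.mem_ker]
    show φ (r - algebraMap Λ R a) = 0
    rw [map_sub, φ.commutes, ← ha]
    exact sub_self _
  rw [hs, ← hs ψ, RingHom.mem_ker] at h1
  have h2 : ψ (r - algebraMap Λ R a) = 0 := h1
  rw [map_sub, ψ.commutes, sub_eq_zero] at h2
  rw [h2, ← ha]
  rfl

/-- A local algebra with the residue field of the base maps to it. -/
theorem exists_res {R : Type u} [CommRing R] [Algebra Λ R] [IsLocalRing R] [IsLocalHom (algebraMap Λ R)]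
    (hres : ∀ r : R, ∃ a : Λ, r - algebraMap Λ R a ∈ maximalIdeal R) :
    ∃ φ : R →ₐ[Λ] ResidueField Λ, Function.Surjective φ := by
  let j := IsLocalRing.ResidueField.map (algebraMap Λ R)
  have hj : Function.Bijective j := ⟨j.injective, fun c => by
    obtain ⟨r, rfl⟩ := IsLocalRing.residue_surjective c
    obtain ⟨a, ha⟩ := hres r
    exact ⟨residue Λ a, (Ideal.Quotient.eq.2 ha).symm⟩⟩
  let e := RingEquiv.ofBijective j hj
  refine ⟨{ e.symm.toRingHom.comp (residue R) with
    commutes' := fun a => show e.symm (residue R (algebraMap Λ R a)) = residue Λ a from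
      e.symm_apply_eq.2 rfl }, e.symm.surjective.comp IsLocalRing.residue_surjective⟩

/-- A complete local algebra with the residue field of the base as a coefficient ring. -/
def mkC (R : Type u) [CommRing R] [Algebra Λ R] [IsLocalRing R] [IsNoetherianRing R] [IsLocalHom (algebraMap Λ R)]
    (hres : ∀ r : R, ∃ a : Λ, r - algebraMap Λ R a ∈ maximalIdeal R) [IsAdicComplete (maximalIdeal R) R] :
    CRing Λ (ResidueField Λ) where
  carrier := R
  res := (exists_res hres).choose
  res_surjective := (exists_res hres).choose_spec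
  isAdicComplete := inferInstance

/-- The base as a coefficient ring. -/
def base [IsNoetherianRing Λ] [IsAdicComplete (maximalIdeal Λ) Λ] : CRing Λ (ResidueField Λ) where
  carrier := Λ
  res := Algebra.ofId Λ (ResidueField Λ)
  res_surjective := IsLocalRing.residue_surjective
  isAdicComplete := inferInstance

section Quot

variable {R : Type u} [CommRing R] [Algebra Λ R] [IsLocalRing R]

theorem quot_pow_ne_top {N : ℕ} (hN : 1 ≤ N) : maximalIdeal R ^ N ≠ ⊤ := fun h =>
  (maximalIdeal.isMaximal R).ne_top (top_le_iff.1 (h ▸ Ideal.pow_le_self (by omega)))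

/-- Truncations are coefficient rings. -/
theorem exists_trunc [IsNoetherianRing R] [IsLocalHom (algebraMap Λ R)]
    (hres : ∀ r : R, ∃ a : Λ, r - algebraMap Λ R a ∈ maximalIdeal R) {N : ℕ} (hN : 1 ≤ N) :
    ∃ (S : CRing Λ (ResidueField Λ)) (π : R →ₐ[Λ] S.carrier), Function.Surjective π ∧
      ∀ x, π x = 0 ↔ x ∈ maximalIdeal R ^ N := by
  haveI : Nontrivial (R ⧸ maximalIdeal R ^ N) := Ideal.Quotient.nontrivial_iff.2 (quot_pow_ne_top hN)
  haveI : IsLocalRing (R ⧸ maximalIdeal R ^ N) :=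
    IsLocalRing.of_surjective' (Ideal.Quotient.mk _) Ideal.Quotient.mk_surjective
  haveI : IsLocalHom (Ideal.Quotient.mk (maximalIdeal R ^ N)) := IsLocalHom.of_surjective _ Ideal.Quotient.mk_surjective
  haveI : IsLocalHom (algebraMap Λ (R ⧸ maximalIdeal R ^ N)) := by
    rw [show algebraMap Λ (R ⧸ maximalIdeal R ^ N) = (Ideal.Quotient.mk _).comp (algebraMap Λ R) from rfl]
    infer_instance
  have hmap : ∀ x ∈ maximalIdeal R, Ideal.Quotient.mk (maximalIdeal R ^ N) x ∈ maximalIdeal (R ⧸ maximalIdeal R ^ N) :=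
    fun x hx hu => hx (isUnit_of_map_unit (Ideal.Quotient.mk _) x hu)
  have h0 : maximalIdeal (R ⧸ maximalIdeal R ^ N) ^ N ≤ ⊥ := by
    have hle : maximalIdeal (R ⧸ maximalIdeal R ^ N) ≤ (maximalIdeal R).map (Ideal.Quotient.mk _) := fun x hx => by
      obtain ⟨y, rfl⟩ := Ideal.Quotient.mk_surjective x
      exact Ideal.mem_map_of_mem _ fun hu => hx (hu.map _)
    refine (Ideal.pow_right_mono hle N).trans (le_of_eq ?_)
    rw [← Ideal.map_pow, Ideal.map_quotient_self]
  haveI : IsAdicComplete (maximalIdeal (R ⧸ maximalIdeal R ^ N)) (R ⧸ maximalIdeal R ^ N) :=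
    Adic.Transfer.isAdicComplete_of_le (I := ⊥) bot_le (N := N) h0
  refine ⟨mkC (R ⧸ maximalIdeal R ^ N) fun r => ?_, Ideal.Quotient.mkₐ Λ _, Ideal.Quotient.mk_surjective,
    fun x => Ideal.Quotient.eq_zero_iff_mem⟩
  obtain ⟨x, rfl⟩ := Ideal.Quotient.mk_surjective r
  obtain ⟨a, ha⟩ := hres x
  exact ⟨a, hmap _ ha⟩

end Quot

variable [IsNoetherianRing Λ] [IsAdicComplete (maximalIdeal Λ) Λ]

/-- Maps out of power series into coefficient rings agree when they agree on variables. -/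
theorem ps_ext (S : CRing Λ (ResidueField Λ)) {d : ℕ} {g₁ g₂ : MvPowerSeries (Fin d) Λ →ₐ[Λ] S.carrier}
    (h : ∀ i, g₁ (MvPowerSeries.X i) = g₂ (MvPowerSeries.X i)) : g₁ = g₂ :=
  ArtinFun.algHom_ps_ext base S (res_unique _ _) (res_unique _ _)
    (fun r => (g₁.commutes r).trans (g₂.commutes r).symm) h

/-- Maps out of power series exist. -/
theorem ps_lift (S : CRing Λ (ResidueField Λ)) {d : ℕ} (x : Fin d → S.carrier) (hx : ∀ i, x i ∈ maximalIdeal S.carrier) :
    ∃ g : MvPowerSeries (Fin d) Λ →ₐ[Λ] S.carrier, ∀ i, g (MvPowerSeries.X i) = x i := by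
  obtain ⟨g, -, -, hg⟩ := ArtinFun.exists_algHom_ps base S (Algebra.ofId Λ S.carrier) (res_unique _ _) x
    fun i => (CRing.mem_maximalIdeal_iff S _).1 (hx i)
  exact ⟨g, hg⟩

/-- Maps out of power series are local. -/
theorem ps_local (S : CRing Λ (ResidueField Λ)) {d : ℕ} (g : MvPowerSeries (Fin d) Λ →ₐ[Λ] S.carrier)
    (p : MvPowerSeries (Fin d) Λ) : g p ∈ maximalIdeal S.carrier ↔ p ∈ maximalIdeal (MvPowerSeries (Fin d) Λ) := by
  rw [CRing.mem_maximalIdeal_iff]
  refine Iff.trans ?_ (ArtinFun.mem_maximalIdeal_ps base d p).symm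
  rw [← AlgHom.comp_apply, res_unique (S.res.comp g) (ArtinFun.psRes base d)]
  rfl

/-- A complete coefficient ring is a quotient of a power series ring. -/
theorem exists_surjective (S : CRing Λ (ResidueField Λ)) :
    ∃ (d : ℕ) (g : MvPowerSeries (Fin d) Λ →ₐ[Λ] S.carrier), Function.Surjective g := by
  obtain ⟨d, x, hx⟩ := Submodule.fg_iff_exists_fin_generating_family.1 (IsNoetherian.noetherian (maximalIdeal S.carrier))
  have hxm : ∀ i, x i ∈ maximalIdeal S.carrier := fun i => hx.le (Submodule.subset_span ⟨i, rfl⟩)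
  obtain ⟨g, hg⟩ := ps_lift S x hxm
  refine ⟨d, g, ArtinFun.surjective_of_span base S (Algebra.ofId Λ S.carrier) (res_unique _ _) g
    (fun a => g.commutes a) x hg (fun i => (CRing.mem_maximalIdeal_iff S _).1 (hxm i)) ?_⟩
  exact (hx.ge).trans (le_sup_left.trans le_sup_left)

section Lift

variable {R : Type u} [CommRing R] [Algebra Λ R] [IsLocalRing R] [IsLocalHom (algebraMap Λ R)]
  {L : Type u} [AddCommGroup L] [Module R L] (Y : Exal.Ext Λ R L)

omit [IsNoetherianRing Λ] [IsAdicComplete (maximalIdeal Λ) Λ] in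
theorem ext_hres (hres : ∀ r : R, ∃ a : Λ, r - algebraMap Λ R a ∈ maximalIdeal R) [IsLocalRing Y.E] :
    IsLocalHom (algebraMap Λ Y.E) ∧ ∀ y : Y.E, ∃ a : Λ, y - algebraMap Λ Y.E a ∈ maximalIdeal Y.E := by
  refine ⟨⟨fun a ha => ?_⟩, fun y => ?_⟩
  · have h := ha.map Y.proj
    rw [Y.proj.commutes] at h
    exact isUnit_of_map_unit (algebraMap Λ R) a h
  · obtain ⟨a, ha⟩ := hres (Y.proj y)
    exact ⟨a, (ExalComplete.mem_maximalIdeal Y _).2 (by rwa [map_sub, Y.proj.commutes])⟩

omit [IsLocalHom (algebraMap Λ R)] [IsNoetherianRing Λ] [IsAdicComplete (maximalIdeal Λ) Λ] [IsLocalRing Λ] in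
/-- An element over `m ^ N` is in the kernel modulo `M ^ N`. -/
theorem exists_sub_incl [IsLocalRing Y.E] {N : ℕ} (y : Y.E) (hy : Y.proj y ∈ maximalIdeal R ^ N) :
    ∃ z, y - Y.incl z ∈ maximalIdeal Y.E ^ N := by
  rw [← ExalComplete.map_maximalIdeal Y, ← Ideal.map_pow] at hy
  obtain ⟨t, ht, hty⟩ := (Ideal.mem_map_iff_of_surjective _ Y.isExtension.proj_surjective).1 hy
  obtain ⟨z, hz⟩ := (Y.isExtension.exact (y - t)).1 (by rw [map_sub, hty, sub_self])
  exact ⟨z, by rwa [hz, sub_sub_cancel]⟩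

omit [IsLocalHom (algebraMap Λ R)] [IsNoetherianRing Λ] [IsAdicComplete (maximalIdeal Λ) Λ] [IsLocalRing Λ] in
/-- Uniqueness of the kernel component. -/
theorem incl_unique [IsLocalRing Y.E] {N : ℕ} (hN : ∀ x ∈ maximalIdeal Y.E ^ N, Y.proj x = 0 → x = 0) {z z' : L}
    (h : Y.incl z - Y.incl z' ∈ maximalIdeal Y.E ^ N) : z = z' :=
  Y.isExtension.incl_injective (sub_eq_zero.1 (hN _ h (by
    rw [map_sub, (Y.isExtension.exact _).2 ⟨z, rfl⟩, (Y.isExtension.exact _).2 ⟨z', rfl⟩, sub_self])))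

/-- A presentation of a completion lifts to truncations of extensions. -/
theorem exists_trunc_lift [IsNoetherianRing R] [IsSimpleModule R L]
    (hres : ∀ r : R, ∃ a : Λ, r - algebraMap Λ R a ∈ maximalIdeal R)
    (C : CRing Λ (ResidueField Λ)) (ι : R →ₐ[Λ] C.carrier)
    (happ : ∀ (x : C.carrier) (n : ℕ), ∃ r, x - ι r ∈ maximalIdeal C.carrier ^ n)
    (hι : ∀ (r : R) (n : ℕ), ι r ∈ maximalIdeal C.carrier ^ n ↔ r ∈ maximalIdeal R ^ n)
    {d : ℕ} (g : MvPowerSeries (Fin d) Λ →ₐ[Λ] C.carrier) [IsLocalRing Y.E] {N : ℕ} (hN : 1 ≤ N) :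
    ∃ u : MvPowerSeries (Fin d) Λ →ₐ[Λ] Y.E ⧸ maximalIdeal Y.E ^ N,
      ∀ p y, Ideal.Quotient.mk _ y = u p → g p - ι (Y.proj y) ∈ maximalIdeal C.carrier ^ N := by
  haveI := ExalComplete.isNoetherianRing Y
  obtain ⟨hl, hresE⟩ := ext_hres Y hres
  haveI := hl
  obtain ⟨S, π, hπs, hπ⟩ := exists_trunc (R := Y.E) hresE hN
  haveI : IsLocalHom (algebraMap Λ C.carrier) := ⟨fun a ha => by
    have h := ha.map C.res
    rw [C.res.commutes] at h
    exact isUnit_of_map_unit (residue Λ) a h⟩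
  obtain ⟨T, τ, hτs, hτ⟩ := exists_trunc (R := C.carrier) (fun c => by
    obtain ⟨a, ha⟩ := IsLocalRing.residue_surjective (C.res c)
    exact ⟨a, (CRing.mem_maximalIdeal_iff C _).2 (by
      rw [map_sub, C.res.commutes, ← ha]
      exact sub_self _)⟩) hN
  choose r hr using fun i => happ (g (MvPowerSeries.X i)) N
  choose y hy using fun i => Y.isExtension.proj_surjective (r i)
  haveI : IsLocalHom π := ⟨(IsLocalHom.of_surjective π.toRingHom hπs).map_nonunit⟩
  have hym : ∀ i, π (y i) ∈ maximalIdeal S.carrier := fun i hu => by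
    refine (?_ : y i ∈ maximalIdeal Y.E) (isUnit_of_map_unit π _ hu)
    rw [ExalComplete.mem_maximalIdeal, hy, ← pow_one (maximalIdeal R), ← hι, pow_one]
    have h1 : g (MvPowerSeries.X i) ∈ maximalIdeal C.carrier :=
      (ps_local C g _).2 ((ArtinFun.mem_maximalIdeal_ps base d _).2 (by
        rw [ArtinFun.psRes_apply]
        exact (congrArg base.res (MvPowerSeries.constantCoeff_X (R := Λ) i)).trans (map_zero _)))
    have h2 := sub_mem h1 (Ideal.pow_le_self (by omega) (hr i))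
    rwa [sub_sub_cancel] at h2
  obtain ⟨u, hu⟩ := ps_lift S (fun i => π (y i)) hym
  let π' : Y.E ⧸ maximalIdeal Y.E ^ N →ₐ[Λ] S.carrier := Ideal.Quotient.liftₐ _ π fun a ha => (hπ a).2 ha
  have hπ'b : Function.Bijective π' := ⟨by
    rw [injective_iff_map_eq_zero]
    intro a ha
    obtain ⟨a, rfl⟩ := Ideal.Quotient.mk_surjective a
    exact Ideal.Quotient.eq_zero_iff_mem.2 ((hπ a).1 ha), fun s => by
    obtain ⟨a, rfl⟩ := hπs s
    exact ⟨Ideal.Quotient.mk _ a, rfl⟩⟩
  let e := AlgEquiv.ofBijective π' hπ'b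
  let u' : MvPowerSeries (Fin d) Λ →ₐ[Λ] Y.E ⧸ maximalIdeal Y.E ^ N := e.symm.toAlgHom.comp u
  refine ⟨u', fun p w hw => ?_⟩
  have hpr : ∀ a ∈ maximalIdeal Y.E ^ N, ι (Y.proj a) ∈ maximalIdeal C.carrier ^ N := fun a ha => by
    rw [hι, ← ExalComplete.map_maximalIdeal Y, ← Ideal.map_pow]
    exact Ideal.mem_map_of_mem _ ha
  let q : Y.E ⧸ maximalIdeal Y.E ^ N →ₐ[Λ] T.carrier :=
    Ideal.Quotient.liftₐ _ (τ.comp (ι.comp Y.proj)) fun a ha => (hτ _).2 (hpr a ha)
  have heq : τ.comp g = q.comp u' := ps_ext T fun i => by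
    show τ (g (MvPowerSeries.X i)) = q (e.symm (u (MvPowerSeries.X i)))
    rw [hu, show π (y i) = e (Ideal.Quotient.mk _ (y i)) from rfl, e.symm_apply_apply]
    show τ _ = τ (ι (Y.proj (y i)))
    rw [hy, ← sub_eq_zero, ← map_sub, hτ]
    exact hr i
  rw [← hτ, map_sub, sub_eq_zero]
  refine (AlgHom.congr_fun heq p).trans ?_
  show q (u' p) = _
  rw [← hw]
  rfl

end Lift

/-- The completion of a local algebra as a coefficient ring. -/
theorem exists_completion {R : Type u} [CommRing R] [Algebra Λ R] [IsLocalRing R] [IsNoetherianRing R]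
    [IsLocalHom (algebraMap Λ R)] (hres : ∀ r : R, ∃ a : Λ, r - algebraMap Λ R a ∈ maximalIdeal R) :
    IsLocalHom (algebraMap Λ (AdicCompletion (maximalIdeal R) R)) ∧
    (∀ x : AdicCompletion (maximalIdeal R) R, ∃ a : Λ,
      x - algebraMap Λ _ a ∈ maximalIdeal (AdicCompletion (maximalIdeal R) R)) ∧
    IsScalarTower Λ R (AdicCompletion (maximalIdeal R) R) ∧
    (∀ (x : AdicCompletion (maximalIdeal R) R) (n : ℕ), ∃ r : R,
      x - algebraMap R _ r ∈ maximalIdeal (AdicCompletion (maximalIdeal R) R) ^ n) ∧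
    ∀ (r : R) (n : ℕ), algebraMap R (AdicCompletion (maximalIdeal R) R) r ∈
      maximalIdeal (AdicCompletion (maximalIdeal R) R) ^ n ↔ r ∈ maximalIdeal R ^ n := by
  haveI ht : IsScalarTower Λ R (AdicCompletion (maximalIdeal R) R) :=
    IsScalarTower.of_algebraMap_eq fun x => by
      rw [AdicCompletion.algebraMap_apply, AdicCompletion.algebraMap_apply]; rfl
  have happ : ∀ (x : AdicCompletion (maximalIdeal R) R) (n : ℕ), ∃ r : R,
      x - algebraMap R _ r ∈ maximalIdeal (AdicCompletion (maximalIdeal R) R) ^ n := fun x n => by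
    obtain ⟨r, -, hr⟩ := Unram.SmoothCompletion.exists_sub_mem n x
    exact ⟨r, hr⟩
  have hι : ∀ (r : R) (n : ℕ), algebraMap R (AdicCompletion (maximalIdeal R) R) r ∈
      maximalIdeal (AdicCompletion (maximalIdeal R) R) ^ n ↔ r ∈ maximalIdeal R ^ n := fun r n => by
    rw [← Unram.SmoothCompletion.mem_pow_iff, AlgHom.commutes, Ideal.Quotient.algebraMap_eq,
      Ideal.Quotient.eq_zero_iff_mem]
  refine ⟨⟨fun a ha => ?_⟩, fun x => ?_, ht, happ, hι⟩
  · rw [IsScalarTower.algebraMap_apply Λ R] at ha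
    refine isUnit_of_map_unit (algebraMap Λ R) a (by_contra fun h => ?_)
    have h1 : algebraMap Λ R a ∈ maximalIdeal R ^ 1 := by rwa [pow_one]
    have h2 := (hι _ 1).2 h1
    rw [pow_one] at h2
    exact h2 ha
  · obtain ⟨r, hr⟩ := happ x 1
    obtain ⟨a, ha⟩ := hres r
    refine ⟨a, ?_⟩
    rw [← pow_one (maximalIdeal R), ← hι] at ha
    rw [pow_one] at hr ha
    have h := add_mem hr ha
    rwa [map_sub, ← IsScalarTower.algebraMap_apply, sub_add_sub_cancel] at h

end Groth.Agent.Lib.CotTwo.ExalPresent
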