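import Groth.Agent.Lib.CotTwo.ExalPresent

/-!
# Extensions of a completion and their inverse images
-/

noncomputable section

universe u

open IsLocalRing ArtFun

set_option linter.style.haveILetI false

namespace Groth.Agent.Lib.CotTwo.ExalPullback

open ExalPresent

variable {Λ : Type u} [CommRing Λ] [IsLocalRing Λ]
  {R : Type u} [CommRing R] [Algebra Λ R] [IsLocalRing R]
  {B : Type u} [CommRing B] [Algebra Λ B] [IsLocalRing B] [Algebra R B] [IsScalarTower Λ R B]
  {L : Type u} [AddCommGroup L] [Module B L] [Module R L] [IsScalarTower R B L]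

/-- Projection of the inverse image onto the extension. -/
def fstE (X : Exal.Ext Λ B L) : (X.pullback R).E →ₐ[Λ] X.E :=
  (AlgHom.fst Λ X.E R).comp (X.fiberProd R).val

/-- Projection of the inverse image onto a truncation. -/
def toTrunc (X : Exal.Ext Λ B L) [IsLocalRing X.E] (N : ℕ) : (X.pullback R).E →ₐ[Λ] X.E ⧸ maximalIdeal X.E ^ N :=
  (Ideal.Quotient.mkₐ Λ _).comp (fstE (R := R) X)

omit [IsLocalRing Λ] [IsLocalRing R] [IsLocalRing B] in
theorem fib_eq (X : Exal.Ext Λ B L) (a : (X.pullback R).E) : X.proj a.1.1 = algebraMap R B a.1.2 := a.2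

variable (hι : ∀ (r : R) (n : ℕ), algebraMap R B r ∈ maximalIdeal B ^ n ↔ r ∈ maximalIdeal R ^ n)
  (happ : ∀ (x : B) (n : ℕ), ∃ r : R, x - algebraMap R B r ∈ maximalIdeal B ^ n)

omit [IsLocalRing Λ] in
include happ in
theorem toTrunc_surjective (X : Exal.Ext Λ B L) [IsLocalRing X.E] (N : ℕ) :
    Function.Surjective (toTrunc (R := R) X N) := by
  intro y
  obtain ⟨y, rfl⟩ := Ideal.Quotient.mk_surjective y
  obtain ⟨r, hr⟩ := happ (X.proj y) N
  rw [← ExalComplete.map_maximalIdeal X, ← Ideal.map_pow] at hr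
  obtain ⟨t, ht, htp⟩ := (Ideal.mem_map_iff_of_surjective _ X.isExtension.proj_surjective).1 hr
  have hmem : (y - t, r) ∈ X.fiberProd R := by
    show X.proj (y - t) = algebraMap R B r
    rw [map_sub, htp, sub_sub_cancel]
  refine ⟨⟨(y - t, r), hmem⟩, ?_⟩
  show Ideal.Quotient.mk _ (y - t) = Ideal.Quotient.mk _ y
  rw [Ideal.Quotient.eq, sub_sub_cancel_left]
  exact neg_mem ht

omit [IsLocalRing Λ] in
include hι in
theorem pow_le_ker (X : Exal.Ext Λ B L) [IsLocalRing X.E] [IsLocalRing (X.pullback R).E] (N : ℕ)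
    {a : (X.pullback R).E} (ha : a ∈ maximalIdeal (X.pullback R).E ^ N) : toTrunc (R := R) X N a = 0 := by
  refine Ideal.Quotient.eq_zero_iff_mem.2 ?_
  have hle : (maximalIdeal (X.pullback R).E).map (fstE (R := R) X) ≤ maximalIdeal X.E := by
    rw [Ideal.map_le_iff_le_comap]
    intro x hx
    have h1 := (ExalComplete.mem_maximalIdeal (X.pullback R) x).1 hx
    refine (ExalComplete.mem_maximalIdeal X _).2 ?_
    show X.proj x.1.1 ∈ _
    rw [fib_eq, ← pow_one (maximalIdeal B), hι, pow_one]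
    exact h1
  have h2 := Ideal.mem_map_of_mem (fstE (R := R) X) ha
  rw [Ideal.map_pow] at h2
  exact Ideal.pow_right_mono hle N h2

omit [IsLocalRing Λ] in
include hι in
theorem ker_le_pow (X : Exal.Ext Λ B L) [IsLocalRing X.E] [IsLocalRing (X.pullback R).E] (N : ℕ)
    (hN : ∀ x ∈ maximalIdeal X.E ^ N, X.proj x = 0 → x = 0) {a : (X.pullback R).E}
    (ha : toTrunc (R := R) X N a = 0) : a ∈ maximalIdeal (X.pullback R).E ^ N := by
  have h1 : a.1.1 ∈ maximalIdeal X.E ^ N := Ideal.Quotient.eq_zero_iff_mem.1 ha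
  have h2 : a.1.2 ∈ maximalIdeal R ^ N := by
    rw [← hι, ← fib_eq, ← ExalComplete.map_maximalIdeal X, ← Ideal.map_pow]
    exact Ideal.mem_map_of_mem _ h1
  rw [← ExalComplete.map_maximalIdeal (X.pullback R), ← Ideal.map_pow] at h2
  obtain ⟨b, hb, hb2⟩ := (Ideal.mem_map_iff_of_surjective _ (X.pullback R).isExtension.proj_surjective).1 h2
  have h3 : b.1.1 ∈ maximalIdeal X.E ^ N := Ideal.Quotient.eq_zero_iff_mem.1 (pow_le_ker hι X N hb)
  have h4 : b.1.2 = a.1.2 := hb2
  have h5 : a.1.1 - b.1.1 = 0 := hN _ (sub_mem h1 h3) (by rw [map_sub, fib_eq, fib_eq, h4, sub_self])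
  have h6 : a = b := Subtype.ext (Prod.ext (sub_eq_zero.1 h5) h4.symm)
  rwa [h6]

end Groth.Agent.Lib.CotTwo.ExalPullback
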