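import Mathlib.Algebra.Category.ModuleCat.Ext.HasExt
import Mathlib.Algebra.Homology.DerivedCategory.Ext.Linear
import Mathlib.Algebra.Homology.DerivedCategory.Ext.ExactSequences
import Mathlib.Algebra.Homology.DerivedCategory.Ext.EnoughProjectives
import Mathlib.Algebra.Homology.ShortComplex.ModuleCat
import Mathlib.Algebra.Category.ModuleCat.Projective

/-!
# `Ext¹` of a module from a presentation
-/

noncomputable section

universe u

open CategoryTheory Abelian

namespace Groth.Agent.Lib.CotTwo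

variable {R : Type u} [CommRing R] {C F N M : Type u} [AddCommGroup C] [Module R C] [AddCommGroup F] [Module R F]
  [AddCommGroup N] [Module R N] [AddCommGroup M] [Module R M]

/-- `Ext¹` is the cokernel of the dual of a presentation with projective middle term. -/
theorem nonempty_coker_equiv_ext_one [Module.Projective R F] (d : C →ₗ[R] F) (π : F →ₗ[R] N)
    (hd : Function.Injective d) (hex : Function.Exact d π) (hπ : Function.Surjective π) :
    Nonempty (((C →ₗ[R] M) ⧸ LinearMap.range (LinearMap.lcomp R M d)) ≃ₗ[R]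
      Ext.{u} (ModuleCat.of R N) (ModuleCat.of R M) 1) := by
  let S : ShortComplex (ModuleCat.{u} R) := ShortComplex.mk (ModuleCat.ofHom d) (ModuleCat.ofHom π)
    (ModuleCat.hom_ext (LinearMap.ext fun x => hex.apply_apply_eq_zero x))
  have hS : S.ShortExact :=
    { exact := (ShortComplex.ShortExact.moduleCat_exact_iff_function_exact S).2 hex
      mono_f := (ModuleCat.mono_iff_injective _).2 hd
      epi_g := (ModuleCat.epi_iff_surjective _).2 hπ }
  haveI : Projective S.X₂ := (ModuleCat.of R F).projective_of_categoryTheory_projective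
  let M' := ModuleCat.of R M
  let Φ : (C →ₗ[R] M) →ₗ[R] Ext.{u} S.X₃ M' 1 :=
    (Ext.precompOfLinear hS.extClass R M' (add_zero 1)).comp
      ((Ext.linearEquiv₀ (R := R) (X := S.X₁) (Y := M')).symm.toLinearMap.comp
        (ModuleCat.homLinearEquiv (S := R) (M := S.X₁) (N := M')).symm.toLinearMap)
  have hΦ : ∀ φ, Φ φ = hS.extClass.comp (Ext.mk₀ (ModuleCat.ofHom φ)) (add_zero 1) := fun φ => rfl
  have hsurj : Function.Surjective Φ := fun x => by
    obtain ⟨x₁, hx₁⟩ := Ext.contravariant_sequence_exact₃ hS M' x (Ext.eq_zero_of_projective _) (add_zero 1)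
    obtain ⟨g, rfl⟩ := (Ext.mk₀_bijective S.X₁ M').2 x₁
    exact ⟨g.hom, hx₁⟩
  have hker : LinearMap.ker Φ = LinearMap.range (LinearMap.lcomp R M d) := by
    ext φ
    rw [LinearMap.mem_ker, hΦ]
    constructor
    · intro h
      obtain ⟨x₂, hx₂⟩ := Ext.contravariant_sequence_exact₁ hS M' (Ext.mk₀ (ModuleCat.ofHom φ)) (add_zero 1) h
      obtain ⟨g, rfl⟩ := (Ext.mk₀_bijective S.X₂ M').2 x₂
      rw [Ext.mk₀_comp_mk₀] at hx₂
      exact ⟨g.hom, congrArg ModuleCat.Hom.hom ((Ext.mk₀_bijective S.X₁ M').1 hx₂)⟩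
    · rintro ⟨g, rfl⟩
      rw [show ModuleCat.ofHom (LinearMap.lcomp R M d g) = S.f ≫ (ModuleCat.ofHom g : S.X₂ ⟶ M') from rfl,
        ← Ext.mk₀_comp_mk₀]
      exact hS.extClass_comp_assoc _
  exact ⟨(Submodule.quotEquivOfEq _ _ hker.symm).trans (Φ.quotKerEquivOfSurjective hsurj)⟩

/-- Duals along a surjection whose kernel is killed by every form. -/
theorem nonempty_coker_equiv_of_surjective (r : F →ₗ[R] C) (hr : Function.Surjective r) (d : C →ₗ[R] N)
    (hkill : ∀ (ψ : F →ₗ[R] M) z, r z = 0 → ψ z = 0) :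
    Nonempty (((F →ₗ[R] M) ⧸ LinearMap.range (LinearMap.lcomp R M (d ∘ₗ r))) ≃ₗ[R]
      ((C →ₗ[R] M) ⧸ LinearMap.range (LinearMap.lcomp R M d))) := by
  let G : (C →ₗ[R] M) →ₗ[R] (F →ₗ[R] M) := LinearMap.lcomp R M r
  have hsurj : Function.Surjective G := fun ψ => by
    choose sec hsec using hr
    have h : ∀ z, ψ (sec (r z)) = ψ z := fun z => by
      rw [← sub_eq_zero, ← map_sub]
      exact hkill ψ _ (by rw [map_sub, hsec, sub_self])
    refine ⟨{ toFun := fun c => ψ (sec c), map_add' := fun a b => ?_, map_smul' := fun x a => ?_ }, LinearMap.ext h⟩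
    · rw [← map_add, ← sub_eq_zero, ← map_sub]
      exact hkill ψ _ (by rw [map_sub, map_add, hsec, hsec, hsec, sub_self])
    · rw [RingHom.id_apply, ← map_smul, ← sub_eq_zero, ← map_sub]
      exact hkill ψ _ (by rw [map_sub, map_smul, hsec, hsec, sub_self])
  refine ⟨(Submodule.Quotient.equiv _ _
    (LinearEquiv.ofBijective G ⟨LinearMap.lcomp_injective_of_surjective r hr, hsurj⟩) ?_).symm⟩
  rw [← LinearMap.range_comp]
  rfl

end Groth.Agent.Lib.CotTwo
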