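import Mathlib.Algebra.MvPolynomial.Eval
import Mathlib.Algebra.Algebra.Basic
import Mathlib.LinearAlgebra.Quotient.Basic
import Mathlib.Tactic.Ring
import Mathlib.Tactic.Abel

/-!
# Homotopies between two maps out of a polynomial ring

For `j : N →ₗ[R] R` with `j a • b = j b • a` the ring `R × N` with
`(b, n) (b', n') = (b b', b n' + b' n + j n • n')` has two projections `(b, n) ↦ b` and `(b, n) ↦ b + j n`.
-/

universe u v w

namespace Groth.Agent.Lib.CotTwo

/-- The pairs of `R × N`, to be given the twisted product. -/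
structure QI (R : Type u) (N : Type v) where
  base : R
  n : N

namespace QI

variable {R : Type u} [CommRing R] {N : Type v} [AddCommGroup N] [Module R N]

theorem ext {x y : QI R N} (h : x.base = y.base) (h' : x.n = y.n) : x = y := by
  cases x; cases y; cases h; cases h'; rfl

instance : Zero (QI R N) := ⟨⟨0, 0⟩⟩
instance : Add (QI R N) := ⟨fun x y => ⟨x.base + y.base, x.n + y.n⟩⟩
instance : Neg (QI R N) := ⟨fun x => ⟨-x.base, -x.n⟩⟩

variable (j : N →ₗ[R] R) (hj : ∀ a b, j a • b = j b • a)

/-- The twisted ring. -/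
@[reducible]
def commRing : CommRing (QI R N) where
  one := ⟨1, 0⟩
  mul x y := ⟨x.base * y.base, x.base • y.n + y.base • x.n + j x.n • y.n⟩
  add_assoc _ _ _ := ext (add_assoc _ _ _) (add_assoc _ _ _)
  zero_add _ := ext (zero_add _) (zero_add _)
  add_zero _ := ext (add_zero _) (add_zero _)
  add_comm _ _ := ext (add_comm _ _) (add_comm _ _)
  neg_add_cancel _ := ext (neg_add_cancel _) (neg_add_cancel _)
  nsmul := nsmulRec
  zsmul := zsmulRec
  left_distrib x y z := ext (mul_add _ _ _) (by
    show x.base • (y.n + z.n) + (y.base + z.base) • x.n + j x.n • (y.n + z.n) =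
      (x.base • y.n + y.base • x.n + j x.n • y.n) + (x.base • z.n + z.base • x.n + j x.n • z.n)
    simp only [smul_add, add_smul]; abel)
  right_distrib x y z := ext (add_mul _ _ _) (by
    show (x.base + y.base) • z.n + z.base • (x.n + y.n) + j (x.n + y.n) • z.n =
      (x.base • z.n + z.base • x.n + j x.n • z.n) + (y.base • z.n + z.base • y.n + j y.n • z.n)
    simp only [smul_add, add_smul, map_add]; abel)
  zero_mul x := ext (zero_mul _) (by
    show (0 : R) • x.n + x.base • (0 : N) + j 0 • x.n = 0
    simp)
  mul_zero x := ext (mul_zero _) (by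
    show x.base • (0 : N) + (0 : R) • x.n + j x.n • (0 : N) = 0
    simp)
  mul_assoc x y z := ext (mul_assoc _ _ _) (by
    show (x.base * y.base) • z.n + z.base • (x.base • y.n + y.base • x.n + j x.n • y.n)
        + j (x.base • y.n + y.base • x.n + j x.n • y.n) • z.n =
      x.base • (y.base • z.n + z.base • y.n + j y.n • z.n) + (y.base * z.base) • x.n
        + j x.n • (y.base • z.n + z.base • y.n + j y.n • z.n)
    simp only [map_add, map_smul, smul_eq_mul, add_smul, smul_add, mul_smul]
    rw [smul_comm (j x.n) y.base z.n, smul_comm z.base y.base x.n, smul_comm z.base x.base y.n,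
      smul_comm z.base (j x.n) y.n]
    abel)
  one_mul x := ext (one_mul _) (by
    show (1 : R) • x.n + x.base • (0 : N) + j 0 • x.n = x.n
    simp)
  mul_one x := ext (mul_one _) (by
    show x.base • (0 : N) + (1 : R) • x.n + j x.n • (0 : N) = x.n
    simp)
  mul_comm x y := ext (mul_comm _ _) (by
    show x.base • y.n + y.base • x.n + j x.n • y.n = y.base • x.n + x.base • y.n + j y.n • x.n
    rw [hj]; abel)

end QI

/-- Two maps out of a polynomial ring whose values on the variables differ by elements of `range j` are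
related by a twisted derivation. -/
theorem exists_twistedDer {A : Type w} [CommRing A] {R : Type u} [CommRing R] (c₀ : A →+* R) {N : Type v}
    [AddCommGroup N] [Module R N] (j : N →ₗ[R] R) (hj : ∀ a b, j a • b = j b • a) {ι : Type*}
    (τ τ' : MvPolynomial ι A →+* R) (h : ∀ a, τ (MvPolynomial.C a) = c₀ a)
    (h' : ∀ a, τ' (MvPolynomial.C a) = c₀ a) (n : ι → N)
    (hn : ∀ i, j (n i) = τ' (MvPolynomial.X i) - τ (MvPolynomial.X i)) :
    ∃ D : MvPolynomial ι A →+ N,
      (∀ r, j (D r) = τ' r - τ r) ∧ (∀ r r', D (r * r') = τ' r • D r' + τ r' • D r) ∧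
        (∀ a, D (MvPolynomial.C a) = 0) ∧ ∀ i, D (MvPolynomial.X i) = n i := by
  letI := QI.commRing j hj
  let c : A →+* QI R N :=
    { toFun := fun a => ⟨c₀ a, 0⟩
      map_one' := QI.ext (map_one _) rfl
      map_mul' := fun a b => QI.ext (map_mul _ _ _) (by
        show (0 : N) = c₀ a • (0 : N) + c₀ b • (0 : N) + j 0 • (0 : N)
        simp)
      map_zero' := QI.ext (map_zero _) rfl
      map_add' := fun a b => QI.ext (map_add _ _ _) (zero_add (0 : N)).symm }
  let F : MvPolynomial ι A →+* QI R N := MvPolynomial.eval₂Hom c fun i => ⟨τ (MvPolynomial.X i), n i⟩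
  let p : QI R N →+* R :=
    { toFun := fun x => x.base
      map_one' := rfl
      map_mul' := fun _ _ => rfl
      map_zero' := rfl
      map_add' := fun _ _ => rfl }
  let p' : QI R N →+* R :=
    { toFun := fun x => x.base + j x.n
      map_one' := by show (1 : R) + j 0 = 1; simp
      map_mul' := fun x y => by
        show x.base * y.base + j (x.base • y.n + y.base • x.n + j x.n • y.n) = _
        simp only [map_add, map_smul, smul_eq_mul]
        ring
      map_zero' := by show (0 : R) + j 0 = 0; simp
      map_add' := fun x y => by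
        show x.base + y.base + j (x.n + y.n) = _
        rw [map_add]; ring }
  have hFC : ∀ a, F (MvPolynomial.C a) = c a := fun a => MvPolynomial.eval₂Hom_C _ _ a
  have hFX : ∀ i, F (MvPolynomial.X i) = ⟨τ (MvPolynomial.X i), n i⟩ := fun i =>
    MvPolynomial.eval₂Hom_X' _ _ i
  have hp : p.comp F = τ := MvPolynomial.ringHom_ext (fun a => by
    rw [RingHom.comp_apply, hFC, h]; rfl) fun i => by rw [RingHom.comp_apply, hFX]; rfl
  have hp' : p'.comp F = τ' := MvPolynomial.ringHom_ext (fun a => by
    rw [RingHom.comp_apply, hFC, h']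
    show c₀ a + j 0 = _
    simp) fun i => by
    rw [RingHom.comp_apply, hFX]
    show τ (MvPolynomial.X i) + j (n i) = _
    rw [hn]; abel
  have hb : ∀ r, (F r).base = τ r := fun r => RingHom.congr_fun hp r
  have hb' : ∀ r, (F r).base + j (F r).n = τ' r := fun r => RingHom.congr_fun hp' r
  refine ⟨{ toFun := fun r => (F r).n, map_zero' := ?_, map_add' := fun a b => ?_ }, fun r => ?_, fun r r' => ?_,
    fun a => ?_, fun i => ?_⟩
  · show (F 0).n = 0
    rw [map_zero]; rfl
  · show (F (a + b)).n = _
    rw [map_add]; rfl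
  · show j (F r).n = _
    rw [← hb', ← hb, add_sub_cancel_left]
  · show (F (r * r')).n = τ' r • (F r').n + τ r' • (F r).n
    rw [map_mul, ← hb', ← hb]
    show (F r).base • (F r').n + (F r').base • (F r).n + j (F r).n • (F r').n = _
    rw [add_smul]
    abel
  · show (F (MvPolynomial.C a)).n = 0
    rw [hFC]; rfl
  · show (F (MvPolynomial.X i)).n = n i
    rw [hFX]

end Groth.Agent.Lib.CotTwo
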