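import Groth.Agent.Lib.CotTwo.Basic
import Groth.Agent.Lib.CotTwo.QuasiIdeal

/-!
# Two morphisms of presentations over one square induce the same maps on `Tⁱ`
-/

noncomputable section

universe u v w t u' v' w' t' m

open TensorProduct CotT

namespace Groth.Agent.Lib.CotTwo

variable {A : Type u} {B : Type v} {ι : Type w} {σ : Type t}
variable {A' : Type u'} {B' : Type v'} {ι' : Type w'} {σ' : Type t'}
variable [CommRing A] [CommRing B] [Algebra A B] [CommRing A'] [CommRing B'] [Algebra A' B']
variable [Algebra A A'] [Algebra B B'] [Algebra A B'] [IsScalarTower A A' B'] [IsScalarTower A B B']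
variable {P : Algebra.Presentation A B ι σ} {P' : Algebra.Presentation A' B' ι' σ'}

/-- The variable `x_i` in the ring of the presentation. -/
abbrev var (P : Algebra.Presentation A B ι σ) (i : ι) : P.toExtension.Ring := MvPolynomial.X i

/-- The constant `a` in the ring of the presentation. -/
abbrev cst (P : Algebra.Presentation A B ι σ) : A →+* P.toExtension.Ring := MvPolynomial.C

/-- `F ⧸ F₀`. -/
abbrev NMod (P : Algebra.Presentation A B ι σ) : Type (max t w u) := relMod P ⧸ trivRel P

/-- `j` on `F ⧸ F₀`. -/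
abbrev jN (P : Algebra.Presentation A B ι σ) : NMod P →ₗ[P.toExtension.Ring] P.toExtension.Ring :=
  Submodule.liftQ _ (jmap P) (trivRel_le_relKer P)

lemma jN_mk (f : relMod P) : jN P (Submodule.Quotient.mk f) = jmap P f := rfl

lemma jN_smul_comm (a b : NMod P) : jN P a • b = jN P b • a := by
  induction a using Submodule.Quotient.induction_on with
  | H a =>
    induction b using Submodule.Quotient.induction_on with
    | H b =>
      refine (Submodule.Quotient.eq _).2 ?_
      exact Submodule.subset_span ⟨a, b, rfl⟩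

/-- The data of the homotopy between two morphisms of presentations. -/
theorem exists_homotopy (h g : PresHom P P') :
    ∃ (D : P.toExtension.Ring →+ NMod P') (q : σ → relKer P'),
      (∀ r, jN P' (D r) = h.ringHom r - g.ringHom r) ∧
      (∀ r r', D (r * r') = h.ringHom r • D r' + g.ringHom r' • D r) ∧
      (∀ a : A, D (algebraMap A P.toExtension.Ring a) = 0) ∧
      ∀ f : relMod P, (Submodule.Quotient.mk (h.relModMap f) : NMod P') - Submodule.Quotient.mk (g.relModMap f) =
        D (jmap P f) + f.sum fun s r => g.ringHom r • Submodule.Quotient.mk (q s : relMod P') := by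
  classical
  have hn : ∀ i : ι, ∃ n : NMod P',
      jN P' n = h.ringHom (var P i) - g.ringHom (var P i) := fun i => by
    obtain ⟨f, hf⟩ := exists_jmap_eq P'
      (x := h.ringHom (var P i) - g.ringHom (var P i)) (by
        rw [map_sub, PresHom.algebraMap_ringHom, PresHom.algebraMap_ringHom, sub_self])
    exact ⟨Submodule.Quotient.mk f, hf⟩
  choose n hn using hn
  obtain ⟨D, hD1, hD2, hD3, -⟩ := exists_twistedDer (A := A) (R := P'.toExtension.Ring)
    (g.ringHom.comp (cst P)) (jN P') jN_smul_comm
    g.ringHom h.ringHom (fun a => rfl)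
    (fun a => (h.hom.toAlgHom.commutes a).trans (g.hom.toAlgHom.commutes a).symm) n hn
  let D' : P.toExtension.Ring →+ NMod P' := D
  have hD1' : ∀ r, jN P' (D' r) = h.ringHom r - g.ringHom r := hD1
  have hD2' : ∀ r r', D' (r * r') = h.ringHom r • D' r' + g.ringHom r' • D' r := hD2
  have hq : ∀ s : σ, ∃ q : relKer P', (Submodule.Quotient.mk (q : relMod P') : NMod P') =
      Submodule.Quotient.mk (h.relVal s) - Submodule.Quotient.mk (g.relVal s) - D' (rel P s) := fun s => by
    obtain ⟨d, hd⟩ := Submodule.Quotient.mk_surjective _ (D' (rel P s))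
    refine ⟨⟨h.relVal s - g.relVal s - d, LinearMap.mem_ker.2 ?_⟩, ?_⟩
    · have h1 : jmap P' d = h.ringHom (rel P s) - g.ringHom (rel P s) := by
        exact (congrArg (jN P') hd).trans (hD1' (rel P s))
      rw [map_sub, map_sub, h.jmap_relVal, g.jmap_relVal, h1]
      exact sub_self _
    · show Submodule.Quotient.mk (h.relVal s - g.relVal s - d) = _
      rw [← hd, ← Submodule.Quotient.mk_sub, ← Submodule.Quotient.mk_sub]
  choose q hq using hq
  refine ⟨D', q, hD1', hD2', hD3, fun f => ?_⟩
  induction f using Finsupp.induction_linear with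
  | zero => simp
  | add f f' hf hf' =>
    rw [map_add, map_add, Submodule.Quotient.mk_add, Submodule.Quotient.mk_add, add_sub_add_comm, hf, hf',
      map_add, map_add, Finsupp.sum_add_index' (fun s => by rw [map_zero, zero_smul])
        (fun s r r' => by rw [map_add, add_smul])]
    abel
  | single s r =>
    rw [PresHom.relModMap_single, PresHom.relModMap_single, jmap_single,
      Finsupp.sum_single_index (by rw [map_zero, zero_smul]), hq, hD2', Submodule.Quotient.mk_smul,
      Submodule.Quotient.mk_smul, smul_sub, smul_sub]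
    have e1 : jN P' (D' r) • (Submodule.Quotient.mk (h.relVal s) : NMod P') =
        jN P' (Submodule.Quotient.mk (h.relVal s)) • D' r := jN_smul_comm _ _
    rw [hD1', jN_mk, h.jmap_relVal, sub_smul] at e1
    have e2 : jN P' (D' r) • D' (rel P s) = jN P' (D' (rel P s)) • D' r := jN_smul_comm _ _
    rw [hD1', hD1', sub_smul, sub_smul] at e2
    rw [sub_eq_iff_eq_add] at e1 e2
    rw [e1, e2]
    abel

variable (M' : Type m) [AddCommGroup M'] [Module B' M'] [Module B M'] [IsScalarTower B B' M']

/-- A map out of `L₁` as a map out of `F ⧸ F₀`. -/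
def onN (P : Algebra.Presentation A B ι σ) {M : Type m} [AddCommGroup M] [Module B M] (c : L1 P →ₗ[B] M) :
    NMod P →+ M :=
  QuotientAddGroup.lift (trivRel P).toAddSubgroup
    (c.toAddMonoidHom.comp (TensorProduct.mk P.toExtension.Ring B (relMod P) 1).toAddMonoidHom) fun x hx => by
    show c ((1 : B) ⊗ₜ x) = 0
    rw [one_tmul_eq_zero_of_mem_trivRel P x hx, map_zero]

lemma onN_mk {M : Type m} [AddCommGroup M] [Module B M] (c : L1 P →ₗ[B] M) (f : relMod P) :
    onN P c (Submodule.Quotient.mk f) = c ((1 : B) ⊗ₜ f) := rfl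

lemma onN_smul {M : Type m} [AddCommGroup M] [Module B M] (c : L1 P →ₗ[B] M) (r : P.toExtension.Ring)
    (x : NMod P) : onN P c (r • x) = algebraMap P.toExtension.Ring B r • onN P c x := by
  induction x using Submodule.Quotient.induction_on with
  | H x =>
    rw [← Submodule.Quotient.mk_smul, onN_mk, onN_mk, ← tmul_eq P, ← map_smul, TensorProduct.smul_tmul',
      smul_eq_mul, mul_one]

set_option maxHeartbeats 1000000 in
/-- Two morphisms over one square induce the same map on `T⁰`. -/
theorem T0pull_eq (h g : PresHom P P') : h.T0pull M' = g.T0pull M' := by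
  obtain ⟨D, q, hD1, -, -, -⟩ := exists_homotopy h g
  refine LinearMap.ext fun ψ => Subtype.ext ((P.cotangentSpaceBasis).ext fun i => ?_)
  rw [Algebra.Generators.cotangentSpaceBasis_apply]
  obtain ⟨d, hd⟩ := Submodule.Quotient.mk_surjective _ (D (var P i))
  have h1 : jmap P' d = h.ringHom (var P i) - g.ringHom (var P i) := by
    exact (congrArg (jN P') hd).trans (hD1 _)
  show (ψ : L0 P' →ₗ[B'] M') (Algebra.Extension.CotangentSpace.map h.hom.toExtensionHom _) =
    (ψ : L0 P' →ₗ[B'] M') (Algebra.Extension.CotangentSpace.map g.hom.toExtensionHom _)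
  erw [Algebra.Extension.CotangentSpace.map_tmul, Algebra.Extension.CotangentSpace.map_tmul]
  rw [map_one, ← sub_eq_zero, ← map_sub, ← TensorProduct.tmul_sub, ← map_sub]
  have h2 := LinearMap.congr_fun (show d1Star P' M' (ψ : L0 P' →ₗ[B'] M') = 0 from ψ.2) ((1 : B') ⊗ₜ d)
  rw [d1Star_apply, LinearMap.comp_apply, d1_tmul, one_smul, h1, LinearMap.zero_apply] at h2
  exact h2

/-- Two morphisms over one square induce the same map on `T¹`. -/
theorem T1pull_eq (h g : PresHom P P') : h.T1pull M' = g.T1pull M' := by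
  classical
  obtain ⟨D, q, hD1, hD2, hD3, hE⟩ := exists_homotopy h g
  refine LinearMap.ext fun x => ?_
  obtain ⟨c, rfl⟩ := Submodule.Quotient.mk_surjective _ x
  show (Submodule.Quotient.mk (h.cocycles1Pull M' c) : T1 P M') = Submodule.Quotient.mk (g.cocycles1Pull M' c)
  rw [← sub_eq_zero, ← Submodule.Quotient.mk_sub, mk_eq_zero_iff_T1]
  letI : Module P.toExtension.Ring M' := Module.compHom M' (algebraMap P.toExtension.Ring B)
  haveI : IsScalarTower P.toExtension.Ring B M' := IsScalarTower.of_compHom P.toExtension.Ring B M'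
  letI : Module A M' := Module.compHom M' (algebraMap A B)
  haveI : IsScalarTower A P.toExtension.Ring M' := ⟨fun a r x => by
    change algebraMap P.toExtension.Ring B (a • r) • x =
      algebraMap A B a • (algebraMap P.toExtension.Ring B r • x)
    rw [Algebra.smul_def, map_mul, ← IsScalarTower.algebraMap_apply, mul_smul]⟩
  let δ : P.toExtension.Ring →ₗ[A] M' :=
    { toFun := fun r => onN P' (c : L1 P' →ₗ[B'] M') (D r)
      map_add' := fun a b => by rw [map_add, map_add]
      map_smul' := fun a r => by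
        rw [Algebra.smul_def, hD2, map_add, hD3, smul_zero, map_zero, add_zero,
          RingHom.id_apply]
        show _ = algebraMap A B a • onN P' (c : L1 P' →ₗ[B'] M') (D r)
        rw [onN_smul, PresHom.algebraMap_ringHom, IsScalarTower.algebraMap_smul,
          ← IsScalarTower.algebraMap_apply] }
  let Dv : Derivation A P.toExtension.Ring M' := Derivation.mk' δ fun a b => by
    show onN P' (c : L1 P' →ₗ[B'] M') (D (a * b)) =
      algebraMap P.toExtension.Ring B a • onN P' (c : L1 P' →ₗ[B'] M') (D b)
        + algebraMap P.toExtension.Ring B b • onN P' (c : L1 P' →ₗ[B'] M') (D a)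
    rw [hD2, map_add, onN_smul, onN_smul, PresHom.algebraMap_ringHom, PresHom.algebraMap_ringHom,
      IsScalarTower.algebraMap_smul B' (algebraMap P.toExtension.Ring B a),
      IsScalarTower.algebraMap_smul B' (algebraMap P.toExtension.Ring B b)]
  refine ⟨LinearMap.liftBaseChange B Dv.liftKaehlerDifferential, (L1basis P).ext fun s => ?_⟩
  rw [L1basis_apply, LinearMap.comp_apply, d1_tmul, jmap_single, one_mul, one_smul,
    LinearMap.liftBaseChange_tmul, one_smul, Derivation.liftKaehlerDifferential_comp_D]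
  show onN P' (c : L1 P' →ₗ[B'] M') (D (rel P s)) =
    (c : L1 P' →ₗ[B'] M') (h.L1map ((1 : B) ⊗ₜ Finsupp.single s 1)) -
      (c : L1 P' →ₗ[B'] M') (g.L1map ((1 : B) ⊗ₜ Finsupp.single s 1))
  rw [PresHom.L1map_tmul, PresHom.L1map_tmul, map_one, ← onN_mk (c : L1 P' →ₗ[B'] M'),
    ← onN_mk (c : L1 P' →ₗ[B'] M'), ← map_sub, hE, jmap_single, one_mul, map_add,
    Finsupp.sum_single_index (by rw [map_zero, zero_smul]), onN_smul, map_one, map_one, one_smul, onN_mk]
  have hc : (c : L1 P' →ₗ[B'] M') ((1 : B') ⊗ₜ (q s : relMod P')) = 0 := by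
    rw [← d2_mk_tmul]
    exact (mem_cocycles1_iff P' M' _).1 c.2 _
  rw [hc, add_zero]

set_option maxHeartbeats 1000000 in
/-- Two morphisms over one square induce the same map on `T²`. -/
theorem T2pull_eq (h g : PresHom P P') : h.T2pull M' = g.T2pull M' := by
  classical
  obtain ⟨D, q, hD1, hD2, hD3, hE⟩ := exists_homotopy h g
  refine LinearMap.ext fun x => ?_
  obtain ⟨ψ, rfl⟩ := Submodule.Quotient.mk_surjective _ x
  show (Submodule.Quotient.mk (h.pull2 M' ψ) : T2 P M') = Submodule.Quotient.mk (g.pull2 M' ψ)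
  rw [Submodule.Quotient.eq]
  let φ : L1 P →ₗ[B] M' := (L1basis P).constr B fun s => ψ (Submodule.Quotient.mk ((1 : B') ⊗ₜ q s))
  have hφ : ∀ s, φ ((1 : B) ⊗ₜ Finsupp.single s 1) = ψ (Submodule.Quotient.mk ((1 : B') ⊗ₜ q s)) := fun s => by
    rw [← L1basis_apply]
    exact (L1basis P).constr_basis B _ s
  refine ⟨φ, LinearMap.ext fun z => ?_⟩
  obtain ⟨y, rfl⟩ := Submodule.Quotient.mk_surjective _ z
  obtain ⟨f, rfl⟩ := exists_one_tmul P y
  -- both sides as functions of the element of the relation module
  let qq : relKer P' := (f : relMod P).sum fun s r => g.ringHom r • q s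
  have hqq : (qq : relMod P') = (f : relMod P).sum fun s r => g.ringHom r • (q s : relMod P') := by
    simp only [qq, Finsupp.sum, Submodule.coe_sum, Submodule.coe_smul]
  let w : relKer P' := h.relKerMap f - g.relKerMap f - qq
  have hw : (w : relMod P') ∈ trivRel P' := by
    rw [← Submodule.Quotient.mk_eq_zero]
    show (Submodule.Quotient.mk (h.relModMap f - g.relModMap f - (qq : relMod P')) : NMod P') = 0
    rw [Submodule.Quotient.mk_sub, Submodule.Quotient.mk_sub, hE, show jmap P (f : relMod P) = 0 from f.2,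
      map_zero, zero_add, hqq, sub_eq_zero]
    simp only [Finsupp.sum]
    rw [← Submodule.mkQ_apply, map_sum]
    rfl
  have hw' : (Submodule.Quotient.mk ((1 : B') ⊗ₜ w) : L2 P') = 0 :=
    (Submodule.Quotient.mk_eq_zero _).2 ⟨(1 : B') ⊗ₜ ⟨w, hw⟩, rfl⟩
  let Ψ : relKer P' →+ M' :=
    { toFun := fun z => ψ (Submodule.Quotient.mk ((1 : B') ⊗ₜ z))
      map_zero' := by rw [TensorProduct.tmul_zero, Submodule.Quotient.mk_zero, map_zero]
      map_add' := fun z z' => by rw [TensorProduct.tmul_add, Submodule.Quotient.mk_add, map_add] }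
  have key : ψ (h.L2map (Submodule.Quotient.mk ((1 : B) ⊗ₜ f))) - ψ (g.L2map (Submodule.Quotient.mk ((1 : B) ⊗ₜ f)))
      = ψ (Submodule.Quotient.mk ((1 : B') ⊗ₜ qq)) := by
    rw [PresHom.L2map_mk_tmul, PresHom.L2map_mk_tmul, map_one]
    show Ψ (h.relKerMap f) - Ψ (g.relKerMap f) = Ψ qq
    rw [← sub_eq_zero, ← map_sub, ← map_sub]
    show ψ (Submodule.Quotient.mk ((1 : B') ⊗ₜ w)) = 0
    rw [hw', map_zero]
  show φ (d2 P (Submodule.Quotient.mk ((1 : B) ⊗ₜ f))) = _
  refine Eq.trans ?_ key.symm
  rw [d2_mk_tmul]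
  -- evaluate on the finitely supported function
  conv_lhs => rw [← Finsupp.sum_single (f : relMod P)]
  simp only [qq, Finsupp.sum, TensorProduct.tmul_sum]
  rw [← Submodule.mkQ_apply, map_sum, map_sum, map_sum]
  refine Finset.sum_congr rfl fun s _ => ?_
  rw [show Finsupp.single s ((f : relMod P) s) = (f : relMod P) s • Finsupp.single s (1 : P.toExtension.Ring) by
    rw [Finsupp.smul_single, smul_eq_mul, mul_one], ← tmul_eq P,
    show algebraMap P.toExtension.Ring B ((f : relMod P) s) ⊗ₜ[P.toExtension.Ring] Finsupp.single s (1 : P.toExtension.Ring)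
      = algebraMap P.toExtension.Ring B ((f : relMod P) s) • ((1 : B) ⊗ₜ[P.toExtension.Ring] Finsupp.single s (1 : P.toExtension.Ring)) by
    rw [TensorProduct.smul_tmul', smul_eq_mul, mul_one], map_smul, hφ, TensorProduct.tmul_smul,
    show g.ringHom ((f : relMod P) s) • ((1 : B') ⊗ₜ[P'.toExtension.Ring] q s) =
      algebraMap P'.toExtension.Ring B' (g.ringHom ((f : relMod P) s)) • ((1 : B') ⊗ₜ[P'.toExtension.Ring] q s) from
      (IsScalarTower.algebraMap_smul B' _ _).symm,
    Submodule.mkQ_apply, Submodule.Quotient.mk_smul, map_smul, PresHom.algebraMap_ringHom,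
    IsScalarTower.algebraMap_smul B' (algebraMap P.toExtension.Ring B ((f : relMod P) s))]

end Groth.Agent.Lib.CotTwo
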