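import Groth.Agent.Lib.CotTwo.Homotopy

/-!
# Independence of the presentation
-/

noncomputable section

universe u v w t w' t' w'' t'' m

open TensorProduct CotT

namespace Groth.Agent.Lib.CotTwo

variable {A : Type u} {B : Type v} [CommRing A] [CommRing B] [Algebra A B]
variable {ι : Type w} {σ : Type t} {ι' : Type w'} {σ' : Type t'} {ι'' : Type w''} {σ'' : Type t''}
variable {P : Algebra.Presentation A B ι σ} {P' : Algebra.Presentation A B ι' σ'}
  {P'' : Algebra.Presentation A B ι'' σ''}

/-- A morphism between any two presentations of one algebra. -/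
theorem nonempty_presHom (P : Algebra.Presentation A B ι σ) (P' : Algebra.Presentation A B ι' σ') :
    Nonempty (PresHom P P') := by
  let hom := Algebra.Generators.defaultHom P.toGenerators P'.toGenerators
  have h : ∀ s, ∃ f : relMod P', jmap P' f = hom.toExtensionHom.toRingHom (rel P s) := fun s =>
    exists_jmap_eq P' (by
      rw [hom.toExtensionHom.algebraMap_toRingHom, algebraMap_rel, map_zero])
  choose f hf using h
  exact ⟨⟨hom, f, hf⟩⟩

/-- Composite of morphisms of presentations of one algebra. -/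
def presComp (g : PresHom P' P'') (h : PresHom P P') : PresHom P P'' where
  hom := g.hom.comp h.hom
  relVal s := g.relModMap (h.relVal s)
  jmap_relVal s := by
    rw [g.jmap_relModMap, h.jmap_relVal]
    exact (Algebra.Generators.Hom.toAlgHom_comp_apply (f := h.hom) (g := g.hom) (x := rel P s)).symm

lemma presComp_ringHom (g : PresHom P' P'') (h : PresHom P P') (r : P.toExtension.Ring) :
    (presComp g h).ringHom r = g.ringHom (h.ringHom r) :=
  Algebra.Generators.Hom.toAlgHom_comp_apply (f := h.hom) (g := g.hom) (x := r)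

lemma presComp_relModMap (g : PresHom P' P'') (h : PresHom P P') (f : relMod P) :
    (presComp g h).relModMap f = g.relModMap (h.relModMap f) := by
  induction f using Finsupp.induction_linear with
  | zero => simp
  | add a b ha hb => rw [map_add, map_add, map_add, ha, hb]
  | single s r =>
    rw [PresHom.relModMap_single, PresHom.relModMap_single, LinearMap.map_smulₛₗ, presComp_ringHom]
    rfl

lemma L0map_one_tmul (h : PresHom P P') (r : P.toExtension.Ring) :
    h.L0map ((1 : B) ⊗ₜ KaehlerDifferential.D A P.toExtension.Ring r) =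
      (1 : B) ⊗ₜ KaehlerDifferential.D A P'.toExtension.Ring (h.ringHom r) := by
  rw [PresHom.L0map_apply]
  refine (Algebra.Extension.CotangentSpace.map_tmul _ _ _).trans ?_
  rw [map_one]
  rfl

lemma basis_eq (i : ι) : P.cotangentSpaceBasis i =
    ((1 : B) ⊗ₜ KaehlerDifferential.D A P.toExtension.Ring (var P i) : L0 P) :=
  Algebra.Generators.cotangentSpaceBasis_apply _ i

variable (M : Type m) [AddCommGroup M] [Module B M]

lemma presComp_L0map (g : PresHom P' P'') (h : PresHom P P') (i : ι) :
    (presComp g h).L0map (P.cotangentSpaceBasis i) = g.L0map (h.L0map (P.cotangentSpaceBasis i)) := by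
  rw [basis_eq, L0map_one_tmul, L0map_one_tmul, L0map_one_tmul, presComp_ringHom]

theorem presComp_T0pull (g : PresHom P' P'') (h : PresHom P P') (ψ : T0 P'' M) :
    (presComp g h).T0pull M ψ = h.T0pull M (g.T0pull M ψ) := by
  refine Subtype.ext ((P.cotangentSpaceBasis).ext fun i => ?_)
  show (ψ : L0 P'' →ₗ[B] M) ((presComp g h).L0map _) = (ψ : L0 P'' →ₗ[B] M) (g.L0map (h.L0map _))
  rw [presComp_L0map]

theorem presComp_T1pull (g : PresHom P' P'') (h : PresHom P P') (x : T1 P'' M) :
    (presComp g h).T1pull M x = h.T1pull M (g.T1pull M x) := by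
  obtain ⟨c, rfl⟩ := Submodule.Quotient.mk_surjective _ x
  show (Submodule.Quotient.mk ((presComp g h).cocycles1Pull M c) : T1 P M) =
    Submodule.Quotient.mk (h.cocycles1Pull M (g.cocycles1Pull M c))
  refine congrArg _ (Subtype.ext ((L1basis P).ext fun s => ?_))
  rw [L1basis_apply]
  show (c : L1 P'' →ₗ[B] M) ((presComp g h).L1map _) = (c : L1 P'' →ₗ[B] M) (g.L1map (h.L1map _))
  rw [PresHom.L1map_tmul, PresHom.L1map_tmul, PresHom.L1map_tmul, presComp_relModMap, map_one, map_one]

set_option maxHeartbeats 600000 in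
theorem presComp_T2pull (g : PresHom P' P'') (h : PresHom P P') (x : T2 P'' M) :
    (presComp g h).T2pull M x = h.T2pull M (g.T2pull M x) := by
  obtain ⟨ψ, rfl⟩ := Submodule.Quotient.mk_surjective _ x
  show (Submodule.Quotient.mk ((presComp g h).pull2 M ψ) : T2 P M) =
    Submodule.Quotient.mk (h.pull2 M (g.pull2 M ψ))
  refine congrArg _ (LinearMap.ext fun z => ?_)
  obtain ⟨y, rfl⟩ := Submodule.Quotient.mk_surjective _ z
  obtain ⟨f, rfl⟩ := exists_one_tmul P y
  show ψ ((presComp g h).L2map _) = ψ (g.L2map (h.L2map _))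
  rw [PresHom.L2map_mk_tmul, PresHom.L2map_mk_tmul, PresHom.L2map_mk_tmul, map_one, map_one]
  exact congrArg (fun q : relKer P'' => ψ (Submodule.Quotient.mk ((1 : B) ⊗ₜ q)))
    (Subtype.ext (presComp_relModMap g h f))

lemma id_ringHom (r : P.toExtension.Ring) : (PresHom.id P).ringHom r = r :=
  AlgHom.congr_fun (Algebra.Generators.Hom.toAlgHom_id (P := P.toGenerators)) r

lemma id_relModMap (f : relMod P) : (PresHom.id P).relModMap f = f := by
  induction f using Finsupp.induction_linear with
  | zero => simp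
  | add a b ha hb => rw [map_add, ha, hb]
  | single s r =>
    rw [PresHom.relModMap_single, id_ringHom]
    show r • Finsupp.single s (1 : P.toExtension.Ring) = _
    rw [Finsupp.smul_single, smul_eq_mul, mul_one]

theorem id_T0pull (ψ : T0 P M) : (PresHom.id P).T0pull M ψ = ψ := by
  refine Subtype.ext ((P.cotangentSpaceBasis).ext fun i => ?_)
  show (ψ : L0 P →ₗ[B] M) ((PresHom.id P).L0map _) = _
  rw [basis_eq, L0map_one_tmul, id_ringHom]

theorem id_T1pull (x : T1 P M) : (PresHom.id P).T1pull M x = x := by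
  obtain ⟨c, rfl⟩ := Submodule.Quotient.mk_surjective _ x
  show (Submodule.Quotient.mk ((PresHom.id P).cocycles1Pull M c) : T1 P M) = Submodule.Quotient.mk c
  refine congrArg _ (Subtype.ext ((L1basis P).ext fun s => ?_))
  rw [L1basis_apply]
  show (c : L1 P →ₗ[B] M) ((PresHom.id P).L1map _) = _
  rw [PresHom.L1map_tmul, id_relModMap]
  rfl

theorem id_T2pull (x : T2 P M) : (PresHom.id P).T2pull M x = x := by
  obtain ⟨ψ, rfl⟩ := Submodule.Quotient.mk_surjective _ x
  show (Submodule.Quotient.mk ((PresHom.id P).pull2 M ψ) : T2 P M) = Submodule.Quotient.mk ψ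
  refine congrArg _ (LinearMap.ext fun z => ?_)
  obtain ⟨y, rfl⟩ := Submodule.Quotient.mk_surjective _ z
  obtain ⟨f, rfl⟩ := exists_one_tmul P y
  show ψ ((PresHom.id P).L2map _) = _
  rw [PresHom.L2map_mk_tmul, map_one]
  exact congrArg (fun q : relKer P => ψ (Submodule.Quotient.mk ((1 : B) ⊗ₜ q)))
    (Subtype.ext (id_relModMap (P := P) f))

variable (h : PresHom P P')

theorem bijective_T0pull : Function.Bijective (h.T0pull M) := by
  obtain ⟨g⟩ := nonempty_presHom P' P
  refine Function.bijective_iff_has_inverse.2 ⟨g.T0pull M, fun x => ?_, fun x => ?_⟩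
  · rw [← presComp_T0pull, T0pull_eq M (presComp h g) (PresHom.id P'), id_T0pull]
  · rw [← presComp_T0pull, T0pull_eq M (presComp g h) (PresHom.id P), id_T0pull]

theorem bijective_T1pull : Function.Bijective (h.T1pull M) := by
  obtain ⟨g⟩ := nonempty_presHom P' P
  refine Function.bijective_iff_has_inverse.2 ⟨g.T1pull M, fun x => ?_, fun x => ?_⟩
  · rw [← presComp_T1pull, T1pull_eq M (presComp h g) (PresHom.id P'), id_T1pull]
  · rw [← presComp_T1pull, T1pull_eq M (presComp g h) (PresHom.id P), id_T1pull]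

theorem bijective_T2pull : Function.Bijective (h.T2pull M) := by
  obtain ⟨g⟩ := nonempty_presHom P' P
  refine Function.bijective_iff_has_inverse.2 ⟨g.T2pull M, fun x => ?_, fun x => ?_⟩
  · rw [← presComp_T2pull, T2pull_eq M (presComp h g) (PresHom.id P'), id_T2pull]
  · rw [← presComp_T2pull, T2pull_eq M (presComp g h) (PresHom.id P), id_T2pull]

variable (P P')

theorem nonempty_T1_equiv : Nonempty (T1 P M ≃ₗ[B] T1 P' M) := by
  obtain ⟨g⟩ := nonempty_presHom P' P
  exact ⟨LinearEquiv.ofBijective (g.T1pull M) (bijective_T1pull M g)⟩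

theorem nonempty_T2_equiv : Nonempty (T2 P M ≃ₗ[B] T2 P' M) := by
  obtain ⟨g⟩ := nonempty_presHom P' P
  exact ⟨LinearEquiv.ofBijective (g.T2pull M) (bijective_T2pull M g)⟩

theorem nonempty_T0_equiv : Nonempty (T0 P M ≃ₗ[B] T0 P' M) := by
  obtain ⟨g⟩ := nonempty_presHom P' P
  exact ⟨LinearEquiv.ofBijective (g.T0pull M) (bijective_T0pull M g)⟩

end Groth.Agent.Lib.CotTwo
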