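import Groth.Agent.Lib.CotTwo.Special
import Mathlib.RingTheory.Regular.RegularSequence
import Mathlib.LinearAlgebra.Finsupp.LinearCombination

/-!
# Relations of a regular sequence are trivial
-/

noncomputable section

universe u v w t m

open CotT

namespace Groth.Agent.Lib.CotTwo

/-- The syzygies of a regular sequence are generated by the trivial ones. -/
theorem mem_span_trivial_of_regular {R : Type u} [CommRing R] {n : ℕ} (a : Fin n → R)
    (hreg : ∀ (i : Fin n) (x : R), a i * x ∈ Ideal.span (a '' {j | j < i}) → x ∈ Ideal.span (a '' {j | j < i}))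
    (f : Fin n →₀ R) (hf : Finsupp.linearCombination R a f = 0) :
    f ∈ Submodule.span R {y | ∃ p q : Fin n →₀ R,
      y = Finsupp.linearCombination R a p • q - Finsupp.linearCombination R a q • p} := by
  classical
  suffices key : ∀ (m : ℕ) (f : Fin n →₀ R), (∀ j : Fin n, m ≤ j.val → f j = 0) →
      Finsupp.linearCombination R a f = 0 → f ∈ Submodule.span R {y | ∃ p q : Fin n →₀ R,
        y = Finsupp.linearCombination R a p • q - Finsupp.linearCombination R a q • p} from
    key n f (fun j hj => absurd j.2 (Nat.not_lt.2 hj)) hf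
  intro m
  induction m with
  | zero =>
    intro f hsupp _
    rw [show f = 0 from Finsupp.ext fun j => hsupp j (Nat.zero_le _)]
    exact zero_mem _
  | succ m ih =>
    intro f hsupp hf
    by_cases hm : n ≤ m
    · exact ih f (fun j hj => absurd j.2 (Nat.not_lt.2 (hm.trans hj))) hf
    let i : Fin n := ⟨m, Nat.lt_of_not_le hm⟩
    let rest : Fin n →₀ R := f - Finsupp.single i (f i)
    have hrest : ∀ j : Fin n, m ≤ j.val → rest j = 0 := fun j hj => by
      by_cases hji : j = i
      · subst hji
        simp [rest]
      · have : m + 1 ≤ j.val := Nat.lt_of_le_of_ne hj fun h => hji (Fin.ext h.symm)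
        simp [rest, hsupp j this, Ne.symm hji]
    have hsum : Finsupp.linearCombination R a rest = - (a i * f i) := by
      simp [rest, hf, mul_comm]
    have hmem : a i * f i ∈ Ideal.span (a '' {j | j < i}) := by
      rw [← neg_mem_iff, ← hsum]
      exact (Finsupp.mem_span_image_iff_linearCombination R).2 ⟨rest, (Finsupp.mem_supported R rest).2
        (fun j hj => by
          rw [Finset.mem_coe, Finsupp.mem_support_iff] at hj
          exact Fin.lt_def.2 (Nat.lt_of_not_le fun h => hj (hrest j h))), rfl⟩
    obtain ⟨g, hg, hgi⟩ := (Finsupp.mem_span_image_iff_linearCombination R).1 (hreg i (f i) hmem)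
    let y : Fin n →₀ R := Finsupp.linearCombination R a g • Finsupp.single i 1 -
      Finsupp.linearCombination R a (Finsupp.single i 1) • g
    have hy : y ∈ Submodule.span R {y | ∃ p q : Fin n →₀ R,
        y = Finsupp.linearCombination R a p • q - Finsupp.linearCombination R a q • p} :=
      Submodule.subset_span ⟨g, Finsupp.single i 1, rfl⟩
    have hgsupp : ∀ j : Fin n, m ≤ j.val → g j = 0 := fun j hj => by
      by_contra h
      have := Fin.lt_def.1 ((Finsupp.mem_supported R g).1 hg (Finset.mem_coe.2 (Finsupp.mem_support_iff.2 h)))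
      exact absurd this (Nat.not_lt.2 hj)
    have h2 : f - y ∈ Submodule.span R {y | ∃ p q : Fin n →₀ R,
        y = Finsupp.linearCombination R a p • q - Finsupp.linearCombination R a q • p} := by
      refine ih _ (fun j hj => ?_) ?_
      · by_cases hji : j = i
        · subst hji
          simp [y, hgi, hgsupp i le_rfl]
        · have : m + 1 ≤ j.val := Nat.lt_of_le_of_ne hj fun h => hji (Fin.ext h.symm)
          simp [y, hsupp j this, Ne.symm hji, hgsupp j hj]
      · simp [y, map_sub, hf, mul_comm]
    simpa using add_mem h2 hy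

variable {A : Type u} {B : Type v} [CommRing A] [CommRing B] [Algebra A B] (hs : Function.Surjective (algebraMap A B))
  {n : ℕ} (a : Fin n → A) (hI : RingHom.ker (algebraMap A B) = Ideal.span (Set.range a))

/-- A quotient presented without variables. -/
def quotPres : Algebra.Presentation A B PEmpty.{w + 1} (ULift.{t} (Fin n)) where
  toGenerators := Algebra.Generators.ofSurjectiveAlgebraMap hs
  relation s := MvPolynomial.C (a s.down)
  span_range_relation_eq_ker := by
    ext x
    obtain ⟨r, rfl⟩ := MvPolynomial.C_surjective (R := A) PEmpty x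
    rw [Algebra.Generators.ker_eq_ker_aeval_val, RingHom.mem_ker, MvPolynomial.aeval_C, ← RingHom.mem_ker, hI]
    have h : Set.range (fun s : ULift.{t} (Fin n) => (MvPolynomial.C (a s.down) : MvPolynomial PEmpty.{w + 1} A)) =
        MvPolynomial.C '' Set.range a := by
      rw [← Set.range_comp]
      exact ULift.down_surjective.range_comp (MvPolynomial.C ∘ a)
    rw [h, ← Ideal.map_span]
    exact ⟨fun h => by
      obtain ⟨r', hr', hrr⟩ := (Ideal.mem_map_iff_of_surjective (MvPolynomial.C (R := A))
        (MvPolynomial.C_surjective (R := A) PEmpty.{w + 1})).1 h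
      rwa [← MvPolynomial.C_injective _ _ hrr], fun h => Ideal.mem_map_of_mem _ h⟩

theorem subsingleton_T2_quotPres
    (hreg : ∀ (i : Fin n) (x : A), a i * x ∈ Ideal.span (a '' {j | j < i}) → x ∈ Ideal.span (a '' {j | j < i}))
    (M : Type m) [AddCommGroup M] [Module B M] :
    Subsingleton (T2 (quotPres.{u, v, w, t} hs a hI) M) := by
  classical
  let P := quotPres.{u, v, w, t} hs a hI
  let R := P.toExtension.Ring
  let C' : A →+* R := cst P
  have hC : Function.Surjective C' := MvPolynomial.C_surjective (R := A) PEmpty.{w + 1}
  have hCi : Function.Injective C' := MvPolynomial.C_injective _ _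
  let a' : Fin n → R := fun i => C' (a i)
  have hreg' : ∀ (i : Fin n) (x : R), a' i * x ∈ Ideal.span (a' '' {j | j < i}) →
      x ∈ Ideal.span (a' '' {j | j < i}) := fun i x hx => by
    obtain ⟨r, rfl⟩ := hC x
    have him : a' '' {j | j < i} = C' '' (a '' {j | j < i}) := by rw [← Set.image_comp]; rfl
    rw [him, ← Ideal.map_span] at hx ⊢
    obtain ⟨z, hz, hzr⟩ := (Ideal.mem_map_iff_of_surjective C' hC).1 hx
    rw [← map_mul] at hzr
    exact Ideal.mem_map_of_mem _ (hreg i r (hCi hzr ▸ hz))
  let e : relMod P ≃ₗ[R] (Fin n →₀ R) := Finsupp.domLCongr Equiv.ulift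
  have he : ∀ f, Finsupp.linearCombination R a' (e f) = jmap P f := fun f => by
    induction f using Finsupp.induction_linear with
    | zero => simp
    | add p q hp hq => rw [map_add, map_add, hp, hq, map_add]
    | single s r =>
      rw [jmap_single]
      show Finsupp.linearCombination R a' (Finsupp.domLCongr Equiv.ulift (Finsupp.single s r)) = _
      rw [Finsupp.domLCongr_single, Finsupp.linearCombination_single, smul_eq_mul]
      rfl
  have htriv : ∀ q : relKer P, q ∈ trivRelKer P := fun q => by
    have h := mem_span_trivial_of_regular a' hreg' (e q) ((he _).trans q.2)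
    show (q : relMod P) ∈ trivRel P
    suffices key : ∀ y ∈ Submodule.span R {y | ∃ p q : Fin n →₀ R,
        y = Finsupp.linearCombination R a' p • q - Finsupp.linearCombination R a' q • p}, e.symm y ∈ trivRel P by
      simpa using key _ h
    intro y hy
    induction hy using Submodule.span_induction with
    | mem y hy =>
      obtain ⟨p, q, rfl⟩ := hy
      obtain ⟨p, rfl⟩ := e.surjective p
      obtain ⟨q, rfl⟩ := e.surjective q
      rw [he, he, map_sub, map_smul, map_smul, e.symm_apply_apply, e.symm_apply_apply]
      exact Submodule.subset_span ⟨p, q, rfl⟩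
    | zero => simp
    | add p q _ _ hp hq => rw [map_add]; exact add_mem hp hq
    | smul c p _ hp => rw [map_smul]; exact Submodule.smul_mem _ c hp
  have : Subsingleton (L2 P →ₗ[B] M) := ⟨fun φ ψ => LinearMap.ext fun z => by
    obtain ⟨y, rfl⟩ := Submodule.Quotient.mk_surjective _ z
    obtain ⟨q, rfl⟩ := exists_one_tmul P y
    rw [(mk_one_tmul_eq_zero_iff P q).2 (htriv q), map_zero, map_zero]⟩
  infer_instance

end Groth.Agent.Lib.CotTwo
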