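import Groth.Agent.Lib.CotTwo.Exalcom
import Mathlib.RingTheory.Smooth.Locus
import Mathlib.RingTheory.Etale.Kaehler
import Mathlib.RingTheory.Jacobson.Ring
import Mathlib.RingTheory.Flat.TorsionFree
import Mathlib.FieldTheory.IsAlgClosed.Basic
import Mathlib.LinearAlgebra.TensorProduct.Basis

/-!
# A rigid singular affine scheme has no smoothing
-/

noncomputable section

universe u

open TensorProduct

namespace Groth.Agent.Lib.CotTwo.NoSmooth

/-- Where a finitely presented algebra is smooth away from `t`, a power of `t` splits the conormal map. -/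
theorem exists_splitting_pow {A B : Type u} [CommRing A] [IsNoetherianRing A] [CommRing B] [Algebra A B]
    {n : ℕ} (f : MvPolynomial (Fin n) A →ₐ[A] B) (hf : Function.Surjective f) (t : B)
    (h : (PrimeSpectrum.basicOpen t : Set (PrimeSpectrum B)) ⊆ Algebra.smoothLocus A B) :
    ∃ (N : ℕ) (s : (Algebra.Extension.ofSurjective f hf).CotangentSpace →ₗ[B]
        (Algebra.Extension.ofSurjective f hf).Cotangent),
      ∀ c, s ((Algebra.Extension.ofSurjective f hf).cotangentComplex c) = t ^ N • c := by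
  set E := Algebra.Extension.ofSurjective f hf with hE
  haveI : Algebra.FiniteType A B := Algebra.FiniteType.of_surjective f hf
  haveI : Algebra.FinitePresentation A B := Algebra.FinitePresentation.of_finiteType.1 inferInstance
  haveI : IsNoetherianRing B := Algebra.FiniteType.isNoetherianRing A B
  haveI : IsNoetherianRing E.Ring := inferInstanceAs (IsNoetherianRing (MvPolynomial (Fin n) A))
  haveI hfs : Algebra.FormallySmooth A (Localization.Away t) := Algebra.basicOpen_subset_smoothLocus_iff.1 h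
  haveI : Algebra.FormallySmooth A E.Ring := (inferInstance : Algebra.FormallySmooth A (MvPolynomial (Fin n) A))
  -- the kernel is killed by a power of `t`
  haveI hloc : IsLocalizedModule (.powers t) (Algebra.H1Cotangent.map A A B (Localization.Away t)) := inferInstance
  have hker : ∀ c, E.cotangentComplex c = 0 → ∃ a : ℕ, t ^ a • c = 0 := by
    intro c hc
    let e := E.equivH1CotangentOfFormallySmooth
    let c' : E.H1Cotangent := ⟨c, hc⟩
    have h0 : Algebra.H1Cotangent.map A A B (Localization.Away t) (e c') = 0 := Subsingleton.elim _ _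
    obtain ⟨⟨_, a, rfl⟩, ha⟩ := (IsLocalizedModule.eq_zero_iff (.powers t) _).1 h0
    refine ⟨a, ?_⟩
    have ha' : t ^ a • c' = 0 := e.injective (by rw [map_smul, map_zero]; exact ha)
    exact congrArg Subtype.val ha'
  haveI : Module.Finite B E.Cotangent := Algebra.Extension.Cotangent.finite (IsNoetherian.noetherian E.ker)
  haveI : IsNoetherian B E.Cotangent := inferInstance
  obtain ⟨a, ha⟩ : ∃ a : ℕ, ∀ c, E.cotangentComplex c = 0 → t ^ a • c = 0 := by
    obtain ⟨G, hG⟩ := (IsNoetherian.noetherian (LinearMap.ker E.cotangentComplex) : _)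
    choose α hα using fun g : G => hker (g : E.Cotangent) (hG.le (Submodule.subset_span g.2))
    refine ⟨Finset.univ.sup α, fun c hc => ?_⟩
    have hc' : c ∈ Submodule.span B (G : Set E.Cotangent) := hG.ge hc
    clear hc
    induction hc' using Submodule.span_induction with
    | mem g hg =>
      obtain ⟨d, hd⟩ := Nat.le.dest (Finset.le_sup (f := α) (Finset.mem_univ ⟨g, hg⟩))
      rw [← hd, pow_add, mul_comm, mul_smul, hα ⟨g, hg⟩, smul_zero]
    | zero => rw [smul_zero]
    | add x y _ _ hx hy => rw [smul_add, hx, hy, add_zero]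
    | smul r x _ hx => rw [smul_comm, hx, smul_zero]
  -- a section of the projection to the differentials, up to a power of `t`
  let L := Localization.Away t
  let F := E.CotangentSpace
  haveI : Module.Projective L Ω[L⁄A] := inferInstance
  let π₁ : L ⊗[B] F →ₗ[L] Ω[L⁄A] := (((KaehlerDifferential.map A A B L) ∘ₗ E.toKaehler).liftBaseChange L)
  have hπ₁ : Function.Surjective π₁ := by
    intro z
    obtain ⟨⟨ω, s⟩, hs⟩ := IsLocalizedModule.surj (.powers t) (KaehlerDifferential.map A A B L) z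
    obtain ⟨x, rfl⟩ := E.toKaehler_surjective ω
    refine ⟨IsLocalization.mk' L 1 s ⊗ₜ x, ?_⟩
    simp only [π₁, LinearMap.liftBaseChange_tmul, LinearMap.comp_apply]
    rw [← hs, Submonoid.smul_def, ← algebraMap_smul L (s : B) z, smul_smul, IsLocalization.mk'_spec, map_one, one_smul]
  obtain ⟨σ, hσ⟩ := Module.projective_lifting_property π₁ LinearMap.id hπ₁
  haveI : IsLocalizedModule (.powers t) (TensorProduct.mk B L F 1) :=
    (isLocalizedModule_iff_isBaseChange (.powers t) L _).2 (TensorProduct.isBaseChange B F L)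
  haveI : Module.FinitePresentation B Ω[B⁄A] := inferInstance
  obtain ⟨r, ⟨_, b, rfl⟩, hr⟩ := Module.FinitePresentation.exists_lift_of_isLocalizedModule (.powers t)
    (TensorProduct.mk B L F 1) ((σ.restrictScalars B) ∘ₗ (KaehlerDifferential.map A A B L))
  have hr' : ∀ ω, ∃ c : ℕ, t ^ c • E.toKaehler (r ω) = t ^ c • (t ^ b • ω) := by
    intro ω
    have h1 := congrArg π₁ (LinearMap.congr_fun hr ω)
    simp only [LinearMap.comp_apply, TensorProduct.mk_apply, LinearMap.smul_apply, Submonoid.smul_def,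
      LinearMap.restrictScalars_apply] at h1
    rw [LinearMap.map_smul_of_tower, show π₁ (σ (KaehlerDifferential.map A A B L ω)) = KaehlerDifferential.map A A B L ω from
      LinearMap.congr_fun hσ _] at h1
    simp only [π₁, LinearMap.liftBaseChange_tmul, LinearMap.comp_apply, one_smul] at h1
    rw [← map_smul] at h1
    obtain ⟨⟨_, c, rfl⟩, hc⟩ := IsLocalizedModule.exists_of_eq (S := Submonoid.powers t) h1
    exact ⟨c, hc⟩
  obtain ⟨b', hb'⟩ : ∃ b' : ℕ, ∀ ω, t ^ b' • E.toKaehler (r ω) = t ^ b' • (t ^ b • ω) := by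
    obtain ⟨G, hG⟩ := (Module.Finite.fg_top : (⊤ : Submodule B Ω[B⁄A]).FG)
    choose α hα using hr'
    refine ⟨G.sup α, fun ω => ?_⟩
    have hω : ω ∈ Submodule.span B (G : Set Ω[B⁄A]) := hG.ge trivial
    induction hω using Submodule.span_induction with
    | mem g hg =>
      obtain ⟨d, hd⟩ := Nat.le.dest (Finset.le_sup (f := α) hg)
      rw [← hd, pow_add, mul_comm, mul_smul, mul_smul, hα g]
    | zero => simp only [map_zero, smul_zero]
    | add x y _ _ hx hy => simp only [map_add, smul_add, hx, hy]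
    | smul r x _ hx => rw [map_smul, map_smul, smul_comm, hx, smul_comm r, smul_comm r]
  let g₀ : F →ₗ[B] F := t ^ b' • (t ^ b • LinearMap.id - r ∘ₗ E.toKaehler)
  have hg₀ : ∀ x, g₀ x ∈ LinearMap.range E.cotangentComplex := fun x => (E.exact_cotangentComplex_toKaehler _).1 (by
    simp only [g₀, LinearMap.smul_apply, LinearMap.sub_apply, LinearMap.id_apply, LinearMap.comp_apply, map_smul, map_sub]
    rw [smul_sub, hb', sub_self])
  choose pre hpre using hg₀
  have hwd : ∀ c c', E.cotangentComplex c = E.cotangentComplex c' → t ^ a • c = t ^ a • c' := fun c c' hcc => by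
    rw [← sub_eq_zero, ← smul_sub]
    exact ha _ (by rw [map_sub, hcc, sub_self])
  refine ⟨a + (b' + b), { toFun := fun x => t ^ a • pre x, map_add' := fun x y => ?_, map_smul' := fun c x => ?_ }, fun c => ?_⟩
  · rw [← smul_add]
    exact hwd _ _ (by rw [hpre, map_add, map_add, hpre, hpre])
  · simp only [RingHom.id_apply]
    rw [smul_comm c]
    exact hwd _ _ (by rw [hpre, map_smul, map_smul, hpre])
  · show t ^ a • pre (E.cotangentComplex c) = _
    rw [pow_add, mul_smul]
    exact hwd _ _ (by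
      rw [hpre, map_smul]
      simp only [g₀, LinearMap.smul_apply, LinearMap.sub_apply, LinearMap.id_apply, LinearMap.comp_apply]
      rw [(E.exact_cotangentComplex_toKaehler _).2 ⟨c, rfl⟩, map_zero, sub_zero, pow_add, mul_smul])

/-- A `t ^ N`-splitting gives derivations of square-zero extensions extending multiplication by `t ^ N`. -/
theorem exists_delta {A B B' E' : Type u} [CommRing A] [CommRing B] [Algebra A B] [CommRing B'] [Algebra A B']
    [CommRing E'] [Algebra A E'] {n : ℕ} (f : MvPolynomial (Fin n) A →ₐ[A] B) (hf : Function.Surjective f) (t : A) (N : ℕ)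
    (s : (Algebra.Extension.ofSurjective f hf).CotangentSpace →ₗ[B] (Algebra.Extension.ofSurjective f hf).Cotangent)
    (hs : ∀ c, s ((Algebra.Extension.ofSurjective f hf).cotangentComplex c) = algebraMap A B t ^ N • c)
    (h : B →ₐ[A] B') (hh : Function.Surjective h)
    {m : ℕ} (hker : ∀ b, h b = 0 → ∃ c, b = algebraMap A B t ^ m * c) (htm : algebraMap A E' t ^ m = 0)
    (π : E' →ₐ[A] B') (hπ : Function.Surjective π) (hsq : ∀ x y, π x = 0 → π y = 0 → x * y = 0) :
    ∃ δ : E' → E', (∀ x, π (δ x) = 0) ∧ (∀ x y, δ (x + y) = δ x + δ y) ∧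
      (∀ x y, δ (x * y) = x * δ y + y * δ x) ∧ (∀ a, δ (algebraMap A E' a) = 0) ∧
      ∀ x, π x = 0 → δ x = algebraMap A E' t ^ N * x := by
  let E := Algebra.Extension.ofSurjective f hf
  choose w hw using fun i => hπ (h (f (MvPolynomial.X i)))
  let u : E.Ring →ₐ[A] E' := (MvPolynomial.aeval w : MvPolynomial (Fin n) A →ₐ[A] E')
  let fE : E.Ring →ₐ[A] B := f
  have hu : ∀ p : E.Ring, π (u p) = h (fE p) := fun p => by
    have h1 : π.comp (MvPolynomial.aeval w) = h.comp f := MvPolynomial.algHom_ext fun i => by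
      show π (MvPolynomial.aeval w (MvPolynomial.X i)) = _
      rw [MvPolynomial.aeval_X, hw]
      rfl
    exact AlgHom.congr_fun h1 p
  letI : Algebra E.Ring E' := u.toRingHom.toAlgebra
  let ψ₀ : E.ker.Cotangent →ₗ[E.Ring] E' := Submodule.liftQ _ ((Algebra.linearMap E.Ring E') ∘ₗ E.ker.subtype)
    (Submodule.smul_le.2 fun r hr i _ => by
      rw [LinearMap.mem_ker]
      show u (r * i.1 : E.Ring) = 0
      exact (map_mul u _ _).trans (hsq _ _ (by rw [hu, show fE r = 0 from hr, map_zero]) (by rw [hu, show fE i.1 = 0 from i.2, map_zero])))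
  let ψ : E.Cotangent → E' := fun c => ψ₀ c.val
  have hψmk : ∀ i : E.ker, ψ (.mk i) = u i.1 := fun i => rfl
  have hψadd : ∀ c c', ψ (c + c') = ψ c + ψ c' := fun c c' => by
    show ψ₀ (c + c').val = _
    rw [Algebra.Extension.Cotangent.val_add, map_add]
  have hψsmul : ∀ (p : E.Ring) c, ψ (fE p • c) = u p * ψ c := fun p c => by
    obtain ⟨i, rfl⟩ := Algebra.Extension.Cotangent.mk_surjective c
    rw [show fE p • Algebra.Extension.Cotangent.mk i = Algebra.Extension.Cotangent.mk (p • i) by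
      rw [LinearMap.map_smul_of_tower]
      exact (algebraMap_smul B p _), hψmk, hψmk]
    exact map_mul u _ _
  have hψ0 : ψ 0 = 0 := by
    have h1 := hψadd 0 0
    rw [add_zero] at h1
    exact (add_eq_left.1 h1.symm)
  have hπψ : ∀ c, π (ψ c) = 0 := fun c => by
    obtain ⟨i, rfl⟩ := Algebra.Extension.Cotangent.mk_surjective c
    rw [hψmk, hu, show fE i.1 = 0 from i.2, map_zero]
  let D : E.Ring → E' := fun p => ψ (s ((1 : B) ⊗ₜ KaehlerDifferential.D A E.Ring p))
  have hDadd : ∀ p q, D (p + q) = D p + D q := fun p q => by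
    show ψ (s _) = _
    rw [map_add, TensorProduct.tmul_add, map_add, hψadd]
  have hDmul : ∀ p q, D (p * q) = u p * D q + u q * D p := fun p q => by
    show ψ (s _) = _
    rw [Derivation.leibniz, TensorProduct.tmul_add, map_add, hψadd]
    congr 1
    · rw [TensorProduct.tmul_smul, ← algebraMap_smul B p, map_smul]
      exact hψsmul p _
    · rw [TensorProduct.tmul_smul, ← algebraMap_smul B q, map_smul]
      exact hψsmul q _
  have hDC : ∀ a, D (algebraMap A E.Ring a) = 0 := fun a => by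
    show ψ (s _) = 0
    rw [show KaehlerDifferential.D A E.Ring (algebraMap A E.Ring a) = 0 from
      Derivation.map_algebraMap _ a, TensorProduct.tmul_zero, map_zero, hψ0]
  have hDI : ∀ p : E.Ring, fE p = 0 → D p = algebraMap A E' t ^ N * u p := fun p hp => by
    show ψ (s _) = _
    rw [← E.cotangentComplex_mk ⟨p, hp⟩, hs, ← map_pow, ← fE.commutes, hψsmul, hψmk, u.commutes, map_pow]
  have hDker : ∀ p : E.Ring, h (fE p) = 0 → D p = algebraMap A E' t ^ N * u p := fun p hp => by
    obtain ⟨c, hc⟩ := hker _ hp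
    obtain ⟨q, rfl⟩ : ∃ q : E.Ring, fE q = c := hf c
    let T : E.Ring := algebraMap A _ (t ^ m)
    have hi : fE (p - T * q) = 0 := by
      rw [map_sub, map_mul, hc, fE.commutes, map_pow, sub_self]
    have h1 : D p = D (p - T * q) + D (T * q) := by rw [← hDadd, sub_add_cancel]
    have huT : u T = 0 := by rw [u.commutes, map_pow, htm]
    rw [h1, hDI _ hi, hDmul, hDC, huT, map_sub, map_mul, huT]
    ring
  have hsur : ∀ z, ∃ p : E.Ring, h (fE p) = z := hh.comp hf
  choose sec hsec using fun x => hsur (π x)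
  let τ := algebraMap A E' t ^ N
  have key : ∀ x (p : E.Ring), h (fE p) = π x → τ * (x - u (sec x)) + D (sec x) = τ * (x - u p) + D p := fun x p hp => by
    have h1 : D (sec x - p) = τ * u (sec x - p) := hDker _ (by rw [map_sub, map_sub, hsec, hp, sub_self])
    have h2 : D (sec x - p) + D p = D (sec x) := by rw [← hDadd, sub_add_cancel]
    rw [← h2, h1, map_sub]
    ring
  refine ⟨fun x => τ * (x - u (sec x)) + D (sec x), fun x => ?_, fun x y => ?_, fun x y => ?_, fun a => ?_, fun x hx => ?_⟩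
  · show π (τ * (x - u (sec x)) + D (sec x)) = 0
    rw [map_add, map_mul, map_sub, hu, hsec, sub_self, mul_zero, zero_add]
    exact hπψ _
  · show τ * (x + y - u (sec (x + y))) + D (sec (x + y)) =
      τ * (x - u (sec x)) + D (sec x) + (τ * (y - u (sec y)) + D (sec y))
    rw [key (x + y) (sec x + sec y) (by rw [map_add, map_add, hsec, hsec, map_add]), hDadd, map_add]
    ring
  · show τ * (x * y - u (sec (x * y))) + D (sec (x * y)) =
      x * (τ * (y - u (sec y)) + D (sec y)) + y * (τ * (x - u (sec x)) + D (sec x))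
    rw [key (x * y) (sec x * sec y) (by rw [map_mul, map_mul, hsec, hsec, map_mul]), hDmul, map_mul]
    have h0 : ∀ p, π (D p) = 0 := fun p => hπψ _
    have hx : π (x - u (sec x)) = 0 := by rw [map_sub, hu, hsec, sub_self]
    have hy : π (y - u (sec y)) = 0 := by rw [map_sub, hu, hsec, sub_self]
    linear_combination (-1 : E') * hsq _ _ hx (h0 (sec y)) - hsq _ _ hy (h0 (sec x)) - τ * hsq _ _ hx hy
  · show τ * (algebraMap A E' a - u (sec (algebraMap A E' a))) + D (sec (algebraMap A E' a)) = 0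
    rw [key _ (algebraMap A _ a) (by rw [fE.commutes, h.commutes, π.commutes]), hDC, u.commutes, sub_self, mul_zero, add_zero]
  · show τ * (x - u (sec x)) + D (sec x) = _
    rw [key x 0 (by rw [map_zero, map_zero, hx]), map_zero, sub_zero,
      show D 0 = 0 by rw [← map_zero (algebraMap A E.Ring)]; exact hDC 0, add_zero]

/-- If `t ^ N` kills all square-zero extensions of `B₀ ⊗ R`, then `B₀` is formally smooth. -/
theorem formallySmooth_of_delta {k B₀ R : Type u} [Field k] [CommRing B₀] [Algebra k B₀] [CommRing R] [Algebra k R]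
    (ν : R) (lam : R →ₗ[k] k) (hlam : lam ν = 1)
    (H : ∀ (E₀ : Type u) [CommRing E₀] [Algebra k E₀] (p₀ : E₀ →ₐ[k] B₀), Function.Surjective p₀ →
      (∀ x y, p₀ x = 0 → p₀ y = 0 → x * y = 0) →
      ∃ δ : E₀ ⊗[k] R → E₀ ⊗[k] R, (∀ x, Algebra.TensorProduct.map p₀ (AlgHom.id k R) (δ x) = 0) ∧
        (∀ x y, δ (x + y) = δ x + δ y) ∧ (∀ x y, δ (x * y) = x * δ y + y * δ x) ∧
        (∀ c : k, δ (algebraMap k _ c) = 0) ∧
        ∀ e, p₀ e = 0 → δ (e ⊗ₜ 1) = e ⊗ₜ ν) :
    Algebra.FormallySmooth k B₀ := by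
  let P := MvPolynomial B₀ k
  let f : P →ₐ[k] B₀ := MvPolynomial.aeval id
  have hf : Function.Surjective f := fun b => ⟨MvPolynomial.X b, MvPolynomial.aeval_X _ _⟩
  let E₀ := P ⧸ RingHom.ker f.toRingHom ^ 2
  let p₀ : E₀ →ₐ[k] B₀ := f.kerSquareLift
  have hp₀ : Function.Surjective p₀ := fun b => by
    obtain ⟨p, rfl⟩ := hf b
    exact ⟨Ideal.Quotient.mk _ p, rfl⟩
  have hsq : ∀ x y, p₀ x = 0 → p₀ y = 0 → x * y = 0 := by
    intro x y
    obtain ⟨p, rfl⟩ := Ideal.Quotient.mk_surjective x
    obtain ⟨q, rfl⟩ := Ideal.Quotient.mk_surjective y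
    intro hp hq
    rw [← map_mul, Ideal.Quotient.eq_zero_iff_mem, pow_two]
    exact Ideal.mul_mem_mul hp hq
  obtain ⟨δ, hδπ, hδadd, hδmul, hδk, hδν⟩ := H E₀ p₀ hp₀ hsq
  let cn : E₀ ⊗[k] R →ₗ[E₀] E₀ := AlgebraTensorModule.lift
    (LinearMap.toSpanSingleton E₀ (R →ₗ[k] E₀) ((Algebra.linearMap k E₀) ∘ₗ lam))
  have hcn : ∀ e r, cn (e ⊗ₜ r) = e * algebraMap k E₀ (lam r) := fun e r => rfl
  have hcnp : ∀ z, Algebra.TensorProduct.map p₀ (AlgHom.id k R) z = 0 → p₀ (cn z) = 0 := by
    let cb : B₀ ⊗[k] R →ₗ[B₀] B₀ := AlgebraTensorModule.lift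
      (LinearMap.toSpanSingleton B₀ (R →ₗ[k] B₀) ((Algebra.linearMap k B₀) ∘ₗ lam))
    have h1 : ∀ z, p₀ (cn z) = cb (Algebra.TensorProduct.map p₀ (AlgHom.id k R) z) := fun z => by
      induction z with
      | zero => simp only [map_zero]
      | tmul e r =>
        rw [hcn, map_mul, AlgHom.commutes, Algebra.TensorProduct.map_tmul]
        rfl
      | add x y hx hy => simp only [map_add, hx, hy]
    intro z hz
    rw [h1, hz, map_zero]
  let Δ : E₀ → E₀ := fun e => cn (δ (e ⊗ₜ 1))
  have hΔp : ∀ e, p₀ (Δ e) = 0 := fun e => hcnp _ (hδπ _)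
  have hcnl : ∀ e z, cn ((e ⊗ₜ 1) * z) = e * cn z := fun e z => by
    rw [← smul_eq_mul e, ← map_smul, ← IsScalarTower.algebraMap_smul (E₀ ⊗[k] R) e z]
    rfl
  have hΔadd : ∀ e e', Δ (e + e') = Δ e + Δ e' := fun e e' => by
    show cn _ = _
    rw [TensorProduct.add_tmul, hδadd, map_add]
  have hΔmul : ∀ e e', Δ (e * e') = e * Δ e' + e' * Δ e := fun e e' => by
    show cn _ = _
    rw [show (e * e') ⊗ₜ[k] (1 : R) = (e ⊗ₜ[k] (1 : R)) * (e' ⊗ₜ[k] (1 : R)) by
      rw [Algebra.TensorProduct.tmul_mul_tmul, one_mul], hδmul, map_add, hcnl, hcnl]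
  have hΔk : ∀ c : k, Δ (algebraMap k E₀ c) = 0 := fun c => by
    show cn (δ (algebraMap k (E₀ ⊗[k] R) c)) = 0
    rw [hδk, map_zero]
  have hΔN : ∀ e, p₀ e = 0 → Δ e = e := fun e he => by
    show cn _ = e
    rw [hδν e he, hcn, hlam, map_one, mul_one]
  let γ : E₀ →ₐ[k] E₀ :=
    { toFun := fun e => e - Δ e
      map_one' := by
        show (1 : E₀) - Δ 1 = 1
        rw [← map_one (algebraMap k E₀), hΔk, sub_zero]
      map_zero' := by
        show (0 : E₀) - Δ 0 = 0
        rw [← map_zero (algebraMap k E₀), hΔk, sub_zero]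
      map_add' := fun e e' => by
        show e + e' - Δ (e + e') = e - Δ e + (e' - Δ e')
        rw [hΔadd]; ring
      map_mul' := fun e e' => by
        show e * e' - Δ (e * e') = (e - Δ e) * (e' - Δ e')
        rw [hΔmul]
        linear_combination (-1 : E₀) * hsq _ _ (hΔp e) (hΔp e')
      commutes' := fun c => by
        show algebraMap k E₀ c - Δ _ = _
        rw [hΔk, sub_zero] }
  have hγ : ∀ e, p₀ e = 0 → γ e = 0 := fun e he => by
    show e - Δ e = 0
    rw [hΔN e he, sub_self]
  let g : B₀ →ₐ[k] E₀ := AlgHom.liftOfSurjective p₀ hp₀ γ fun e he => hγ e he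
  refine Algebra.FormallySmooth.of_split f g (AlgHom.ext fun b => ?_)
  obtain ⟨e, rfl⟩ := hp₀ b
  rw [AlgHom.comp_apply, AlgHom.liftOfSurjective_apply]
  show p₀ (e - Δ e) = _
  rw [map_sub, hΔp, sub_zero]
  rfl

/-- All deformations of a rigid algebra over `A ⧸ t ^ m` have a section over the closed fibre. -/
theorem exists_section_of_rigid {k B B₀ : Type u} [Field k] [CommRing B] [Algebra k B] [CommRing B₀] [Algebra k B₀]
    (hrigid : Subsingleton (CotT.T1 (CotT.canon k B₀) B₀))
    (T : B) (hT : ∀ c, T * c = 0 → c = 0) (p : B →ₐ[k] B₀) (hp : Function.Surjective p)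
    (hker : ∀ b, p b = 0 ↔ ∃ c, b = T * c) (j : ℕ) :
    ∃ σ : B₀ →ₐ[k] B ⧸ Ideal.span {T ^ (j + 1)}, ∀ x b, σ x = Ideal.Quotient.mk _ b → p b = x := by
  induction j with
  | zero =>
    have hk : RingHom.ker p.toRingHom ≤ RingHom.ker (Ideal.Quotient.mkₐ k (Ideal.span {T ^ (0 + 1)})).toRingHom :=
      fun b hb => by
        obtain ⟨c, rfl⟩ := (hker b).1 hb
        show Ideal.Quotient.mk _ (T * c) = 0
        rw [Ideal.Quotient.eq_zero_iff_mem, zero_add, pow_one]
        exact Ideal.mul_mem_right _ _ (Ideal.mem_span_singleton_self _)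
    refine ⟨AlgHom.liftOfSurjective p hp (Ideal.Quotient.mkₐ k _) hk, fun x b hxb => ?_⟩
    obtain ⟨b', rfl⟩ := hp x
    rw [AlgHom.liftOfSurjective_apply] at hxb
    have h1 := Ideal.Quotient.eq.1 hxb
    rw [zero_add, pow_one] at h1
    obtain ⟨c, hc⟩ := Ideal.mem_span_singleton'.1 h1
    rw [← sub_eq_zero, ← map_sub, ← neg_sub, map_neg, neg_eq_zero, (hker _).2 ⟨c, by rw [← hc, mul_comm]⟩]
  | succ j ih =>
    obtain ⟨σ, hσ⟩ := ih
    let Q := B ⧸ Ideal.span {T ^ (j + 2)}
    let fac : Q →ₐ[k] B ⧸ Ideal.span {T ^ (j + 1)} := Ideal.Quotient.factorₐ k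
      (Ideal.span_singleton_le_span_singleton.2 (pow_dvd_pow T (Nat.le_succ _)))
    let S : Subalgebra k Q := σ.range.comap fac
    have hp0 : ∀ b, b ∈ Ideal.span {T ^ (j + 2)} → p b = 0 := fun b hb => by
      obtain ⟨c, rfl⟩ := Ideal.mem_span_singleton'.1 hb
      rw [map_mul, map_pow, (hker T).2 ⟨1, (mul_one T).symm⟩, zero_pow (Nat.succ_ne_zero _), mul_zero]
    let pQ : Q →ₐ[k] B₀ := Ideal.Quotient.liftₐ _ p hp0
    let proj : S →ₐ[k] B₀ := pQ.comp S.val
    have hmem : ∀ c, Ideal.Quotient.mk (Ideal.span {T ^ (j + 2)}) (T ^ (j + 1) * c) ∈ S := fun c => by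
      refine (Subalgebra.mem_comap _ _ _).2 ⟨0, ?_⟩
      show σ 0 = Ideal.Quotient.mk (Ideal.span {T ^ (j + 1)}) (T ^ (j + 1) * c)
      rw [map_zero, eq_comm, Ideal.Quotient.eq_zero_iff_mem]
      exact Ideal.mul_mem_right _ _ (Ideal.mem_span_singleton_self _)
    choose lft hlft using hp
    let incl : B₀ → S := fun x => ⟨Ideal.Quotient.mk _ (T ^ (j + 1) * lft x), hmem _⟩
    have hincl : ∀ x b, p b = x → incl x = ⟨Ideal.Quotient.mk _ (T ^ (j + 1) * b), hmem _⟩ := fun x b hb => by
      refine Subtype.ext (Ideal.Quotient.eq.2 ?_)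
      obtain ⟨c, hc⟩ := (hker (lft x - b)).1 (by rw [map_sub, hlft, hb, sub_self])
      rw [← mul_sub, hc, ← mul_assoc, ← pow_succ]
      exact Ideal.mul_mem_right _ _ (Ideal.mem_span_singleton_self _)
    let inclHom : B₀ →+ S :=
      { toFun := incl
        map_zero' := (hincl 0 0 (map_zero p)).trans (Subtype.ext (by
          show Ideal.Quotient.mk _ (T ^ (j + 1) * 0) = (0 : Q)
          rw [mul_zero, map_zero]))
        map_add' := fun x y => (hincl (x + y) (lft x + lft y) (by rw [map_add, hlft, hlft])).trans (Subtype.ext (by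
          show Ideal.Quotient.mk _ (T ^ (j + 1) * (lft x + lft y)) = Ideal.Quotient.mk _ _ + Ideal.Quotient.mk _ _
          rw [mul_add, map_add])) }
    let X : Exal.Ext k B₀ B₀ :=
      { E := S
        proj := proj
        incl := inclHom
        isExtension :=
          { proj_surjective := fun x => by
              obtain ⟨b, hb⟩ := Ideal.Quotient.mk_surjective (σ x)
              refine ⟨⟨Ideal.Quotient.mk _ b, (Subalgebra.mem_comap _ _ _).2 ⟨x, hb.symm⟩⟩, ?_⟩
              exact hσ x b hb.symm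
            incl_injective := fun x y hxy => by
              have h1 := Ideal.Quotient.eq.1 (congrArg Subtype.val hxy)
              rw [← mul_sub, pow_succ T (j + 1)] at h1
              obtain ⟨c, hc⟩ := Ideal.mem_span_singleton'.1 h1
              have h3 : ∀ i : ℕ, ∀ z, T ^ i * z = 0 → z = 0 := fun i => by
                induction i with
                | zero => intro z hz; simpa using hz
                | succ i ih => intro z hz; exact hT z (ih _ (by rw [← mul_assoc, ← pow_succ]; exact hz))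
              have h4 : lft x - lft y = T * c := by
                rw [← sub_eq_zero]
                refine h3 (j + 1) _ ?_
                linear_combination (-1 : B) * hc
              have h5 : p (lft x - lft y) = 0 := (hker _).2 ⟨c, h4⟩
              rwa [map_sub, hlft, hlft, sub_eq_zero] at h5
            exact := fun e => by
              obtain ⟨z, hz⟩ := e
              obtain ⟨b, rfl⟩ := Ideal.Quotient.mk_surjective z
              obtain ⟨x, hx⟩ := (Subalgebra.mem_comap _ _ _).1 hz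
              constructor
              · intro h0
                change p b = 0 at h0
                have hx0 : x = 0 := (hσ x b hx).symm.trans h0
                rw [hx0, map_zero] at hx
                have h1 : b ∈ Ideal.span {T ^ (j + 1)} := Ideal.Quotient.eq_zero_iff_mem.1 hx.symm
                obtain ⟨c, hc⟩ := Ideal.mem_span_singleton'.1 h1
                refine ⟨p c, (hincl (p c) c rfl).trans (Subtype.ext ?_)⟩
                show Ideal.Quotient.mk _ (T ^ (j + 1) * c) = _
                rw [mul_comm, hc]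
              · rintro ⟨y, hy⟩
                have h1 := congrArg (fun e : S => pQ (e : Q)) hy
                refine h1.symm.trans ?_
                show p (T ^ (j + 1) * lft y) = 0
                rw [map_mul, map_pow, (hker T).2 ⟨1, (mul_one T).symm⟩, zero_pow (Nat.succ_ne_zero _), zero_mul]
            mul_incl := fun e y => by
              obtain ⟨z, hz⟩ := e
              obtain ⟨b, rfl⟩ := Ideal.Quotient.mk_surjective z
              refine Eq.trans (Subtype.ext ?_) (hincl (p b • y) (b * lft y) (by rw [map_mul, hlft, smul_eq_mul])).symm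
              show Ideal.Quotient.mk _ b * Ideal.Quotient.mk _ (T ^ (j + 1) * lft y) = Ideal.Quotient.mk _ _
              rw [← map_mul]
              congr 1
              ring } }
    obtain ⟨e, -⟩ := exists_equiv_exalcom (M := B₀) (CotT.canon k B₀)
    have h0 : X.cl = (Exal.Ext.trivial k B₀ B₀).cl := e.injective (Subsingleton.elim _ _)
    obtain ⟨eq⟩ := Quotient.exact h0
    obtain ⟨sec, hsec⟩ : (Exal.Ext.trivial k B₀ B₀).IsTrivial := by
      letI : Module B₀ᵐᵒᵖ B₀ := Exal.opModule B₀ B₀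
      haveI : IsCentralScalar B₀ B₀ := Exal.isCentralScalar_opModule B₀ B₀
      exact ⟨{ toRingHom := (TrivSqZeroExt.inlHom B₀ B₀ : B₀ →+* TrivSqZeroExt B₀ B₀)
               commutes' := fun _ => rfl }, fun _ => rfl⟩
    refine ⟨S.val.comp (eq.toAlgEquiv.symm.toAlgHom.comp sec), fun x b hxb => ?_⟩
    have h1 : X.proj (eq.toAlgEquiv.symm (sec x)) = x := (eq.symm.proj_apply _).trans (hsec x)
    refine Eq.trans ?_ h1
    show pQ (Ideal.Quotient.mk _ b) = pQ ((eq.toAlgEquiv.symm (sec x) : S) : Q)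
    exact congrArg pQ hxb.symm

/-- A rigid singular algebra has no smoothing over a curve. -/
theorem exists_not_mem_smoothLocus {k B₀ A B : Type u} [Field k] [IsAlgClosed k] [CommRing B₀] [Algebra k B₀]
    [Algebra.FiniteType k B₀] (hsing : ¬ Algebra.Smooth k B₀) (hrigid : Subsingleton (CotT.T1 (CotT.canon k B₀) B₀))
    [CommRing A] [CommRing B] [IsDomain A] [Algebra k A] [Algebra.FiniteType k A]
    (t : A) (ht0 : t ≠ 0) (ht : (Ideal.span {t}).IsMaximal)
    [Algebra A B] [Algebra.FiniteType A B] [Module.Flat A B] [Algebra k B] [IsScalarTower k A B]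
    (e : (B ⧸ Ideal.span {algebraMap A B t}) ≃ₐ[k] B₀) :
    ∃ q : PrimeSpectrum B, algebraMap A B t ∉ q.asIdeal ∧ q ∉ Algebra.smoothLocus A B := by
  by_contra hcon
  push_neg at hcon
  apply hsing
  haveI : IsNoetherianRing A := Algebra.FiniteType.isNoetherianRing k A
  haveI : Algebra.FinitePresentation k B₀ := Algebra.FinitePresentation.of_finiteType.1 inferInstance
  suffices h : Algebra.FormallySmooth k B₀ from ⟨h, inferInstance⟩
  obtain ⟨n, f, hf⟩ := Algebra.FiniteType.iff_quotient_mvPolynomial''.1 ‹Algebra.FiniteType A B›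
  obtain ⟨N, s, hs⟩ := exists_splitting_pow f hf (algebraMap A B t) fun q hq => hcon q hq
  set T := algebraMap A B t with hTdef
  have hT : ∀ c, T * c = 0 → c = 0 := fun c hc => by
    rw [hTdef, ← Algebra.smul_def] at hc
    exact (smul_eq_zero.1 hc).resolve_left ht0
  let p : B →ₐ[k] B₀ := e.toAlgHom.comp (Ideal.Quotient.mkₐ k _)
  have hp : Function.Surjective p := e.surjective.comp Ideal.Quotient.mk_surjective
  have hker : ∀ b, p b = 0 ↔ ∃ c, b = T * c := fun b => by
    show e (Ideal.Quotient.mk _ b) = 0 ↔ _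
    rw [EmbeddingLike.map_eq_zero_iff, Ideal.Quotient.eq_zero_iff_mem, Ideal.mem_span_singleton']
    exact ⟨fun ⟨c, hc⟩ => ⟨c, by rw [← hc, mul_comm]⟩, fun ⟨c, hc⟩ => ⟨c, by rw [hc, mul_comm]⟩⟩
  obtain ⟨σ, hσ⟩ := exists_section_of_rigid hrigid T hT p hp hker N
  -- the residue field of the point is `k`
  haveI := ht
  letI : Field (A ⧸ Ideal.span {t}) := Ideal.Quotient.field _
  haveI : Module.Finite k (A ⧸ Ideal.span {t}) := finite_of_finite_type_of_isJacobsonRing k _
  have hres : ∀ a : A, ∃ (c : k) (a' : A), a = algebraMap k A c + t * a' := fun a => by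
    obtain ⟨c, hc⟩ := (IsAlgClosed.algebraMap_bijective_of_isIntegral (k := k) (K := A ⧸ Ideal.span {t})).2
      (Ideal.Quotient.mk _ a)
    have h1 : a - algebraMap k A c ∈ Ideal.span {t} := by
      rw [← Ideal.Quotient.eq_zero_iff_mem, map_sub, ← hc, sub_eq_zero]
      rfl
    obtain ⟨a', ha'⟩ := Ideal.mem_span_singleton'.1 h1
    exact ⟨c, a', by rw [mul_comm, ha']; ring⟩
  let R := A ⧸ Ideal.span {t ^ (N + 1)}
  let ν : R := Ideal.Quotient.mk _ (t ^ N)
  have hν : ν ≠ 0 := fun h0 => by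
    obtain ⟨c, hc⟩ := Ideal.mem_span_singleton'.1 (Ideal.Quotient.eq_zero_iff_mem.1 h0)
    have h1 : c * t = 1 := by
      refine mul_right_cancel₀ (pow_ne_zero N ht0) ?_
      rw [one_mul, mul_assoc, ← pow_succ']
      exact hc
    exact ht.ne_top (Ideal.eq_top_of_isUnit_mem _ (Ideal.mem_span_singleton_self t) (IsUnit.of_mul_eq_one_right c h1))
  obtain ⟨lam₀, hlam₀⟩ := Module.Projective.exists_dual_ne_zero k hν
  refine formallySmooth_of_delta ν ((lam₀ ν)⁻¹ • lam₀) (by simp [hlam₀]) fun E₀ _ _ p₀ hp₀ hsq₀ => ?_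
  let Q := B ⧸ Ideal.span {T ^ (N + 1)}
  let ρ : R →ₐ[k] Q := Ideal.quotientMapₐ _ (IsScalarTower.toAlgHom k A B) (by
    rw [Ideal.span_singleton_le_iff_mem, Ideal.mem_comap]
    show algebraMap A B (t ^ (N + 1)) ∈ _
    rw [map_pow]
    exact Ideal.mem_span_singleton_self _)
  have hρ : ∀ a, ρ (Ideal.Quotient.mk _ a) = Ideal.Quotient.mk _ (algebraMap A B a) := fun a => rfl
  let θ : B₀ ⊗[k] R →ₐ[k] Q := Algebra.TensorProduct.lift σ ρ fun _ _ => Commute.all _ _
  have hθ : ∀ x a, θ (x ⊗ₜ Ideal.Quotient.mk _ a) = σ x * Ideal.Quotient.mk _ (algebraMap A B a) := fun x a => rfl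
  let τ : B₀ ⊗[k] R := 1 ⊗ₜ Ideal.Quotient.mk _ t
  have hθτ : θ τ = Ideal.Quotient.mk _ T := by
    rw [hθ, map_one, one_mul]
  have hdec : ∀ z : B₀ ⊗[k] R, ∃ x z', z = x ⊗ₜ 1 + τ * z' := fun z => by
    induction z with
    | zero => exact ⟨0, 0, by rw [TensorProduct.zero_tmul, mul_zero, add_zero]⟩
    | tmul x r =>
      obtain ⟨a, rfl⟩ := Ideal.Quotient.mk_surjective r
      obtain ⟨c, a', rfl⟩ := hres a
      refine ⟨c • x, x ⊗ₜ Ideal.Quotient.mk _ a', ?_⟩
      rw [Algebra.TensorProduct.tmul_mul_tmul, one_mul, ← map_mul, TensorProduct.smul_tmul, ← TensorProduct.tmul_add,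
        map_add]
      congr 2
      rw [← Algebra.algebraMap_eq_smul_one]
      rfl
    | add y z hy hz =>
      obtain ⟨a, a', rfl⟩ := hy
      obtain ⟨b, b', rfl⟩ := hz
      exact ⟨a + b, a' + b', by rw [TensorProduct.add_tmul]; ring⟩
  have hτ0 : τ ^ (N + 1) = 0 := by
    rw [Algebra.TensorProduct.tmul_pow, one_pow, ← map_pow,
      Ideal.Quotient.eq_zero_iff_mem.2 (Ideal.mem_span_singleton_self _), TensorProduct.tmul_zero]
  have hsurj : Function.Surjective θ := by
    have key : ∀ j : ℕ, ∀ q : Q, ∃ z w, q = θ z + Ideal.Quotient.mk _ T ^ j * w := by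
      intro j
      induction j with
      | zero => exact fun q => ⟨0, q, by rw [map_zero, zero_add, pow_zero, one_mul]⟩
      | succ j ih =>
        intro q
        obtain ⟨z, w, rfl⟩ := ih q
        obtain ⟨b, rfl⟩ := Ideal.Quotient.mk_surjective w
        obtain ⟨b', hb'⟩ := Ideal.Quotient.mk_surjective (σ (p b))
        obtain ⟨c, hc⟩ := (hker (b - b')).1 (by rw [map_sub, hσ _ b' hb'.symm, sub_self])
        refine ⟨z + τ ^ j * (p b ⊗ₜ 1), Ideal.Quotient.mk _ c, ?_⟩
        rw [map_add, map_mul, map_pow, hθτ, ← map_one (Ideal.Quotient.mk (Ideal.span {t ^ (N + 1)})), hθ, ← hb',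
          map_one, map_one, mul_one, eq_add_of_sub_eq hc, map_add, map_mul]
        ring
    intro q
    obtain ⟨z, w, rfl⟩ := key (N + 1) q
    refine ⟨z, ?_⟩
    have hT0 : Ideal.Quotient.mk (Ideal.span {T ^ (N + 1)}) T ^ (N + 1) = 0 :=
      (map_pow _ _ _).symm.trans (Ideal.Quotient.eq_zero_iff_mem.2 (Ideal.mem_span_singleton_self _))
    rw [hT0, zero_mul, add_zero]
  have hinj : Function.Injective θ := by
    refine (injective_iff_map_eq_zero _).2 fun z hz => ?_
    have key : ∀ j : ℕ, j ≤ N + 1 → ∃ z', z = τ ^ j * z' := by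
      intro j
      induction j with
      | zero => exact fun _ => ⟨z, by rw [pow_zero, one_mul]⟩
      | succ j ih =>
        intro hj
        obtain ⟨z', hz'⟩ := ih (Nat.le_of_succ_le hj)
        obtain ⟨x, z'', rfl⟩ := hdec z'
        obtain ⟨b, hb⟩ := Ideal.Quotient.mk_surjective (σ x)
        obtain ⟨c, hc⟩ := Ideal.Quotient.mk_surjective (θ z'')
        have h1 : Ideal.Quotient.mk (Ideal.span {T ^ (N + 1)}) (T ^ j * (b + T * c)) = 0 := by
          rw [← hz, hz']
          have h0 : θ (x ⊗ₜ 1) = σ x := by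
            rw [← map_one (Ideal.Quotient.mk (Ideal.span {t ^ (N + 1)})), hθ, map_one, map_one, mul_one]
          simp only [map_mul, map_pow, map_add, hθτ, hb, hc, h0]
        obtain ⟨d, hd⟩ := Ideal.mem_span_singleton'.1 (Ideal.Quotient.eq_zero_iff_mem.1 h1)
        obtain ⟨i, hi⟩ := Nat.le.dest hj
        have h3 : ∀ i : ℕ, ∀ w, T ^ i * w = 0 → w = 0 := fun i => by
          induction i with
          | zero => intro w hw; simpa using hw
          | succ i ih => intro w hw; exact hT w (ih _ (by rw [← mul_assoc, ← pow_succ]; exact hw))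
        have h4 : b + T * c - T * (T ^ i * d) = 0 := h3 j _ (by
          rw [← hi] at hd
          linear_combination (-1 : B) * hd)
        have hx : x = 0 := (hσ x b hb.symm).symm.trans ((hker b).2 ⟨T ^ i * d - c, by linear_combination h4⟩)
        exact ⟨z'', by rw [hz', hx, TensorProduct.zero_tmul, zero_add, pow_succ τ j, mul_assoc]⟩
    obtain ⟨z', hz'⟩ := key (N + 1) le_rfl
    rw [hz', hτ0, zero_mul]
  let θe : (B₀ ⊗[k] R) ≃ₐ[k] Q := AlgEquiv.ofBijective θ ⟨hinj, hsurj⟩
  letI : Algebra A (E₀ ⊗[k] R) :=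
    ((Algebra.TensorProduct.includeRight : R →ₐ[k] E₀ ⊗[k] R).toRingHom.comp (Ideal.Quotient.mk _)).toAlgebra
  let π : E₀ ⊗[k] R →ₐ[A] Q :=
    { toRingHom := (θ.comp (Algebra.TensorProduct.map p₀ (AlgHom.id k R))).toRingHom
      commutes' := fun a => by
        show θ (Algebra.TensorProduct.map p₀ (AlgHom.id k R) ((1 : E₀) ⊗ₜ Ideal.Quotient.mk _ a)) = _
        rw [Algebra.TensorProduct.map_tmul, map_one, AlgHom.id_apply, hθ, map_one, one_mul]
        rfl }
  have hmap : Function.Surjective (Algebra.TensorProduct.map p₀ (AlgHom.id k R)) :=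
    Algebra.TensorProduct.map_surjective _ _ hp₀ fun r => ⟨r, rfl⟩
  have hsqπ : ∀ x y, π x = 0 → π y = 0 → x * y = 0 := by
    intro x y hx hy
    have hk := Algebra.TensorProduct.map_ker p₀ (AlgHom.id k R) hp₀ fun r => ⟨r, rfl⟩
    have hx' : x ∈ RingHom.ker (Algebra.TensorProduct.map p₀ (AlgHom.id k R)) := hinj (hx.trans (map_zero θ).symm)
    have hy' : y ∈ RingHom.ker (Algebra.TensorProduct.map p₀ (AlgHom.id k R)) := hinj (hy.trans (map_zero θ).symm)
    rw [hk, show RingHom.ker (AlgHom.id k R) = ⊥ from (RingHom.injective_iff_ker_eq_bot _).1 fun _ _ h => h,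
      Ideal.map_bot, sup_bot_eq] at hx' hy'
    have h2 : (RingHom.ker p₀).map (Algebra.TensorProduct.includeLeft : E₀ →ₐ[k] E₀ ⊗[k] R) *
        (RingHom.ker p₀).map (Algebra.TensorProduct.includeLeft : E₀ →ₐ[k] E₀ ⊗[k] R) = ⊥ := by
      rw [← Ideal.map_mul, show RingHom.ker p₀ * RingHom.ker p₀ = ⊥ from eq_bot_iff.2 (Ideal.mul_le.2 fun a ha b hb =>
        (Submodule.mem_bot _).2 (hsq₀ a b ha hb)), Ideal.map_bot]
    have h3 := Ideal.mul_mem_mul hx' hy'
    rw [h2] at h3
    exact (Submodule.mem_bot _).1 h3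
  obtain ⟨δ, hδπ, hδadd, hδmul, hδA, hδt⟩ := exists_delta f hf t N s hs (Ideal.Quotient.mkₐ A _)
    Ideal.Quotient.mk_surjective (m := N + 1)
    (fun b hb => by
      obtain ⟨c, hc⟩ := Ideal.mem_span_singleton'.1 (Ideal.Quotient.eq_zero_iff_mem.1 hb)
      exact ⟨c, by rw [← hc, mul_comm]⟩)
    (by
      rw [← map_pow]
      show (1 : E₀) ⊗ₜ[k] Ideal.Quotient.mk _ (t ^ (N + 1)) = 0
      rw [Ideal.Quotient.eq_zero_iff_mem.2 (Ideal.mem_span_singleton_self _), TensorProduct.tmul_zero])
    π (hsurj.comp hmap) hsqπ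
  refine ⟨δ, fun x => hinj ((hδπ x).trans (map_zero θ).symm), hδadd, hδmul, fun c => ?_, fun e he => ?_⟩
  · rw [← hδA (algebraMap k A c)]
    refine congrArg δ ?_
    show _ = (Algebra.TensorProduct.includeRight : R →ₐ[k] E₀ ⊗[k] R) (algebraMap k R c)
    rw [AlgHom.commutes]
  · rw [hδt _ (by
      show θ (Algebra.TensorProduct.map p₀ (AlgHom.id k R) (e ⊗ₜ 1)) = 0
      rw [Algebra.TensorProduct.map_tmul, he, TensorProduct.zero_tmul, map_zero]), ← map_pow]
    show ((1 : E₀) ⊗ₜ[k] ν) * (e ⊗ₜ[k] (1 : R)) = _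
    rw [Algebra.TensorProduct.tmul_mul_tmul, one_mul, mul_one]

end Groth.Agent.Lib.CotTwo.NoSmooth
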