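import Groth.Agent.Lib.CotTwo.LciH1
import Groth.Agent.Lib.CotTwo.ExtOne
import Groth.Agent.Lib.CotTwo.NoSmoothing

/-!
# `T¹` of a generically smooth flat local complete intersection commutes with base change
-/

noncomputable section

universe u

open TensorProduct

namespace Groth.Agent.Lib.CotTwo.LciBC

variable (A : Type u) [CommRing A] [IsNoetherianRing A] (P : Type u) [CommRing P] [Algebra A P] [Module.Flat A P]

/-- The conormal sequence of a generically smooth flat lci stays exact modulo an ideal of the base. -/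
theorem injective_baseChange_cotangentComplex (hlci : LCI.IsLCI A P)
    (hgs : ∀ 𝔓 : PrimeSpectrum P,
      (∀ 𝔔 : PrimeSpectrum P, 𝔔 ≤ 𝔓 →
          𝔔.asIdeal.comap (algebraMap A P) = 𝔓.asIdeal.comap (algebraMap A P) → 𝔔 = 𝔓) →
        𝔓 ∈ Algebra.smoothLocus A P)
    (J : Ideal A) {n : ℕ} (f : MvPolynomial (Fin n) A →ₐ[A] P) (hf : Function.Surjective f)
    [Module.Finite P (Algebra.Extension.ofSurjective f hf).Cotangent]
    [Module.Projective P (Algebra.Extension.ofSurjective f hf).Cotangent] :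
    Function.Injective ((Algebra.Extension.ofSurjective f hf).cotangentComplex.baseChange (P ⧸ J.map (algebraMap A P))) := by
  classical
  haveI : IsNoetherianRing P := by
    haveI := hlci.1
    exact Algebra.FiniteType.isNoetherianRing A P
  haveI : Algebra.FinitePresentation A P := Algebra.FinitePresentation.of_finiteType.1 hlci.1
  let E := Algebra.Extension.ofSurjective f hf
  let P' := P ⧸ J.map (algebraMap A P)
  obtain ⟨i, hi⟩ := Module.projective_def.1 (inferInstance : Module.Projective P' (P' ⊗[P] E.Cotangent))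
  refine (injective_iff_map_eq_zero _).2 fun x hx => hi.injective ?_
  refine (Finsupp.ext fun j => ?_).trans (map_zero i).symm
  rw [Finsupp.zero_apply]
  refine Groth.Agent.H52.Ass.OneStep.eq_zero_of_forall_ass (A := P) (M := P') fun Q hQ => ?_
  haveI := hQ.1
  have hQ' : Q ∈ associatedPrimes P (P ⊗[A] (A ⧸ J)) := by
    rw [← LinearEquiv.AssociatedPrimes.eq (Algebra.TensorProduct.quotIdealMapEquivTensorQuot P J).toLinearEquiv]
    exact hQ
  have hsm : (⟨Q, hQ.1⟩ : PrimeSpectrum P) ∈ Algebra.smoothLocus A P := hgs ⟨Q, hQ.1⟩ fun 𝔔 h1 h2 =>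
    PrimeSpectrum.ext (LciH1.eq_of_le_of_mem_associatedPrimes_tensor A P hlci (A ⧸ J) hQ' h1 h2)
  obtain ⟨_, ⟨_, ⟨t, rfl⟩, rfl⟩, htQ, hts⟩ := PrimeSpectrum.isBasis_basic_opens.exists_subset_of_mem_open hsm
    Algebra.isOpen_smoothLocus
  obtain ⟨N, s, hs⟩ := NoSmooth.exists_splitting_pow f hf t hts
  refine ⟨t ^ N, fun h => (PrimeSpectrum.mem_basicOpen _ _).1 htQ (hQ.1.mem_of_pow_mem N h), ?_⟩
  have h1 : ∀ y, s.baseChange P' (E.cotangentComplex.baseChange P' y) = t ^ N • y := fun y => by
    induction y with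
    | zero => simp only [map_zero, smul_zero]
    | tmul a c => rw [LinearMap.baseChange_tmul, LinearMap.baseChange_tmul, hs, TensorProduct.tmul_smul]
    | add a b ha hb => simp only [map_add, smul_add, ha, hb]
  have h2 : t ^ N • x = 0 := by rw [← h1, hx, map_zero]
  rw [← Finsupp.smul_apply, ← LinearMap.map_smul_of_tower, h2, map_zero, Finsupp.zero_apply]

/-- `T¹` commutes with base change along closed embeddings. -/
theorem nonempty_baseChange_ext_equiv (hlci : LCI.IsLCI A P)
    (hgs : ∀ 𝔓 : PrimeSpectrum P,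
      (∀ 𝔔 : PrimeSpectrum P, 𝔔 ≤ 𝔓 →
          𝔔.asIdeal.comap (algebraMap A P) = 𝔓.asIdeal.comap (algebraMap A P) → 𝔔 = 𝔓) →
        𝔓 ∈ Algebra.smoothLocus A P)
    (J : Ideal A) :
    Nonempty
      ((P ⧸ J.map (algebraMap A P)) ⊗[P]
          CategoryTheory.Abelian.Ext.{u} (ModuleCat.of P (KaehlerDifferential A P)) (ModuleCat.of P P) 1 ≃ₗ[P ⧸ J.map (algebraMap A P)]
        CategoryTheory.Abelian.Ext.{u}
          (ModuleCat.of (P ⧸ J.map (algebraMap A P)) (KaehlerDifferential A (P ⧸ J.map (algebraMap A P))))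
          (ModuleCat.of (P ⧸ J.map (algebraMap A P)) (P ⧸ J.map (algebraMap A P))) 1) := by
  classical
  obtain ⟨hft, n, f, hf, hJ⟩ := id hlci
  let E := Algebra.Extension.ofSurjective f hf
  let P' := P ⧸ J.map (algebraMap A P)
  obtain ⟨hfin, hproj⟩ := Groth.Agent.H54.NLPerfect.finite_projective_cotangent (P := E) hJ
  haveI : Algebra.FormallySmooth A E.Ring := (inferInstance : Algebra.FormallySmooth A (MvPolynomial (Fin n) A))
  haveI := LciH1.subsingleton_h1Cotangent A P hlci hgs
  haveI : Subsingleton E.H1Cotangent := E.equivH1CotangentOfFormallySmooth.toEquiv.subsingleton_congr.2 inferInstance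
  haveI : Module.Projective P E.CotangentSpace := inferInstance
  let d := E.cotangentComplex
  obtain ⟨e₁⟩ := nonempty_coker_equiv_ext_one (M := P) d E.toKaehler
    (E.subsingleton_h1Cotangent.1 inferInstance) E.exact_cotangentComplex_toKaehler E.toKaehler_surjective
  let d' := d.baseChange P'
  have hsurjP : Function.Surjective (algebraMap P P') := Ideal.Quotient.mk_surjective
  let μ : P' ⊗[P] Ω[P⁄A] →ₗ[P'] Ω[P'⁄A] := KaehlerDifferential.mapBaseChange A P P'
  have hμ : Function.Injective μ := by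
    rw [← LinearMap.ker_eq_bot, eq_bot_iff]
    intro z hz
    obtain ⟨x, rfl⟩ := (KaehlerDifferential.exact_kerCotangentToTensor_mapBaseChange A P P' hsurjP z).1 hz
    obtain ⟨⟨x, hx⟩, rfl⟩ := Ideal.toCotangent_surjective _ x
    rw [KaehlerDifferential.kerCotangentToTensor_toCotangent, Submodule.mem_bot]
    have hx' : x ∈ J.map (algebraMap A P) := Ideal.Quotient.eq_zero_iff_mem.1 hx
    show (1 : P') ⊗ₜ[P] KaehlerDifferential.D A P x = 0
    clear hx hz
    rw [Ideal.map] at hx'
    induction hx' using Submodule.span_induction with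
    | mem y hy =>
      obtain ⟨a, ha, rfl⟩ := hy
      rw [Derivation.map_algebraMap, TensorProduct.tmul_zero]
    | zero => rw [map_zero, TensorProduct.tmul_zero]
    | add y z _ _ hy hz => rw [map_add, TensorProduct.tmul_add, hy, hz, add_zero]
    | smul r y hy' hy =>
      rw [smul_eq_mul, Derivation.leibniz, TensorProduct.tmul_add, TensorProduct.tmul_smul, hy, smul_zero, zero_add,
        ← TensorProduct.smul_tmul, Algebra.smul_def, mul_one, show algebraMap P P' y = 0 from
          Ideal.Quotient.eq_zero_iff_mem.2 hy', TensorProduct.zero_tmul]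
  let π' : P' ⊗[P] E.CotangentSpace →ₗ[P'] Ω[P'⁄A] := μ ∘ₗ E.toKaehler.baseChange P'
  have hex : Function.Exact d' π' := fun y => by
    show μ (E.toKaehler.baseChange P' y) = 0 ↔ _
    rw [← map_zero μ, hμ.eq_iff]
    exact lTensor_exact P' E.exact_cotangentComplex_toKaehler E.toKaehler_surjective y
  have hπ' : Function.Surjective π' := (KaehlerDifferential.mapBaseChange_surjective A P P' hsurjP).comp
    (LinearMap.lTensor_surjective P' E.toKaehler_surjective)
  obtain ⟨e₂⟩ := nonempty_coker_equiv_ext_one (M := P') d' π'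
    (injective_baseChange_cotangentComplex A P hlci hgs J f hf) hex hπ'
  -- the dual commutes with base change
  let q : P →ₗ[P] P' := Algebra.linearMap P P'
  let Ψ : (E.Cotangent →ₗ[P] P) →ₗ[P] ((P' ⊗[P] E.Cotangent) →ₗ[P'] P') :=
    { toFun := fun φ => (q ∘ₗ φ).liftBaseChange P'
      map_add' := fun φ φ' => TensorProduct.AlgebraTensorModule.ext fun a c => by
        simp [LinearMap.add_apply, mul_add, q]
      map_smul' := fun r φ => TensorProduct.AlgebraTensorModule.ext fun a c => by
        simp [LinearMap.smul_apply, q, Algebra.smul_def, mul_left_comm] }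
  have hΨ : ∀ φ a c, Ψ φ (a ⊗ₜ c) = a * q (φ c) := fun φ a c => rfl
  let W := (E.Cotangent →ₗ[P] P) ⧸ LinearMap.range (LinearMap.lcomp P P d)
  let W' := ((P' ⊗[P] E.Cotangent) →ₗ[P'] P') ⧸ LinearMap.range (LinearMap.lcomp P' P' d')
  let θ : W →ₗ[P] W' := Submodule.liftQ _
    ((Submodule.mkQ (LinearMap.range (LinearMap.lcomp P' P' d'))).restrictScalars P ∘ₗ Ψ) fun φ hφ => by
      obtain ⟨ψ, rfl⟩ := hφ
      rw [LinearMap.mem_ker]
      refine (Submodule.Quotient.mk_eq_zero _).2 ⟨(q ∘ₗ ψ).liftBaseChange P', ?_⟩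
      refine TensorProduct.AlgebraTensorModule.ext fun a c => ?_
      rw [LinearMap.lcomp_apply, LinearMap.baseChange_tmul, hΨ]
      rfl
  let Θ : P' ⊗[P] W →ₗ[P'] W' := θ.liftBaseChange P'
  have hΘ : Function.Bijective Θ := by
    obtain ⟨m, g, i, -, -, hgi⟩ := Module.Finite.exists_comp_eq_id_of_projective P E.Cotangent
    constructor
    · refine (injective_iff_map_eq_zero _).2 fun z hz => ?_
      obtain ⟨w, rfl⟩ := TensorProduct.mk_surjective P W P' hsurjP z
      obtain ⟨φ, rfl⟩ := Submodule.Quotient.mk_surjective _ w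
      rw [TensorProduct.mk_apply] at hz ⊢
      rw [LinearMap.liftBaseChange_tmul, one_smul] at hz
      change Submodule.Quotient.mk (Ψ φ) = 0 at hz
      obtain ⟨ψ', hψ'⟩ := (Submodule.Quotient.mk_eq_zero _).1 hz
      obtain ⟨ψ, hψ⟩ := Module.projective_lifting_property q
        (ψ'.restrictScalars P ∘ₗ TensorProduct.mk P P' E.CotangentSpace 1) hsurjP
      let χ := φ - ψ ∘ₗ d
      have hχ : ∀ c, q (χ c) = 0 := fun c => by
        have h1 := LinearMap.congr_fun hψ' ((1 : P') ⊗ₜ c)
        rw [hΨ, one_mul, LinearMap.lcomp_apply, LinearMap.baseChange_tmul] at h1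
        have h2 := LinearMap.congr_fun hψ (d c)
        simp only [LinearMap.comp_apply, LinearMap.restrictScalars_apply, TensorProduct.mk_apply] at h2
        simp only [χ, LinearMap.sub_apply, LinearMap.comp_apply, map_sub]
        rw [h2, h1, sub_self]
      have h3 : χ = ∑ j, χ (g (Pi.single j 1)) • (LinearMap.proj j ∘ₗ i) := LinearMap.ext fun c => by
        conv_lhs => rw [show c = g (i c) from (LinearMap.congr_fun hgi c).symm, pi_eq_sum_univ' (i c)]
        simp [LinearMap.sum_apply, map_sum, mul_comm]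
      have h4 : (Submodule.Quotient.mk φ : W) = Submodule.Quotient.mk χ := by
        rw [Submodule.Quotient.eq]
        exact ⟨ψ, by simp [χ]; rfl⟩
      rw [h4, h3, ← Submodule.mkQ_apply, map_sum, TensorProduct.tmul_sum]
      refine Finset.sum_eq_zero fun j _ => ?_
      rw [map_smul, ← TensorProduct.smul_tmul, Algebra.smul_def, mul_one]
      exact (congrArg (· ⊗ₜ _) (hχ _)).trans (TensorProduct.zero_tmul _ _)
    · intro w'
      obtain ⟨φ', rfl⟩ := Submodule.Quotient.mk_surjective _ w'
      obtain ⟨φ, hφ⟩ := Module.projective_lifting_property q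
        (φ'.restrictScalars P ∘ₗ TensorProduct.mk P P' E.Cotangent 1) hsurjP
      refine ⟨(1 : P') ⊗ₜ Submodule.Quotient.mk φ, ?_⟩
      rw [LinearMap.liftBaseChange_tmul, one_smul]
      show Submodule.Quotient.mk (Ψ φ) = _
      refine congrArg _ (TensorProduct.AlgebraTensorModule.ext fun a c => ?_)
      rw [hΨ, show q (φ c) = φ' ((1 : P') ⊗ₜ c) from LinearMap.congr_fun hφ c, ← smul_eq_mul, ← map_smul,
        TensorProduct.smul_tmul', smul_eq_mul, mul_one]
  exact ⟨((LinearEquiv.baseChange P P' _ _ e₁).symm.trans (LinearEquiv.ofBijective Θ hΘ)).trans e₂⟩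

end Groth.Agent.Lib.CotTwo.LciBC
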