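import Groth.Agent.H22.AssTensor
import Groth.Agent.H25.CMUnmixed
import Groth.Agent.H52.Ass.OneStep
import Groth.Agent.H54.NLPerfect
import Groth.Agent.Lib.Goren.LCIFibre
import Groth.Agent.Lib.Goren.Basic
import Groth.Prelude.Def_LCI2

/-!
# `H₁` of the naive cotangent complex of a generically smooth local complete intersection
-/

noncomputable section

universe u

open TensorProduct

namespace Groth.Agent.Lib.CotTwo.LciH1

variable (A : Type u) [CommRing A] [IsNoetherianRing A] (P : Type u) [CommRing P] [Algebra A P] [Module.Flat A P]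

/-- The fibres of a flat local complete intersection are Cohen–Macaulay. -/
theorem isCohenMacaulayRing_fibre (hlci : LCI.IsLCI A P) (p : Ideal A) [p.IsPrime] :
    LocCoh.IsCohenMacaulayRing (p.Fiber P) := by
  have hG := Groth.Agent.Lib.Goren.LCIFibre.gorenstein_fibre hlci p
  haveI := hG
  refine { isCohenMacaulayLocalRing_localization := ?_ }
  intro q _
  haveI hGq := hG.isGorensteinLocalRing_localization q
  obtain ⟨n, hn⟩ := hGq.exists_hasInjectiveDimensionLT
  obtain ⟨d, -, -, h, -⟩ := Groth.Agent.Lib.Goren.Basic.exists_dim hn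
  exact h

/-- An associated prime of a fibre of a flat local complete intersection is minimal there. -/
theorem eq_of_le_of_mem_associatedPrimes_quot (hlci : LCI.IsLCI A P) [IsNoetherianRing P] {Q : Ideal P}
    (p : Ideal A) [p.IsPrime] (hQp : Q ∈ associatedPrimes P (P ⧸ p.map (algebraMap A P) • (⊤ : Submodule P P)))
    {Q' : Ideal P} [Q'.IsPrime] (hle : Q' ≤ Q)
    (hc : Q'.comap (algebraMap A P) = Q.comap (algebraMap A P)) : Q' = Q := by
  obtain ⟨hQprime, z, hz⟩ := isAssociatedPrime_iff.1 hQp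
  haveI := hQprime
  have hmem : ∀ g, g ∈ p.map (algebraMap A P) • (⊤ : Submodule P P) ↔ g ∈ p.map (algebraMap A P) := fun g => by
    rw [smul_eq_mul, Ideal.mul_top]
  obtain ⟨z, rfl⟩ := Submodule.Quotient.mk_surjective _ z
  have hann : ∀ g, g ∈ Q ↔ g * z ∈ p.map (algebraMap A P) := fun g => by
    rw [hz, Submodule.mem_colon_singleton, Submodule.mem_bot, ← Submodule.Quotient.mk_smul,
      Submodule.Quotient.mk_eq_zero, hmem, smul_eq_mul]
  have htf : ∀ (s : A) (g : P), s ∉ p → algebraMap A P s * g ∈ p.map (algebraMap A P) →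
      g ∈ p.map (algebraMap A P) := by
    intro s g hs hg
    have hinj : Function.Injective (LinearMap.lsmul A (A ⧸ p) s) := by
      refine (injective_iff_map_eq_zero _).2 fun x hx => ?_
      obtain ⟨a, rfl⟩ := Ideal.Quotient.mk_surjective x
      change s • Ideal.Quotient.mk p a = 0 at hx
      rw [Algebra.smul_def, Ideal.Quotient.algebraMap_eq, ← map_mul, Ideal.Quotient.eq_zero_iff_mem] at hx
      exact Ideal.Quotient.eq_zero_iff_mem.2 ((‹p.IsPrime›.mem_or_mem hx).resolve_left hs)
    have hinj' := Module.Flat.lTensor_preserves_injective_linearMap (M := P) _ hinj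
    let e := (Algebra.TensorProduct.quotIdealMapEquivTensorQuot P p)
    have key : ∀ x : P ⊗[A] (A ⧸ p), (LinearMap.lsmul A (A ⧸ p) s).lTensor P x = s • x := fun x => by
      induction x with
      | zero => simp only [map_zero, smul_zero]
      | tmul a b => rw [LinearMap.lTensor_tmul, LinearMap.lsmul_apply, TensorProduct.tmul_smul]
      | add a b ha hb => simp only [map_add, smul_add, ha, hb]
    rw [← Ideal.Quotient.eq_zero_iff_mem] at hg ⊢
    apply e.injective
    rw [map_zero]
    refine hinj' ?_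
    rw [map_zero, key, ← algebraMap_smul P s, ← map_smul, show algebraMap A P s • Ideal.Quotient.mk _ g =
      Ideal.Quotient.mk (p.map (algebraMap A P)) (algebraMap A P s * g) from rfl, hg, map_zero]
  have hQA : Q.comap (algebraMap A P) = p := by
    refine le_antisymm (fun s hs => ?_) fun s hs => (hann _).2 (Ideal.mul_mem_right _ _ (Ideal.mem_map_of_mem _ hs))
    by_contra h
    have h2 : z ∈ p.map (algebraMap A P) := htf s z h ((hann _).1 hs)
    exact hQprime.ne_top ((Ideal.eq_top_iff_one _).2 ((hann 1).2 (by rwa [one_mul])))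
  let F := p.Fiber P
  let ι : P →ₐ[A] F := Algebra.TensorProduct.includeRight
  have hι0 : ∀ g, ι g = 0 → g ∈ p.map (algebraMap A P) := by
    intro g hg
    let Pb := P ⧸ p.map (algebraMap A P)
    let L := Localization (Algebra.algebraMapSubmonoid Pb p.primeCompl)
    let φ : P →ₐ[A] L := (IsScalarTower.toAlgHom A Pb L).comp (Ideal.Quotient.mkₐ A _)
    let χ : p.ResidueField →ₐ[A] L := Ideal.ResidueField.liftₐ p (Algebra.ofId A L)
      (fun a ha => by
        show algebraMap A L a = 0
        rw [IsScalarTower.algebraMap_apply A Pb L, show algebraMap A Pb a = Ideal.Quotient.mk _ (algebraMap A P a) from rfl,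
          Ideal.Quotient.eq_zero_iff_mem.2 (Ideal.mem_map_of_mem _ ha), map_zero])
      (fun a ha => by
        show IsUnit (algebraMap A L a)
        rw [IsScalarTower.algebraMap_apply A Pb L]
        exact IsLocalization.map_units L (⟨_, Algebra.mem_algebraMapSubmonoid_of_mem ⟨a, ha⟩⟩ :
          Algebra.algebraMapSubmonoid Pb p.primeCompl))
    have h1 : φ g = 0 := by
      have h2 := congrArg (Algebra.TensorProduct.lift χ φ fun _ _ => Commute.all _ _) hg
      rw [map_zero, Algebra.TensorProduct.includeRight_apply, Algebra.TensorProduct.lift_tmul, map_one, one_mul] at h2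
      exact h2
    obtain ⟨⟨_, s, hs, rfl⟩, hc⟩ :=
      (IsLocalization.map_eq_zero_iff (Algebra.algebraMapSubmonoid Pb p.primeCompl) L _).1 h1
    exact htf s g hs (Ideal.Quotient.eq_zero_iff_mem.1 hc)
  have hι1 : ∀ g, g ∈ p.map (algebraMap A P) → ι g = 0 := by
    intro g hg
    refine RingHom.mem_ker.1 ((Ideal.map_le_iff_le_comap.2 fun a ha => ?_) hg : g ∈ RingHom.ker ι.toRingHom)
    show ι (algebraMap A P a) = 0
    rw [ι.commutes, IsScalarTower.algebraMap_apply A p.ResidueField F, Ideal.algebraMap_residueField_eq_zero.2 ha, map_zero]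
  haveI := isCohenMacaulayRing_fibre A P hlci p
  let e := PrimeSpectrum.preimageOrderIsoFiber A P ⟨p, inferInstance⟩
  let q : (PrimeSpectrum.comap (algebraMap A P) ⁻¹' {⟨p, inferInstance⟩} : Set (PrimeSpectrum P)) :=
    ⟨⟨Q, hQprime⟩, PrimeSpectrum.ext hQA⟩
  let q' : (PrimeSpectrum.comap (algebraMap A P) ⁻¹' {⟨p, inferInstance⟩} : Set (PrimeSpectrum P)) :=
    ⟨⟨Q', ‹_›⟩, PrimeSpectrum.ext (hc.trans hQA)⟩
  have hcomap : ∀ g, ι g ∈ (e q).asIdeal ↔ g ∈ Q := fun g =>
    SetLike.ext_iff.1 (congrArg (fun x => x.1.asIdeal) (e.symm_apply_apply q)) g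
  haveI : ((e q).asIdeal).IsPrime := (e q).2
  have hass : (e q).asIdeal ∈ associatedPrimes F F := by
    refine isAssociatedPrime_iff.2 ⟨(e q).2, ι z, Ideal.ext fun f => ?_⟩
    rw [Submodule.mem_colon_singleton, Submodule.mem_bot, smul_eq_mul]
    obtain ⟨r, hr, g, hg⟩ := Ideal.Fiber.exists_smul_eq_one_tmul p f
    have hu : IsUnit (algebraMap A F r) := by
      rw [IsScalarTower.algebraMap_apply A p.ResidueField F]
      exact (isUnit_iff_ne_zero.2 fun h => hr (Ideal.algebraMap_residueField_eq_zero.1 h)).map _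
    have hg' : algebraMap A F r * f = ι g := by rw [← Algebra.smul_def, hg]; rfl
    have h1 : f ∈ (e q).asIdeal ↔ g ∈ Q := by
      rw [← hcomap, ← hg', Ideal.unit_mul_mem_iff_mem _ hu]
    have h2 : f * ι z = 0 ↔ g * z ∈ p.map (algebraMap A P) := by
      rw [← hu.mul_right_eq_zero, ← mul_assoc, hg', ← map_mul]
      exact ⟨hι0 _, hι1 _⟩
    rw [h1, h2, hann]
  have hmin := Groth.Agent.H25.CMUnmixed.mem_minimalPrimes F hass
  have hle' : e q' ≤ e q := e.le_iff_le.2 hle
  have heq : e q' = e q := le_antisymm hle' (hmin.2 ⟨(e q').2, bot_le⟩ hle')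
  exact congrArg (fun x => x.1.asIdeal) (e.injective heq)

/-- An associated prime of `P ⊗ M` is minimal in its fibre. -/
theorem eq_of_le_of_mem_associatedPrimes_tensor (hlci : LCI.IsLCI A P) [IsNoetherianRing P] {Q : Ideal P}
    (M : Type u) [AddCommGroup M] [Module A M]
    (hQ : Q ∈ associatedPrimes P (P ⊗[A] M)) {Q' : Ideal P} [Q'.IsPrime] (hle : Q' ≤ Q)
    (hc : Q'.comap (algebraMap A P) = Q.comap (algebraMap A P)) : Q' = Q := by
  rw [Groth.Agent.H22.AssTensor.eq_iUnion (R := A) (S := P) P M] at hQ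
  obtain ⟨p, hp, hQp⟩ := Set.mem_iUnion₂.1 hQ
  haveI := hp.1
  exact eq_of_le_of_mem_associatedPrimes_quot A P hlci p hQp hle hc

/-- An associated prime of a flat local complete intersection is minimal in its fibre. -/
theorem eq_of_le_of_mem_associatedPrimes (hlci : LCI.IsLCI A P) [IsNoetherianRing P] {Q : Ideal P}
    (hQ : Q ∈ associatedPrimes P P) {Q' : Ideal P} [Q'.IsPrime] (hle : Q' ≤ Q)
    (hc : Q'.comap (algebraMap A P) = Q.comap (algebraMap A P)) : Q' = Q := by
  rw [← LinearEquiv.AssociatedPrimes.eq (TensorProduct.AlgebraTensorModule.rid A P P)] at hQ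
  exact eq_of_le_of_mem_associatedPrimes_tensor A P hlci A hQ hle hc

/-- A generically smooth flat local complete intersection has vanishing `H₁` of the naive cotangent complex. -/
theorem subsingleton_h1Cotangent (hlci : LCI.IsLCI A P)
    (hgs : ∀ 𝔓 : PrimeSpectrum P,
      (∀ 𝔔 : PrimeSpectrum P, 𝔔 ≤ 𝔓 →
          𝔔.asIdeal.comap (algebraMap A P) = 𝔓.asIdeal.comap (algebraMap A P) → 𝔔 = 𝔓) →
        𝔓 ∈ Algebra.smoothLocus A P) :
    Subsingleton (Algebra.H1Cotangent A P) := by
  classical
  obtain ⟨hft, n, f, hf, hJ⟩ := id hlci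
  haveI : IsNoetherianRing P := Algebra.FiniteType.isNoetherianRing A P
  let E := Algebra.Extension.ofSurjective f hf
  obtain ⟨hfin, hproj⟩ := Groth.Agent.H54.NLPerfect.finite_projective_cotangent (P := E) hJ
  haveI : Algebra.FormallySmooth A E.Ring := (inferInstance : Algebra.FormallySmooth A (MvPolynomial (Fin n) A))
  let e := E.equivH1CotangentOfFormallySmooth
  suffices h : ∀ c : E.H1Cotangent, c = 0 from e.symm.toEquiv.subsingleton_congr.2 ⟨fun a b => by rw [h a, h b]⟩
  intro c
  obtain ⟨i, hi⟩ := Module.projective_def.1 hproj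
  refine Subtype.ext (hi.injective ?_)
  refine (Finsupp.ext fun j => ?_).trans (map_zero i).symm
  rw [Finsupp.zero_apply]
  refine Groth.Agent.H52.Ass.OneStep.eq_zero_of_forall_ass (A := P) (M := P) fun Q hQ => ?_
  haveI := hQ.1
  haveI hsm : Algebra.IsSmoothAt A Q := hgs ⟨Q, hQ.1⟩ fun 𝔔 h1 h2 =>
    PrimeSpectrum.ext (eq_of_le_of_mem_associatedPrimes A P hlci hQ h1 h2)
  have h0 : Algebra.H1Cotangent.map A A P (Localization.AtPrime Q) (e c) = 0 := by
    haveI : Algebra.FormallySmooth A (Localization.AtPrime Q) := hsm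
    exact Subsingleton.elim _ _
  obtain ⟨⟨s, hs⟩, hsc⟩ := (IsLocalizedModule.eq_zero_iff Q.primeCompl _).1 h0
  refine ⟨s, hs, ?_⟩
  have h3 : s • c = 0 := e.injective (by rw [map_smul, map_zero]; exact hsc)
  have h4 : s • (c.1) = 0 := congrArg Subtype.val h3
  rw [← Finsupp.smul_apply, ← map_smul, h4, map_zero, Finsupp.zero_apply]

end Groth.Agent.Lib.CotTwo.LciH1
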