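import Groth.Agent.Lib.CotTwo.Triangle
import Groth.Agent.Lib.CotTwo.Snake
import Groth.Agent.Lib.CotTwo.Indep

/-!
# The nine-term sequence of a composite presentation
-/

noncomputable section

universe u

open TensorProduct CotT

namespace Groth.Agent.Lib.CotTwo

variable {A B C : Type u} [CommRing A] [CommRing B] [CommRing C] [Algebra A B] [Algebra B C] [Algebra A C]
  [IsScalarTower A B C] {ι σ κ τ : Type u}
variable (P : Algebra.Presentation A B ι σ) (Q : Algebra.Presentation B C κ τ)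

lemma h23_L0map_inl (k : κ) :
    (h23 P Q).L0map ((P3 P Q).cotangentSpaceBasis (Sum.inl k)) = Q.cotangentSpaceBasis k := by
  rw [basis_eq, basis_eq, L0map_one_tmul', h23_var_inl]

lemma h23_L0map_inr (i : ι) : (h23 P Q).L0map ((P3 P Q).cotangentSpaceBasis (Sum.inr i)) = 0 := by
  rw [basis_eq, L0map_one_tmul', h23_var_inr]
  have h : KaehlerDifferential.D B Q.toExtension.Ring (cst Q (P.val i)) = 0 :=
    Derivation.map_algebraMap _ _
  rw [h, TensorProduct.tmul_zero]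

lemma h13_L0map (i : ι) :
    (h13 P Q).L0map (P.cotangentSpaceBasis i) = (P3 P Q).cotangentSpaceBasis (Sum.inr i) := by
  rw [basis_eq, basis_eq, L0map_one_tmul', h13_var]

lemma h23_L1map_inl (r : τ) :
    (h23 P Q).L1map (L1basis (P3 P Q) (Sum.inl r)) = L1basis Q r := by
  rw [L1basis_apply, L1basis_apply, PresHom.L1map_tmul, map_one, PresHom.relModMap_single, map_one, one_smul]
  rfl

lemma h23_L1map_inr (s : σ) : (h23 P Q).L1map (L1basis (P3 P Q) (Sum.inr s)) = 0 := by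
  rw [L1basis_apply, PresHom.L1map_tmul, PresHom.relModMap_single, map_one]
  show (1 : C) ⊗ₜ[Q.toExtension.Ring] ((h23 P Q).ringHom 1 • (0 : relMod Q)) = 0
  rw [smul_zero, TensorProduct.tmul_zero]

lemma h13_L1map (s : σ) :
    (h13 P Q).L1map (L1basis P s) = L1basis (P3 P Q) (Sum.inr s) := by
  rw [L1basis_apply, L1basis_apply, PresHom.L1map_tmul, map_one, h13_relModMap_single]

lemma h23_relModMap_h13 (f : relMod P) : (h23 P Q).relModMap ((h13 P Q).relModMap f) = 0 := by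
  refine Finsupp.ext fun r => ?_
  rw [h23_relModMap_apply, h13_relModMap,
    Finsupp.mapDomain_of_notMem_range _ _ (by rintro ⟨s, hs⟩; exact Sum.inr_ne_inl hs), map_zero, Finsupp.zero_apply]

lemma h23_L2map_h13 (z : L2 P) : (h23 P Q).L2map ((h13 P Q).L2map z) = 0 := by
  obtain ⟨y, rfl⟩ := Submodule.Quotient.mk_surjective _ z
  obtain ⟨q, rfl⟩ := exists_one_tmul P y
  rw [PresHom.L2map_mk_tmul, map_one, PresHom.L2map_mk_tmul, map_one]
  have h : (h23 P Q).relKerMap ((h13 P Q).relKerMap q) = 0 := Subtype.ext (h23_relModMap_h13 P Q q)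
  rw [h, TensorProduct.tmul_zero, Submodule.Quotient.mk_zero]

lemma h23_L2map_surjective : Function.Surjective (h23 P Q).L2map := fun z => by
  obtain ⟨y, rfl⟩ := Submodule.Quotient.mk_surjective _ z
  obtain ⟨q, rfl⟩ := exists_one_tmul Q y
  obtain ⟨f, rfl⟩ := h23_relKerMap_surjective P Q q
  exact ⟨Submodule.Quotient.mk ((1 : C) ⊗ₜ f), by rw [PresHom.L2map_mk_tmul, map_one]⟩

variable (M : Type u) [AddCommGroup M] [Module C M] [Module B M] [IsScalarTower B C M]

lemma pull2_exact_aux (φ : L2 (P3 P Q) →ₗ[C] M) (hφ : (h13 P Q).pull2 M φ = 0) (z : L2 (P3 P Q))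
    (hz : (h23 P Q).L2map z = 0) : φ z = 0 := by
  obtain ⟨y, rfl⟩ := Submodule.Quotient.mk_surjective _ z
  obtain ⟨q, rfl⟩ := exists_one_tmul (P3 P Q) y
  rw [PresHom.L2map_mk_tmul, map_one, mk_one_tmul_eq_zero_iff] at hz
  have hq := mem_of_h23_mem_trivRel P Q q.2 hz
  obtain ⟨x, hx, w, hw, hxw⟩ := Submodule.mem_sup.1 hq
  have hw' : ∀ y ∈ Submodule.span (P3 P Q).toExtension.Ring
      ((h13 P Q).relModMap '' (relKer P : Set (relMod P))),
      ∃ hy : y ∈ relKer (P3 P Q), φ (Submodule.Quotient.mk ((1 : C) ⊗ₜ (⟨y, hy⟩ : relKer (P3 P Q)))) = 0 := by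
    intro y hy
    induction hy using Submodule.span_induction with
    | mem y hy =>
      obtain ⟨f, hf, rfl⟩ := hy
      refine ⟨((h13 P Q).relKerMap ⟨f, hf⟩).2, ?_⟩
      have h1 := LinearMap.congr_fun hφ (Submodule.Quotient.mk ((1 : B) ⊗ₜ (⟨f, hf⟩ : relKer P)))
      rw [PresHom.pull2_apply, PresHom.L2map_mk_tmul, map_one, LinearMap.zero_apply] at h1
      exact h1
    | zero =>
      refine ⟨zero_mem _, ?_⟩
      show φ (Submodule.Quotient.mk ((1 : C) ⊗ₜ (0 : relKer (P3 P Q)))) = 0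
      rw [TensorProduct.tmul_zero, Submodule.Quotient.mk_zero, map_zero]
    | add a b _ _ ha hb =>
      obtain ⟨ha, ha'⟩ := ha
      obtain ⟨hb, hb'⟩ := hb
      refine ⟨add_mem ha hb, ?_⟩
      show φ (Submodule.Quotient.mk ((1 : C) ⊗ₜ ((⟨a, ha⟩ + ⟨b, hb⟩ : relKer (P3 P Q))))) = 0
      rw [TensorProduct.tmul_add, Submodule.Quotient.mk_add, map_add, ha', hb', add_zero]
    | smul c a _ ha =>
      obtain ⟨ha, ha'⟩ := ha
      refine ⟨Submodule.smul_mem _ c ha, ?_⟩
      show φ (Submodule.Quotient.mk ((1 : C) ⊗ₜ (c • (⟨a, ha⟩ : relKer (P3 P Q))))) = 0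
      rw [← TensorProduct.smul_tmul, Algebra.smul_def, mul_one]
      have e : (algebraMap (P3 P Q).toExtension.Ring C c ⊗ₜ[(P3 P Q).toExtension.Ring] (⟨a, ha⟩ : relKer (P3 P Q))) =
          algebraMap (P3 P Q).toExtension.Ring C c • ((1 : C) ⊗ₜ[(P3 P Q).toExtension.Ring] (⟨a, ha⟩ : relKer (P3 P Q))) := by
        rw [TensorProduct.smul_tmul', smul_eq_mul, mul_one]
      rw [e, Submodule.Quotient.mk_smul, map_smul, ha', smul_zero]
  obtain ⟨hwm, hw0⟩ := hw' w hw
  have hxm : x ∈ relKer (P3 P Q) := trivRel_le_relKer _ hx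
  have hq' : q = (⟨x, hxm⟩ : relKer (P3 P Q)) + ⟨w, hwm⟩ := Subtype.ext hxw.symm
  rw [hq', TensorProduct.tmul_add, Submodule.Quotient.mk_add, map_add, hw0, add_zero,
    (mk_one_tmul_eq_zero_iff (P3 P Q) ⟨x, hxm⟩).2 hx, map_zero]

/-- The three complexes. -/
def rows : Rows B (L0 Q →ₗ[C] M) (L1 Q →ₗ[C] M) (L2 Q →ₗ[C] M)
    (L0 (P3 P Q) →ₗ[C] M) (L1 (P3 P Q) →ₗ[C] M) (L2 (P3 P Q) →ₗ[C] M)
    (L0 P →ₗ[B] M) (L1 P →ₗ[B] M) (L2 P →ₗ[B] M) where
  a0 := (d1Star Q M).restrictScalars B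
  a1 := (d2Star Q M).restrictScalars B
  b0 := (d1Star (P3 P Q) M).restrictScalars B
  b1 := (d2Star (P3 P Q) M).restrictScalars B
  c0 := d1Star P M
  c1 := d2Star P M
  i0 := ((h23 P Q).pull0 M).restrictScalars B
  i1 := ((h23 P Q).pull1 M).restrictScalars B
  i2 := ((h23 P Q).pull2 M).restrictScalars B
  p0 := (h13 P Q).pull0 M
  p1 := (h13 P Q).pull1 M
  p2 := (h13 P Q).pull2 M
  hbb x := LinearMap.congr_fun (d2Star_comp_d1Star (P3 P Q) M) x
  hia0 x := (h23 P Q).pull1_d1Star M x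
  hia1 x := (h23 P Q).pull2_d2Star M x
  hpb0 x := (h13 P Q).pull1_d1Star M x
  hpb1 x := (h13 P Q).pull2_d2Star M x
  hi0 := fun φ ψ h => Q.cotangentSpaceBasis.ext fun k => by
    have h1 := LinearMap.congr_fun h ((P3 P Q).cotangentSpaceBasis (Sum.inl k))
    change φ ((h23 P Q).L0map _) = ψ ((h23 P Q).L0map _) at h1
    rwa [h23_L0map_inl] at h1
  hi1 := fun φ ψ h => (L1basis Q).ext fun r => by
    have h1 := LinearMap.congr_fun h (L1basis (P3 P Q) (Sum.inl r))
    change φ ((h23 P Q).L1map _) = ψ ((h23 P Q).L1map _) at h1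
    rwa [h23_L1map_inl] at h1
  hi2 := fun φ ψ h => LinearMap.ext fun z => by
    obtain ⟨w, rfl⟩ := h23_L2map_surjective P Q z
    exact LinearMap.congr_fun h w
  hex0 := fun φ => by
    constructor
    · intro h
      refine ⟨Q.cotangentSpaceBasis.constr C fun k => φ ((P3 P Q).cotangentSpaceBasis (Sum.inl k)),
        (P3 P Q).cotangentSpaceBasis.ext fun x => ?_⟩
      show (Q.cotangentSpaceBasis.constr C _) ((h23 P Q).L0map _) = _
      rcases x with k | i
      · rw [h23_L0map_inl, Module.Basis.constr_basis]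
      · rw [h23_L0map_inr, map_zero, ← h13_L0map]
        exact (LinearMap.congr_fun h (P.cotangentSpaceBasis i)).symm
    · rintro ⟨a, rfl⟩
      refine P.cotangentSpaceBasis.ext fun i => ?_
      show a ((h23 P Q).L0map ((h13 P Q).L0map _)) = (0 : L0 P →ₗ[B] M) _
      rw [h13_L0map, h23_L0map_inr, map_zero, LinearMap.zero_apply]
  hex1 := fun φ => by
    constructor
    · intro h
      refine ⟨(L1basis Q).constr C fun r => φ (L1basis (P3 P Q) (Sum.inl r)),
        (L1basis (P3 P Q)).ext fun x => ?_⟩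
      show ((L1basis Q).constr C _) ((h23 P Q).L1map _) = _
      rcases x with r | s
      · rw [h23_L1map_inl, Module.Basis.constr_basis]
      · rw [h23_L1map_inr, map_zero, ← h13_L1map]
        exact (LinearMap.congr_fun h (L1basis P s)).symm
    · rintro ⟨a, rfl⟩
      refine (L1basis P).ext fun s => ?_
      show a ((h23 P Q).L1map ((h13 P Q).L1map _)) = (0 : L1 P →ₗ[B] M) _
      rw [h13_L1map, h23_L1map_inr, map_zero, LinearMap.zero_apply]
  hex2 := fun φ => by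
    constructor
    · intro h
      obtain ⟨δ, hδ⟩ := exists_descend (PresHom.linOfSemilinear (B := C) (L2 Q) (h23 P Q).L2map)
        (h23_L2map_surjective P Q) φ (fun z hz => pull2_exact_aux P Q M φ h z hz)
      exact ⟨δ, LinearMap.ext hδ⟩
    · rintro ⟨a, rfl⟩
      refine LinearMap.ext fun z => ?_
      show a ((h23 P Q).L2map ((h13 P Q).L2map z)) = (0 : L2 P →ₗ[B] M) z
      rw [h23_L2map_h13, map_zero, LinearMap.zero_apply]
  hp0 := fun w => ⟨(P3 P Q).cotangentSpaceBasis.constr C (Sum.elim 0 fun i => w (P.cotangentSpaceBasis i)),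
    P.cotangentSpaceBasis.ext fun i => by
      show ((P3 P Q).cotangentSpaceBasis.constr C _) ((h13 P Q).L0map _) = _
      rw [h13_L0map, Module.Basis.constr_basis, Sum.elim_inr]⟩
  hp1 := fun w => ⟨(L1basis (P3 P Q)).constr C (Sum.elim 0 fun s => w (L1basis P s)),
    (L1basis P).ext fun s => by
      show ((L1basis (P3 P Q)).constr C _) ((h13 P Q).L1map _) = _
      rw [h13_L1map, Module.Basis.constr_basis, Sum.elim_inr]⟩

theorem T0pull_injective : Function.Injective ((h23 P Q).T0pull M) := fun _ _ h =>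
  Subtype.ext ((rows P Q M).hi0 (congrArg Subtype.val h))

theorem exact_T0pull : Function.Exact ((h23 P Q).T0pull M) ((h13 P Q).T0pull M) := fun x => by
  constructor
  · intro h
    obtain ⟨a, ha, ha'⟩ := (rows P Q M).exact_zero x.1 x.2 (congrArg Subtype.val h)
    exact ⟨⟨a, ha⟩, Subtype.ext ha'⟩
  · rintro ⟨a, rfl⟩
    exact Subtype.ext ((rows P Q M).hex0.apply_apply_eq_zero a.1)

set_option maxHeartbeats 1000000 in
theorem exact_T1pull : Function.Exact ((h23 P Q).T1pull M) ((h13 P Q).T1pull M) := fun x => by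
  obtain ⟨c, rfl⟩ := Submodule.Quotient.mk_surjective _ x
  constructor
  · intro h
    change (Submodule.Quotient.mk ((h13 P Q).cocycles1Pull M c) : T1 P M) = 0 at h
    obtain ⟨w, hw⟩ := (mk_eq_zero_iff_T1 _ _ _).1 h
    obtain ⟨a, ha, y, hy⟩ := (rows P Q M).exact_one c.1 c.2 w hw
    refine ⟨Submodule.Quotient.mk ⟨a, ha⟩, ?_⟩
    show (Submodule.Quotient.mk ((h23 P Q).cocycles1Pull M ⟨a, ha⟩) : T1 (P3 P Q) M) = _
    refine (Submodule.Quotient.eq _).2 ⟨y, ?_⟩
    show (rows P Q M).b0 y = (rows P Q M).i1 a - c.1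
    rw [hy, add_sub_cancel_left]
  · rintro ⟨a, ha⟩
    rw [← ha]
    obtain ⟨a, rfl⟩ := Submodule.Quotient.mk_surjective _ a
    show (Submodule.Quotient.mk ((h13 P Q).cocycles1Pull M ((h23 P Q).cocycles1Pull M a)) : T1 P M) = 0
    rw [show (h13 P Q).cocycles1Pull M ((h23 P Q).cocycles1Pull M a) = 0 from
      Subtype.ext ((rows P Q M).hex1.apply_apply_eq_zero a.1), Submodule.Quotient.mk_zero]

set_option maxHeartbeats 1000000 in
theorem exact_T2pull : Function.Exact ((h23 P Q).T2pull M) ((h13 P Q).T2pull M) := fun x => by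
  obtain ⟨z, rfl⟩ := Submodule.Quotient.mk_surjective _ x
  constructor
  · intro h
    change (Submodule.Quotient.mk ((h13 P Q).pull2 M z) : T2 P M) = 0 at h
    obtain ⟨w, hw⟩ := (Submodule.Quotient.mk_eq_zero _).1 h
    obtain ⟨a, y, hy⟩ := (rows P Q M).exact_two z w hw
    refine ⟨Submodule.Quotient.mk a, ?_⟩
    show (Submodule.Quotient.mk ((h23 P Q).pull2 M a) : T2 (P3 P Q) M) = _
    refine (Submodule.Quotient.eq _).2 ⟨y, ?_⟩
    show (rows P Q M).b1 y = (rows P Q M).i2 a - z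
    rw [hy, add_sub_cancel_left]
  · rintro ⟨a, ha⟩
    rw [← ha]
    obtain ⟨a, rfl⟩ := Submodule.Quotient.mk_surjective _ a
    show (Submodule.Quotient.mk ((h13 P Q).pull2 M ((h23 P Q).pull2 M a)) : T2 P M) = 0
    rw [show (h13 P Q).pull2 M ((h23 P Q).pull2 M a) = 0 from (rows P Q M).hex2.apply_apply_eq_zero a,
      Submodule.Quotient.mk_zero]

set_option maxHeartbeats 1000000 in
theorem exists_connecting₀ :
    ∃ δ : T0 P M →+ T1 Q M,
      Function.Exact ((h13 P Q).T0pull M) δ ∧ Function.Exact δ ((h23 P Q).T1pull M) := by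
  let π : LinearMap.ker (rows P Q M).a1 →ₗ[B] T1 Q M :=
    { toFun := fun z => Submodule.Quotient.mk ⟨z.1, z.2⟩
      map_add' := fun _ _ => rfl
      map_smul' := fun _ _ => rfl }
  have hπ : Function.Surjective π := fun t => by
    obtain ⟨c, rfl⟩ := Submodule.Quotient.mk_surjective _ t
    exact ⟨⟨c.1, c.2⟩, rfl⟩
  obtain ⟨δ, h1, h2⟩ := (rows P Q M).exists_δ0 π hπ fun z => mk_eq_zero_iff_T1 _ _ _
  refine ⟨δ.toAddMonoidHom, fun w => ?_, fun t => ?_⟩
  · constructor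
    · intro h
      obtain ⟨x, hx, hxw⟩ := (h1 w).1 h
      exact ⟨⟨x, hx⟩, Subtype.ext hxw⟩
    · rintro ⟨x, rfl⟩
      exact (h1 _).2 ⟨x.1, x.2, rfl⟩
  · obtain ⟨c, rfl⟩ := Submodule.Quotient.mk_surjective _ t
    show (Submodule.Quotient.mk ((h23 P Q).cocycles1Pull M c) : T1 (P3 P Q) M) = 0 ↔ _
    rw [mk_eq_zero_iff_T1]
    exact h2 ⟨c.1, c.2⟩

set_option maxHeartbeats 1000000 in
theorem exists_connecting₁ :
    ∃ δ : T1 P M →+ T2 Q M,
      Function.Exact ((h13 P Q).T1pull M) δ ∧ Function.Exact δ ((h23 P Q).T2pull M) := by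
  let π : LinearMap.ker (rows P Q M).c1 →ₗ[B] T1 P M :=
    { toFun := fun z => Submodule.Quotient.mk ⟨z.1, z.2⟩
      map_add' := fun _ _ => rfl
      map_smul' := fun _ _ => rfl }
  have hπ : Function.Surjective π := fun t => by
    obtain ⟨c, rfl⟩ := Submodule.Quotient.mk_surjective _ t
    exact ⟨⟨c.1, c.2⟩, rfl⟩
  let q : (L2 Q →ₗ[C] M) →ₗ[B] T2 Q M := (LinearMap.range (d2Star Q M)).mkQ.restrictScalars B
  have hq : Function.Surjective q := fun t => by
    obtain ⟨c, hc⟩ := Submodule.Quotient.mk_surjective _ t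
    exact ⟨c, hc⟩
  have hq0 : ∀ z, q z = 0 ↔ ∃ x, (rows P Q M).a1 x = z := fun z => by
    refine (Submodule.Quotient.mk_eq_zero (LinearMap.range (d2Star Q M))).trans ?_
    exact LinearMap.mem_range
  obtain ⟨δ, h1, h2⟩ := (rows P Q M).exists_δ1 π hπ (fun z => mk_eq_zero_iff_T1 _ _ _) q hq hq0
  refine ⟨δ.toAddMonoidHom, fun t => ?_, fun t => ?_⟩
  · obtain ⟨w, rfl⟩ := Submodule.Quotient.mk_surjective _ t
    constructor
    · intro h
      obtain ⟨z, x, hz, hzw⟩ := (h1 w).1 h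
      refine ⟨Submodule.Quotient.mk ⟨z, hz⟩, ?_⟩
      show (Submodule.Quotient.mk ((h13 P Q).cocycles1Pull M ⟨z, hz⟩) : T1 P M) = _
      refine (Submodule.Quotient.eq _).2 ⟨x, ?_⟩
      show (rows P Q M).c0 x = (rows P Q M).p1 z - w.1
      rw [hzw, add_sub_cancel_left]
    · rintro ⟨t, ht⟩
      obtain ⟨z, rfl⟩ := Submodule.Quotient.mk_surjective _ t
      obtain ⟨x, hx⟩ := (Submodule.Quotient.eq _).1 ht
      refine (h1 w).2 ⟨z.1, x, z.2, ?_⟩
      have hx' : (rows P Q M).c0 x = (rows P Q M).p1 z.1 - w.1 := hx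
      rw [hx', add_sub_cancel]
  · obtain ⟨a, rfl⟩ := Submodule.Quotient.mk_surjective _ t
    show (Submodule.Quotient.mk ((h23 P Q).pull2 M a) : T2 (P3 P Q) M) = 0 ↔ _
    rw [Submodule.Quotient.mk_eq_zero]
    exact h2 a

lemma exact_transfer_left {X Y Y' Z : Type*} [Zero Z] {i : X → Y} {p : Y → Z} {e : Y → Y'} {i' : X → Y'} {p' : Y' → Z}
    (h : Function.Exact i p) (he : Function.Bijective e) (hi : ∀ x, i' x = e (i x)) (hp : ∀ y, p y = p' (e y)) :
    Function.Exact i' p' := fun y' => by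
  obtain ⟨y, rfl⟩ := he.2 y'
  rw [← hp, h y]
  constructor
  · rintro ⟨x, rfl⟩; exact ⟨x, hi x⟩
  · rintro ⟨x, hx⟩; exact ⟨x, he.1 ((hi x).symm.trans hx)⟩

lemma exact_of_range {Y Y' Z W : Type*} [Zero W] {p : Y → Z} {e : Y → Y'} {p' : Y' → Z} {δ : Z → W}
    (h : Function.Exact p δ) (he : Function.Surjective e) (hp : ∀ y, p y = p' (e y)) :
    Function.Exact p' δ := fun z => by
  rw [h z]
  constructor
  · rintro ⟨y, rfl⟩; exact ⟨e y, (hp y).symm⟩
  · rintro ⟨y', rfl⟩; obtain ⟨y, rfl⟩ := he y'; exact ⟨y, hp y⟩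

lemma exact_comp_injective {X Y Y' W : Type*} [Zero Y] [Zero Y'] {i : X → Y} {e : Y → Y'} {i' : X → Y'} {δ : W → X}
    (h : Function.Exact δ i) (he : Function.Injective e) (he0 : e 0 = 0) (hi : ∀ x, i' x = e (i x)) :
    Function.Exact δ i' := fun x => by
  rw [hi, ← he0, he.eq_iff]
  exact h x

/-- The nine-term sequence, for any presentations and any morphisms over the squares. -/
theorem nineTerm {ρ η : Type u} (R : Algebra.Presentation A C ρ η) (f : PresHom R Q) (g : PresHom P R) :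
    Function.Injective (f.T0pull M) ∧
    Function.Exact (f.T0pull M) (g.T0pull M) ∧
    Function.Exact (f.T1pull M) (g.T1pull M) ∧
    Function.Exact (f.T2pull M) (g.T2pull M) ∧
    ∃ (δ₀ : T0 P M →+ T1 Q M) (δ₁ : T1 P M →+ T2 Q M),
      Function.Exact (g.T0pull M) δ₀ ∧ Function.Exact δ₀ (f.T1pull M) ∧
      Function.Exact (g.T1pull M) δ₁ ∧ Function.Exact δ₁ (f.T2pull M) := by
  obtain ⟨e⟩ := nonempty_presHom R (P3 P Q)
  have u0 : ∀ x, f.T0pull M x = e.T0pull M ((h23 P Q).T0pull M x) := fun x => by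
    rw [← sqComp_T0pull M (h23 P Q) e, T0pull_eq M f (sqComp (h23 P Q) e)]
  have u1 : ∀ x, f.T1pull M x = e.T1pull M ((h23 P Q).T1pull M x) := fun x => by
    rw [← sqComp_T1pull M (h23 P Q) e, T1pull_eq M f (sqComp (h23 P Q) e)]
  have u2 : ∀ x, f.T2pull M x = e.T2pull M ((h23 P Q).T2pull M x) := fun x => by
    rw [← sqComp_T2pull M (h23 P Q) e, T2pull_eq M f (sqComp (h23 P Q) e)]
  have v0 : ∀ x, (h13 P Q).T0pull M x = g.T0pull M (e.T0pull M x) := fun x => by
    rw [← sqComp_T0pull M e g, T0pull_eq M (h13 P Q) (sqComp e g)]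
  have v1 : ∀ x, (h13 P Q).T1pull M x = g.T1pull M (e.T1pull M x) := fun x => by
    rw [← sqComp_T1pull M e g, T1pull_eq M (h13 P Q) (sqComp e g)]
  have v2 : ∀ x, (h13 P Q).T2pull M x = g.T2pull M (e.T2pull M x) := fun x => by
    rw [← sqComp_T2pull M e g, T2pull_eq M (h13 P Q) (sqComp e g)]
  have b0 := bijective_T0pull M e
  have b1 := bijective_T1pull M e
  have b2 := bijective_T2pull M e
  refine ⟨fun x y h => T0pull_injective P Q M (b0.1 ((u0 x).symm.trans (h.trans (u0 y)))),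
    exact_transfer_left (exact_T0pull P Q M) b0 u0 v0, exact_transfer_left (exact_T1pull P Q M) b1 u1 v1,
    exact_transfer_left (exact_T2pull P Q M) b2 u2 v2, ?_⟩
  obtain ⟨δ₀, h0, h0'⟩ := exists_connecting₀ P Q M
  obtain ⟨δ₁, h1, h1'⟩ := exists_connecting₁ P Q M
  exact ⟨δ₀, δ₁, exact_of_range h0 b0.2 v0, exact_comp_injective h0' b1.1 (map_zero _) u1,
    exact_of_range h1 b1.2 v1, exact_comp_injective h1' b2.1 (map_zero _) u2⟩

end Groth.Agent.Lib.CotTwo
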