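import Groth.Agent.Lib.CotTwo.SmoothVanish
import Groth.Agent.Lib.CotTwo.NineTerm
import Mathlib.RingTheory.Etale.Basic

/-!
# `T²` of a localization, and transitivity of vanishing
-/

noncomputable section

universe u t

open TensorProduct CotT

namespace Groth.Agent.Lib.CotTwo

/-- `g X - 1` is regular modulo ideals of constants. -/
lemma mem_map_C_of_linear_mul {R : Type*} [CommRing R] (I : Ideal R) (g : R) {x : Polynomial R}
    (h : (Polynomial.C g * Polynomial.X - 1) * x ∈ I.map Polynomial.C) : x ∈ I.map Polynomial.C := by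
  rw [Ideal.mem_map_C_iff] at h ⊢
  intro n
  induction n with
  | zero =>
    have h0 := h 0
    rw [sub_mul, one_mul, Polynomial.coeff_sub, mul_assoc, Polynomial.coeff_C_mul, Polynomial.coeff_X_mul_zero,
      mul_zero, zero_sub] at h0
    exact neg_mem_iff.1 h0
  | succ n ih =>
    have h0 := h (n + 1)
    rw [sub_mul, one_mul, Polynomial.coeff_sub, mul_assoc, Polynomial.coeff_C_mul, Polynomial.coeff_X_mul] at h0
    have := sub_mem (Ideal.mul_mem_left I g ih) h0
    rwa [sub_sub_cancel] at this

/-- A family is syzygetic if each member is regular modulo the other members. -/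
theorem isSyz_of_regular_subfamilies {R : Type u} [CommRing R] {σ : Type t} (f : σ → R)
    (h : ∀ (i : σ) (J : Set σ), i ∉ J → ∀ x, f i * x ∈ Ideal.span (f '' J) → x ∈ Ideal.span (f '' J)) :
    IsSyz f := by
  classical
  intro q hq _
  let e : Fin q.support.card ≃ q.support := q.support.equivFin.symm
  let j : Fin q.support.card → σ := fun i => e i
  have hj : Function.Injective j := Subtype.val_injective.comp e.injective
  let q' : Fin q.support.card →₀ R := Finsupp.comapDomain j q hj.injOn
  have hq' : Finsupp.mapDomain j q' = q := by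
    refine Finsupp.mapDomain_comapDomain j hj q ?_
    intro s hs
    exact ⟨e.symm ⟨s, hs⟩, show ((e (e.symm ⟨s, hs⟩)) : σ) = s by rw [e.apply_symm_apply]⟩
  have hlc : ∀ p : Fin q.support.card →₀ R,
      Finsupp.linearCombination R f (Finsupp.mapDomain j p) = Finsupp.linearCombination R (f ∘ j) p :=
    fun p => Finsupp.linearCombination_mapDomain R j p
  have hreg : ∀ (i : Fin q.support.card) (x : R), (f ∘ j) i * x ∈ Ideal.span ((f ∘ j) '' {k | k < i}) →
      x ∈ Ideal.span ((f ∘ j) '' {k | k < i}) := fun i x hx => by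
    rw [Set.image_comp] at hx ⊢
    exact h (j i) _ (by rintro ⟨k, hk, hki⟩; exact hk.ne (hj hki)) x hx
  have hmem := mem_span_trivial_of_regular (f ∘ j) hreg q' (by rw [← hlc, hq']; exact hq)
  rw [← hq']
  have hle : Submodule.map (Finsupp.lmapDomain R R j)
      (Submodule.span R {y | ∃ p q : Fin q.support.card →₀ R,
        y = Finsupp.linearCombination R (f ∘ j) p • q - Finsupp.linearCombination R (f ∘ j) q • p}) ≤ triv f := by
    rw [Submodule.map_span, Submodule.span_le]
    rintro _ ⟨_, ⟨p, r, rfl⟩, rfl⟩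
    refine Submodule.subset_span ⟨Finsupp.mapDomain j p, Finsupp.mapDomain j r, ?_⟩
    rw [map_sub, map_smul, map_smul, hlc, hlc]
    rfl
  exact hle (Submodule.mem_map_of_mem hmem)

variable {A : Type u} [CommRing A] {ι : Type u}

/-- The family `c_g y_g - 1`. -/
abbrev invRel (c : ι → A) (g : ι) : MvPolynomial ι A := MvPolynomial.C (c g) * MvPolynomial.X g - 1

lemma isSyz_invRel (c : ι → A) : IsSyz (invRel c) := by
  classical
  refine isSyz_of_regular_subfamilies _ fun i J hi x hx => ?_
  let E : MvPolynomial ι A ≃ₐ[A] Polynomial (MvPolynomial {b : ι // b ≠ i} A) :=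
    (MvPolynomial.renameEquiv A (Equiv.optionSubtypeNe i).symm).trans (MvPolynomial.optionEquivLeft A _)
  have hEC : ∀ a, E (MvPolynomial.C a) = Polynomial.C (MvPolynomial.C a) := fun a => by
    show MvPolynomial.optionEquivLeft A _ (MvPolynomial.rename _ (MvPolynomial.C a)) = _
    rw [MvPolynomial.rename_C, MvPolynomial.optionEquivLeft_C]
  have hEX : ∀ (b : ι) (hb : b ≠ i), E (MvPolynomial.X b) = Polynomial.C (MvPolynomial.X ⟨b, hb⟩) := fun b hb => by
    show MvPolynomial.optionEquivLeft A _ (MvPolynomial.rename _ (MvPolynomial.X b)) = _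
    rw [MvPolynomial.rename_X, Equiv.optionSubtypeNe_symm_of_ne hb, MvPolynomial.optionEquivLeft_X_some]
  have hEi : E (invRel c i) = Polynomial.C (MvPolynomial.C (c i)) * Polynomial.X - 1 := by
    rw [map_sub, map_mul, map_one, hEC]
    congr 2
    show MvPolynomial.optionEquivLeft A _ (MvPolynomial.rename _ (MvPolynomial.X i)) = _
    rw [MvPolynomial.rename_X, Equiv.optionSubtypeNe_symm_self, MvPolynomial.optionEquivLeft_X_none]
  let I₀ : Ideal (MvPolynomial {b : ι // b ≠ i} A) :=
    Ideal.span ((fun b : {b : ι // b ≠ i} => MvPolynomial.C (c b) * MvPolynomial.X b - 1) '' {b | b.1 ∈ J})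
  have hmap : (Ideal.span (invRel c '' J)).map E.toRingEquiv.toRingHom = I₀.map Polynomial.C := by
    rw [Ideal.map_span, Ideal.map_span, ← Set.image_comp, ← Set.image_comp]
    have hE : ∀ (g : ι) (hg : g ≠ i), E (invRel c g) =
        Polynomial.C (MvPolynomial.C (c g) * MvPolynomial.X ⟨g, hg⟩ - 1) := fun g hg => by
      rw [map_sub, map_mul, map_one, hEC, hEX g hg, map_sub, map_mul, map_one]
    refine congrArg Ideal.span (Set.ext fun z => ?_)
    constructor
    · rintro ⟨g, hg, rfl⟩
      have hgi : g ≠ i := fun h => hi (h ▸ hg)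
      exact ⟨⟨g, hgi⟩, hg, (hE g hgi).symm⟩
    · rintro ⟨⟨g, hgi⟩, hg, rfl⟩
      exact ⟨g, hg, hE g hgi⟩
  have hx' := Ideal.mem_map_of_mem E.toRingEquiv.toRingHom hx
  rw [map_mul, hmap] at hx'
  have hx'' : E x ∈ I₀.map Polynomial.C := by
    refine mem_map_C_of_linear_mul I₀ (MvPolynomial.C (c i)) ?_
    rw [← hEi]
    exact hx'
  rw [← hmap] at hx''
  obtain ⟨y, hy, hyx⟩ := (Ideal.mem_map_iff_of_surjective E.toRingEquiv.toRingHom E.surjective).1 hx''
  rwa [← E.injective hyx]

variable (S : Submonoid A) (L : Type u) [CommRing L] [Algebra A L] [IsLocalization S L]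

/-- A variable for the inverse of each element inverted. -/
def locGen : Algebra.Generators A L S :=
  .ofSurjective (fun g => IsLocalization.mk' L (1 : A) g) fun x => by
    obtain ⟨r, s, rfl⟩ := IsLocalization.exists_mk'_eq S x
    exact ⟨MvPolynomial.C r * MvPolynomial.X s, by
      rw [map_mul, MvPolynomial.aeval_C, MvPolynomial.aeval_X, IsLocalization.mul_mk'_eq_mk'_of_mul, mul_one]⟩

lemma aeval_locGen_invRel (g : S) :
    MvPolynomial.aeval (locGen S L).val (invRel (fun g : S => (g : A)) g) = 0 := by
  rw [map_sub, map_mul, map_one, MvPolynomial.aeval_C, MvPolynomial.aeval_X]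
  show algebraMap A L g * IsLocalization.mk' L (1 : A) g - 1 = 0
  rw [IsLocalization.mk'_spec', map_one, sub_self]

/-- The presentation of a localization. -/
def locPres : Algebra.Presentation A L S S where
  toGenerators := locGen S L
  relation := invRel fun g : S => (g : A)
  span_range_relation_eq_ker := by
    rw [Algebra.Generators.ker_eq_ker_aeval_val]
    refine le_antisymm (Ideal.span_le.2 ?_) fun p hp => ?_
    · rintro _ ⟨g, rfl⟩
      exact aeval_locGen_invRel S L g
    let I : Ideal (MvPolynomial S A) := Ideal.span (Set.range (invRel fun g : S => (g : A)))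
    have h1 : ∀ g : S, Ideal.Quotient.mk I (MvPolynomial.C (g : A)) * Ideal.Quotient.mk I (MvPolynomial.X g) = 1 := fun g => by
      rw [← map_mul, ← sub_eq_zero, ← map_one (Ideal.Quotient.mk I), ← map_sub, Ideal.Quotient.eq_zero_iff_mem]
      exact Ideal.subset_span ⟨g, rfl⟩
    have hu : ∀ g : S, IsUnit (algebraMap A (MvPolynomial S A ⧸ I) g) := fun g =>
      IsUnit.of_mul_eq_one _ (h1 g)
    let ψ : L →ₐ[A] MvPolynomial S A ⧸ I := IsLocalization.liftAlgHom (M := S) (f := Algebra.ofId A _) hu
    have hψ : ψ.comp (MvPolynomial.aeval (locGen S L).val) = Ideal.Quotient.mkₐ A I := by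
      refine MvPolynomial.algHom_ext fun g => ?_
      rw [AlgHom.comp_apply, MvPolynomial.aeval_X]
      refine (hu g).mul_left_cancel ?_
      rw [← ψ.commutes, ← map_mul]
      show ψ (algebraMap A L g * IsLocalization.mk' L (1 : A) g) = _
      rw [IsLocalization.mk'_spec', map_one, map_one]
      rw [ψ.commutes]; exact (h1 g).symm
    have h2 := AlgHom.congr_fun hψ p
    rw [AlgHom.comp_apply, RingHom.mem_ker.1 hp, map_zero] at h2
    exact Ideal.Quotient.eq_zero_iff_mem.1 h2.symm

lemma subsingleton_T2_locPres (M : Type u) [AddCommGroup M] [Module L M] :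
    Subsingleton (T2 (locPres S L) M) := by
  haveI : Algebra.FormallyEtale A L := .of_isLocalization S
  exact subsingleton_T2_of_isSyz (locPres S L) (isSyz_invRel fun g : S => (g : A)) M

/-- Transitivity of the vanishing of `T²`. -/
theorem subsingleton_T2_trans {A B C : Type u} [CommRing A] [CommRing B] [CommRing C] [Algebra A B] [Algebra B C]
    [Algebra A C] [IsScalarTower A B C] {ι σ κ τ ρ η : Type u} (P : Algebra.Presentation A B ι σ)
    (Q : Algebra.Presentation B C κ τ) (R : Algebra.Presentation A C ρ η)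
    (M : Type u) [AddCommGroup M] [Module C M] [Module B M] [IsScalarTower B C M]
    [Subsingleton (T2 P M)] [Subsingleton (T2 Q M)] : Subsingleton (T2 R M) := by
  obtain ⟨e⟩ := nonempty_presHom R (P3 P Q)
  haveI : Subsingleton (T2 (P3 P Q) M) := by
    refine ⟨fun x y => ?_⟩
    suffices h : ∀ z : T2 (P3 P Q) M, z = 0 by rw [h x, h y]
    intro z
    obtain ⟨w, rfl⟩ := (exact_T2pull P Q M z).1 (Subsingleton.elim _ _)
    rw [Subsingleton.elim w 0, map_zero]
  exact (bijective_T2pull M e).2.subsingleton

end Groth.Agent.Lib.CotTwo
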