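import Mathlib.RingTheory.Etale.StandardEtale
import Mathlib.RingTheory.Etale.Kaehler
import Mathlib.RingTheory.Smooth.Kaehler
import Mathlib.RingTheory.Flat.Stability
import Mathlib.RingTheory.Smooth.Flat
import Mathlib.FieldTheory.PrimitiveElement
import Mathlib.RingTheory.IntegralClosure.IntegralRestrict

/-!
# `H₁` of the cotangent complex and separable extensions of residue fields
-/

noncomputable section

universe u

open TensorProduct Polynomial

namespace Groth.Agent.Lib.CotTwo.SepH1

variable {Λ κ k : Type u} [CommRing Λ] [Field κ] [Field k] [Algebra Λ κ] [Algebra Λ k] [Algebra κ k]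
  [IsScalarTower Λ κ k]

set_option backward.isDefEq.respectTransparency false in
omit [Field k] [Algebra Λ k] [Algebra κ k] [IsScalarTower Λ κ k] in
/-- Modulo the kernel a standard étale algebra lifting a separable polynomial is generated by `X`. -/
lemma exists_poly (P : StandardEtalePair Λ) (hP : P.g = derivative P.f)
    (hsep : (P.f.map (algebraMap Λ κ)).Separable) (hκ : Function.Surjective (algebraMap Λ κ)) (z : P.Ring) :
    ∃ p : Λ[X], z - aeval P.X p ∈ (RingHom.ker (algebraMap Λ κ)).map (algebraMap Λ P.Ring) := by
  let N := (RingHom.ker (algebraMap Λ κ)).map (algebraMap Λ P.Ring)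
  have hH : aeval (R := Λ) P.X = (Ideal.Quotient.mkₐ _ _).comp Polynomial.CAlgHom := by
    ext; simp [StandardEtalePair.Ring, StandardEtalePair.X]
  obtain ⟨a, b, hab⟩ := hsep
  obtain ⟨a, rfl⟩ := Polynomial.map_surjective _ hκ a
  obtain ⟨b, rfl⟩ := Polynomial.map_surjective _ hκ b
  have h1 : aeval P.X (a * P.f + b * derivative P.f - 1) ∈ N := by
    have hc : ∀ i, (a * P.f + b * derivative P.f - 1).coeff i ∈ RingHom.ker (algebraMap Λ κ) := fun i => by
      rw [RingHom.mem_ker, ← Polynomial.coeff_map, Polynomial.map_sub, Polynomial.map_add, Polynomial.map_mul,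
        Polynomial.map_mul, ← Polynomial.derivative_map, hab, Polynomial.map_one, sub_self, coeff_zero]
    rw [aeval_eq_sum_range]
    refine Ideal.sum_mem _ fun i _ => ?_
    rw [Algebra.smul_def]
    exact Ideal.mul_mem_right _ _ (Ideal.mem_map_of_mem _ (hc i))
  rw [map_sub, map_add, map_mul, map_mul, StandardEtalePair.hasMap_X.1, mul_zero, zero_add, map_one] at h1
  let Y : P.Ring := Ideal.Quotient.mk _ Polynomial.X
  have h2 : Y - aeval P.X b ∈ N := by
    have h3 : aeval P.X (derivative P.f) * Y = 1 := by
      rw [← hP]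
      exact P.aeval_X_g_mul_mk_X
    have h4 : Y - aeval P.X b = (-Y) * (aeval P.X b * aeval P.X (derivative P.f) - 1) := by
      linear_combination (aeval P.X b) * h3
    rw [h4]
    exact Ideal.mul_mem_left _ _ h1
  obtain ⟨q, rfl⟩ := Ideal.Quotient.mk_surjective z
  induction q using Polynomial.induction_on' with
  | add q q' hq hq' =>
    obtain ⟨p, hp⟩ := hq
    obtain ⟨p', hp'⟩ := hq'
    refine ⟨p + p', ?_⟩
    have := add_mem hp hp'
    convert this using 1
    rw [map_add (aeval P.X), map_add (Ideal.Quotient.mk _)]
    exact (sub_add_sub_comm _ _ _ _).symm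
  | monomial n c =>
    refine ⟨c * b ^ n, ?_⟩
    rw [← Polynomial.C_mul_X_pow_eq_monomial, map_mul (aeval P.X), map_pow (aeval P.X)]
    have h5 : (Ideal.Quotient.mk _ (C c * X ^ n) : P.Ring) = aeval P.X c * Y ^ n := by
      rw [hH]
      exact map_mul _ _ _
    rw [show (Ideal.Quotient.mk _ (C c * X ^ n) : P.Ring) = _ from h5, ← mul_sub]
    refine Ideal.mul_mem_left _ _ ?_
    obtain ⟨d, hd⟩ := sub_dvd_pow_sub_pow Y (aeval P.X b) n
    rw [hd]
    exact Ideal.mul_mem_right _ _ h2

/-- A homomorphism from the free extension. -/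
def selfHom {S : Type u} [CommRing S] [Algebra Λ S] (P : Algebra.Extension Λ S) :
    (Algebra.Generators.self Λ S).toExtension.Hom P where
  toRingHom := (MvPolynomial.aeval fun s : S => P.σ s).toRingHom
  toRingHom_algebraMap x := (MvPolynomial.aeval fun s : S => P.σ s).commutes x
  algebraMap_toRingHom x := by
    refine DFunLike.congr_fun (?_ : (IsScalarTower.toAlgHom Λ P.Ring S).comp
      (MvPolynomial.aeval fun s : S => P.σ s) = MvPolynomial.aeval fun s : S => s) x |>.trans ?_
    · ext s
      simp
    · rfl

instance formallySmooth_self (R S : Type u) [CommRing R] [CommRing S] [Algebra R S] :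
    Algebra.FormallySmooth R (Algebra.Generators.self R S).toExtension.Ring :=
  (inferInstance : Algebra.FormallySmooth R (MvPolynomial S R))

set_option backward.isDefEq.respectTransparency false in
theorem bijective_of_surjective_separable (hκ : Function.Surjective (algebraMap Λ κ)) [Module.Finite κ k]
    [Algebra.IsSeparable κ k] :
    Function.Bijective ((Algebra.H1Cotangent.map Λ Λ κ k).liftBaseChange k) := by
  classical
  obtain ⟨α, hα⟩ := Field.exists_primitive_element κ k
  let f := minpoly κ α
  have hint : IsIntegral κ α := Algebra.IsIntegral.isIntegral α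
  have hsep : f.Separable := Algebra.IsSeparable.isSeparable κ α
  obtain ⟨ft, hft, -, hmon⟩ := Polynomial.lifts_and_degree_eq_and_monic
    (f := algebraMap Λ κ) (p := f) ((Polynomial.lifts_iff_coeff_lifts _).2 fun n => hκ _) (minpoly.monic hint)
  let SP : StandardEtalePair Λ := ⟨ft, hmon, derivative ft, ⟨1, 0, 1, by ring⟩⟩
  have hmap : SP.HasMap α := by
    refine ⟨?_, ?_⟩
    · show aeval α ft = 0
      rw [← Polynomial.aeval_map_algebraMap κ, hft, minpoly.aeval]
    · show IsUnit (aeval α (derivative ft))
      rw [← Polynomial.aeval_map_algebraMap κ, ← Polynomial.derivative_map, hft, isUnit_iff_ne_zero]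
      exact hsep.aeval_derivative_ne_zero (minpoly.aeval κ α)
  let φ : SP.Ring →ₐ[Λ] k := SP.lift α hmap
  have hφ : ∀ p : Λ[X], φ (aeval SP.X p) = aeval α p := fun p => by
    rw [← aeval_algHom_apply, StandardEtalePair.lift_X]
  have hφs : Function.Surjective φ := by
    intro x
    have hx : x ∈ (IntermediateField.adjoin κ {α}).toSubalgebra := by rw [hα]; trivial
    rw [IntermediateField.adjoin_simple_toSubalgebra_of_isAlgebraic hint.isAlgebraic,
      Algebra.adjoin_singleton_eq_range_aeval] at hx
    obtain ⟨p, rfl⟩ := hx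
    obtain ⟨p, rfl⟩ := Polynomial.map_surjective _ hκ p
    exact ⟨aeval SP.X p, by rw [hφ]; exact (Polynomial.aeval_map_algebraMap κ α p).symm⟩
  let P₀ := (Algebra.Generators.self Λ κ).toExtension
  let Q₀ := (Algebra.Generators.self Λ k).toExtension
  haveI : Algebra.FormallySmooth Λ P₀.Ring := formallySmooth_self Λ κ
  haveI : Algebra.FormallySmooth Λ Q₀.Ring := formallySmooth_self Λ k
  let P : Algebra.Extension Λ κ := Algebra.Extension.ofSurjective (Algebra.ofId Λ κ) hκ
  let Q : Algebra.Extension Λ k := Algebra.Extension.ofSurjective φ hφs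
  let g : P.Hom Q :=
    { toRingHom := algebraMap Λ SP.Ring
      toRingHom_algebraMap := fun x => rfl
      algebraMap_toRingHom := fun x => (φ.commutes x).trans (IsScalarTower.algebraMap_apply Λ κ k x) }
  letI ialg : Algebra P.Ring Q.Ring := (inferInstance : Algebra Λ SP.Ring)
  have hmem : ∀ z : SP.Ring, φ z = 0 → z ∈ (RingHom.ker (algebraMap Λ κ)).map (algebraMap Λ SP.Ring) := by
    intro z hz
    obtain ⟨p, hp⟩ := exists_poly SP rfl (by show (ft.map (algebraMap Λ κ)).Separable; rw [hft]; exact hsep) hκ z
    have h1 : aeval α p = 0 := by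
      have h2 : φ (z - aeval SP.X p) = 0 := by
        refine (Ideal.map_le_iff_le_comap.2 (fun a ha => ?_) : Ideal.map (algebraMap Λ SP.Ring) _ ≤ RingHom.ker φ) hp
        show φ (algebraMap Λ SP.Ring a) = 0
        rw [φ.commutes, IsScalarTower.algebraMap_apply Λ κ k, RingHom.mem_ker.1 ha, map_zero]
      rwa [map_sub, hz, hφ, zero_sub, neg_eq_zero] at h2
    obtain ⟨d, hd⟩ := minpoly.dvd κ α (p := p.map (algebraMap Λ κ)) (by rw [Polynomial.aeval_map_algebraMap, h1])
    obtain ⟨d, rfl⟩ := Polynomial.map_surjective _ hκ d
    have h3 : aeval SP.X (p - ft * d) ∈ (RingHom.ker (algebraMap Λ κ)).map (algebraMap Λ SP.Ring) := by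
      rw [aeval_eq_sum_range]
      refine Ideal.sum_mem _ fun i _ => ?_
      rw [Algebra.smul_def]
      refine Ideal.mul_mem_right _ _ (Ideal.mem_map_of_mem _ ?_)
      rw [RingHom.mem_ker, ← Polynomial.coeff_map, Polynomial.map_sub, Polynomial.map_mul, hft, hd, sub_self,
        coeff_zero]
    rw [map_sub, map_mul, show aeval SP.X ft = 0 from StandardEtalePair.hasMap_X.1, zero_mul, sub_zero] at h3
    simpa using add_mem hp h3
  haveI : Module.Flat Λ SP.Ring := Algebra.Smooth.flat _ _
  have H₂ : Function.Bijective ((g.mapKer (alg := ialg) rfl).liftBaseChange Q.Ring) := by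
    constructor
    · let u : P.ker →ₗ[P.Ring] P.Ring := P.ker.subtype
      haveI : Module.Flat P.Ring Q.Ring := (inferInstance : Module.Flat Λ SP.Ring)
      have hu : Function.Injective (u.lTensor Q.Ring) :=
        Module.Flat.lTensor_preserves_injective_linearMap u Subtype.val_injective
      let L := (g.mapKer (alg := ialg) rfl).liftBaseChange Q.Ring
      have hcomp : ∀ y : Q.Ring ⊗[P.Ring] P.ker, (L y).1 =
          TensorProduct.rid P.Ring Q.Ring (u.lTensor Q.Ring y) := by
        intro y
        induction y with
        | zero => rw [LinearMap.map_zero, LinearMap.map_zero, LinearEquiv.map_zero]; rfl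
        | add a b ha hb =>
          rw [LinearMap.map_add, LinearMap.map_add, LinearEquiv.map_add, ← ha, ← hb]
          rfl
        | tmul s x =>
          simp only [L, LinearMap.liftBaseChange_tmul, LinearMap.lTensor_tmul, TensorProduct.rid_tmul]
          rw [Algebra.smul_def, mul_comm]
          rfl
      intro a b hab
      exact hu ((TensorProduct.rid P.Ring Q.Ring).injective
        ((hcomp a).symm.trans ((congrArg Subtype.val hab).trans (hcomp b))))
    · rintro ⟨z, hz⟩
      have key : ∀ w ∈ (RingHom.ker (algebraMap Λ κ)).map (algebraMap Λ SP.Ring),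
          ∃ y, (((g.mapKer (alg := ialg) rfl).liftBaseChange Q.Ring) y).1 = w := by
        intro w hw
        change w ∈ Submodule.span SP.Ring _ at hw
        induction hw using Submodule.span_induction with
        | mem x hx =>
          obtain ⟨a, ha, rfl⟩ := hx
          exact ⟨1 ⊗ₜ ⟨a, ha⟩, by rw [LinearMap.liftBaseChange_tmul, one_smul]; rfl⟩
        | zero => exact ⟨0, by rw [map_zero]; rfl⟩
        | add x y _ _ hx hy =>
          obtain ⟨a, ha⟩ := hx
          obtain ⟨b, hb⟩ := hy
          exact ⟨a + b, by rw [map_add]; exact congrArg₂ (· + ·) ha hb⟩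
        | smul c x _ hx =>
          obtain ⟨a, ha⟩ := hx
          refine ⟨(show Q.Ring from c) • a, ?_⟩
          rw [LinearMap.map_smul]
          exact congrArg (fun w : Q.Ring => (show Q.Ring from c) • w) ha
      obtain ⟨y, hy⟩ := key z (hmem z hz)
      exact ⟨y, Subtype.ext hy⟩
  have hbij : Function.Bijective ((Algebra.Extension.H1Cotangent.map g).liftBaseChange k) :=
    (Algebra.Extension.tensorH1CotangentOfFormallyEtale (alg := ialg) g rfl
      (RingHom.formallyEtale_algebraMap.2 (inferInstance : Algebra.FormallyEtale Λ SP.Ring)) H₂).bijective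
  haveI : Algebra.FormallySmooth Λ P.Ring := inferInstanceAs (Algebra.FormallySmooth Λ Λ)
  haveI : Algebra.FormallySmooth Λ Q.Ring := inferInstanceAs (Algebra.FormallySmooth Λ SP.Ring)
  let a := Algebra.Extension.H1Cotangent.map (selfHom P)
  let b := Algebra.Extension.H1Cotangent.map (selfHom Q)
  have ha : Function.Bijective a := by
    have h := (Algebra.Extension.H1Cotangent.equivOfFormallySmooth P₀ P).bijective
    convert h using 1
    exact funext fun x => (Algebra.Extension.H1Cotangent.equivOfFormallySmooth_apply (selfHom P) x).symm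
  have hb : Function.Bijective b := by
    have h := (Algebra.Extension.H1Cotangent.equivOfFormallySmooth Q₀ Q).bijective
    convert h using 1
    exact funext fun x => (Algebra.Extension.H1Cotangent.equivOfFormallySmooth_apply (selfHom Q) x).symm
  have hab : ∀ x, b ((Algebra.H1Cotangent.map Λ Λ κ k).liftBaseChange k x) =
      (Algebra.Extension.H1Cotangent.map g).liftBaseChange k ((LinearEquiv.ofBijective a ha).baseChange κ k _ _ x) := by
    intro x
    induction x with
    | zero => simp only [map_zero]
    | add y z hy hz => simp only [map_add, hy, hz]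
    | tmul c y =>
      rw [LinearMap.liftBaseChange_tmul, map_smul, LinearEquiv.baseChange_tmul, LinearMap.liftBaseChange_tmul]
      congr 1
      exact (Algebra.Extension.H1Cotangent.map_comp_apply (Algebra.Generators.defaultHom _ _).toExtensionHom
        (selfHom Q) y).symm.trans ((LinearMap.congr_fun (Algebra.Extension.H1Cotangent.map_eq _ _) y).trans
          (Algebra.Extension.H1Cotangent.map_comp_apply (selfHom P) g y))
  refine (Function.Bijective.of_comp_iff' hb _).1 ?_
  rw [show (b ∘ _) = _ from funext hab]
  exact hbij.comp (LinearEquiv.bijective _)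

end Groth.Agent.Lib.CotTwo.SepH1
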