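import Groth.Agent.Lib.CotTwo.NoSmoothing

/-!
# Smoothness away from `t` and `T¹` killed by a power of `t`
-/

noncomputable section

universe u

open TensorProduct CotT

namespace Groth.Agent.Lib.CotTwo.SmoothAway

open NoSmooth

variable {A B : Type u} [CommRing A] [CommRing B] [Algebra A B]

/-- A homotopy-splitting by `r` transfers along a pair of morphisms of extensions. -/
theorem exists_splitting_transfer {E E' : Algebra.Extension.{u} A B} (f : E'.Hom E) (g : E.Hom E') (r : B)
    (s : E.CotangentSpace →ₗ[B] E.Cotangent) (hs : ∀ c, s (E.cotangentComplex c) = r • c) :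
    ∃ s' : E'.CotangentSpace →ₗ[B] E'.Cotangent, ∀ c, s' (E'.cotangentComplex c) = r • c := by
  refine ⟨Algebra.Extension.Cotangent.map g ∘ₗ s ∘ₗ Algebra.Extension.CotangentSpace.map f +
    r • (Algebra.Extension.Hom.sub (Algebra.Extension.Hom.id E') (g.comp f)), fun c => ?_⟩
  have h1 := LinearMap.congr_fun
    (Algebra.Extension.Cotangent.map_sub_map (Algebra.Extension.Hom.id E') (g.comp f)) c
  rw [LinearMap.sub_apply, Algebra.Extension.Cotangent.map_id, Algebra.Extension.Cotangent.map_comp] at h1
  simp only [LinearMap.comp_apply, LinearMap.id_apply, LinearMap.coe_restrictScalars] at h1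
  simp only [LinearMap.add_apply, LinearMap.comp_apply, LinearMap.smul_apply]
  rw [Algebra.Extension.CotangentSpace.map_cotangentComplex, hs, map_smul, ← h1, ← smul_add, add_sub_cancel]

variable {n : ℕ} (f : MvPolynomial (Fin n) A →ₐ[A] B) (hf : Function.Surjective f)

include hf in
/-- Morphisms between a finite presentation and the choice-free one. -/
theorem exists_homs : Nonempty ((CotT.canon A B).toExtension.Hom (Algebra.Extension.ofSurjective f hf)) ∧
    Nonempty ((Algebra.Extension.ofSurjective f hf).Hom (CotT.canon A B).toExtension) := by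
  choose sec hsec using id hf
  let g : MvPolynomial B A →ₐ[A] MvPolynomial (Fin n) A := MvPolynomial.aeval sec
  let g' : MvPolynomial (Fin n) A →ₐ[A] MvPolynomial B A := MvPolynomial.aeval fun i => MvPolynomial.X (f (MvPolynomial.X i))
  refine ⟨⟨{ toRingHom := g.toRingHom, toRingHom_algebraMap := g.commutes, algebraMap_toRingHom := fun x => ?_ }⟩,
    ⟨{ toRingHom := g'.toRingHom, toRingHom_algebraMap := g'.commutes, algebraMap_toRingHom := fun x => ?_ }⟩⟩
  · show f (g x) = algebraMap _ B x
    rw [CotT.algebraMap_toExtension]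
    exact AlgHom.congr_fun (MvPolynomial.algHom_ext (f := f.comp g) (g := MvPolynomial.aeval (CotT.canon A B).val)
      fun i => by
        rw [AlgHom.comp_apply, MvPolynomial.aeval_X, MvPolynomial.aeval_X]
        exact hsec i) x
  · show algebraMap (CotT.canon A B).toExtension.Ring B (g' x) = f x
    rw [CotT.algebraMap_toExtension]
    exact AlgHom.congr_fun (MvPolynomial.algHom_ext (f := (MvPolynomial.aeval (CotT.canon A B).val).comp g') (g := f)
      fun i => by
        rw [AlgHom.comp_apply, MvPolynomial.aeval_X, MvPolynomial.aeval_X]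
        rfl) x

include hf in
/-- A splitting of the conormal map by `r` kills `T¹`. -/
theorem smul_T1_eq_zero (r : B) (s : (Algebra.Extension.ofSurjective f hf).CotangentSpace →ₗ[B]
      (Algebra.Extension.ofSurjective f hf).Cotangent)
    (hs : ∀ c, s ((Algebra.Extension.ofSurjective f hf).cotangentComplex c) = r • c)
    {M : Type u} [AddCommGroup M] [Module B M] (x : T1 (CotT.canon A B) M) : r • x = 0 := by
  obtain ⟨⟨g⟩, ⟨g'⟩⟩ := exists_homs f hf
  obtain ⟨s', hs'⟩ := exists_splitting_transfer g g' r s hs
  obtain ⟨φ, rfl⟩ := homToT1_surjective (CotT.canon A B) M x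
  rw [← map_smul, homToT1_eq_zero_iff]
  exact ⟨φ ∘ₗ s', LinearMap.ext fun c => by
    rw [LinearMap.comp_apply, LinearMap.comp_apply, hs', map_smul, LinearMap.smul_apply]⟩

include hf in
/-- If `r` kills `T¹` with coefficients in the conormal module, then `r` splits the conormal map. -/
theorem exists_splitting_of_T1 (r : B)
    (h : ∀ x : T1 (CotT.canon A B) (Algebra.Extension.ofSurjective f hf).Cotangent, r • x = 0) :
    ∃ s : (Algebra.Extension.ofSurjective f hf).CotangentSpace →ₗ[B] (Algebra.Extension.ofSurjective f hf).Cotangent,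
      ∀ c, s ((Algebra.Extension.ofSurjective f hf).cotangentComplex c) = r • c := by
  obtain ⟨⟨g⟩, ⟨g'⟩⟩ := exists_homs f hf
  let E := Algebra.Extension.ofSurjective f hf
  have h1 := h (homToT1 (CotT.canon A B) _ (Algebra.Extension.Cotangent.map g))
  rw [← map_smul, homToT1_eq_zero_iff] at h1
  obtain ⟨ψ, hψ⟩ := h1
  refine ⟨ψ ∘ₗ Algebra.Extension.CotangentSpace.map g' +
    r • (Algebra.Extension.Hom.sub (Algebra.Extension.Hom.id E) (g.comp g')), fun c => ?_⟩
  have h2 := LinearMap.congr_fun
    (Algebra.Extension.Cotangent.map_sub_map (Algebra.Extension.Hom.id E) (g.comp g')) c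
  rw [LinearMap.sub_apply, Algebra.Extension.Cotangent.map_id, Algebra.Extension.Cotangent.map_comp] at h2
  simp only [LinearMap.comp_apply, LinearMap.id_apply, LinearMap.coe_restrictScalars] at h2
  have h3 := LinearMap.congr_fun hψ (Algebra.Extension.Cotangent.map g' c)
  rw [LinearMap.comp_apply, LinearMap.smul_apply] at h3
  simp only [LinearMap.add_apply, LinearMap.comp_apply, LinearMap.smul_apply]
  rw [Algebra.Extension.CotangentSpace.map_cotangentComplex]
  erw [h3]
  rw [← h2, ← smul_add, add_sub_cancel]

include hf in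
/-- A splitting of the conormal map by a power of `t` gives smoothness away from `t`. -/
theorem mem_smoothLocus [IsNoetherianRing A] (t : B) (N : ℕ)
    (s : (Algebra.Extension.ofSurjective f hf).CotangentSpace →ₗ[B] (Algebra.Extension.ofSurjective f hf).Cotangent)
    (hs : ∀ c, s ((Algebra.Extension.ofSurjective f hf).cotangentComplex c) = t ^ N • c) :
    (PrimeSpectrum.basicOpen t : Set (PrimeSpectrum B)) ⊆ Algebra.smoothLocus A B := by
  let E := Algebra.Extension.ofSurjective f hf
  haveI : Algebra.FiniteType A B := Algebra.FiniteType.of_surjective f hf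
  haveI : Algebra.FinitePresentation A B := Algebra.FinitePresentation.of_finiteType.1 inferInstance
  haveI : Algebra.FormallySmooth A E.Ring := (inferInstance : Algebra.FormallySmooth A (MvPolynomial (Fin n) A))
  rw [Algebra.basicOpen_subset_smoothLocus_iff]
  let L := Localization.Away t
  have hu : IsUnit (algebraMap B L (t ^ N)) := IsLocalization.map_units L (⟨t ^ N, N, rfl⟩ : Submonoid.powers t)
  refine ⟨?_, ?_⟩
  · have hwd : ∀ x y, E.toKaehler x = E.toKaehler y →
        t ^ N • x - E.cotangentComplex (s x) = t ^ N • y - E.cotangentComplex (s y) := fun x y hxy => by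
      obtain ⟨c, hc⟩ := (E.exact_cotangentComplex_toKaehler (x - y)).1 (by rw [map_sub, hxy, sub_self])
      have h1 : x = y + E.cotangentComplex c := by rw [hc, add_sub_cancel]
      rw [h1, map_add, map_add, hs, map_smul, smul_add, add_sub_add_right_eq_sub]
    choose sec hsec using E.toKaehler_surjective
    let r : Ω[B⁄A] →ₗ[B] E.CotangentSpace :=
      { toFun := fun ω => t ^ N • sec ω - E.cotangentComplex (s (sec ω))
        map_add' := fun ω ω' => by
          rw [hwd (sec (ω + ω')) (sec ω + sec ω') (by rw [hsec, map_add, hsec, hsec]), map_add, map_add, smul_add]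
          exact add_sub_add_comm _ _ _ _
        map_smul' := fun b ω => by
          simp only [RingHom.id_apply]
          rw [hwd (sec (b • ω)) (b • sec ω) (by rw [hsec, map_smul, hsec]), map_smul, map_smul, smul_sub, smul_comm] }
    have hr : E.toKaehler ∘ₗ r = t ^ N • LinearMap.id := LinearMap.ext fun ω => by
      show E.toKaehler (t ^ N • sec ω - E.cotangentComplex (s (sec ω))) = _
      rw [map_sub, map_smul, hsec, (E.exact_cotangentComplex_toKaehler _).2 ⟨_, rfl⟩, sub_zero]
      rfl
    haveI : Module.Projective L (L ⊗[B] E.CotangentSpace) := by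
      haveI : Module.Projective B E.CotangentSpace := inferInstance
      infer_instance
    haveI : Module.Projective L (L ⊗[B] Ω[B⁄A]) := by
      refine Module.Projective.of_split (M := L ⊗[B] E.CotangentSpace) (((hu.unit⁻¹ : Lˣ) : L) • r.baseChange L)
        (E.toKaehler.baseChange L) ?_
      refine TensorProduct.AlgebraTensorModule.ext fun a ω => ?_
      simp only [LinearMap.comp_apply, LinearMap.smul_apply, LinearMap.baseChange_tmul, map_smul, LinearMap.id_apply]
      rw [show E.toKaehler (r ω) = t ^ N • ω from LinearMap.congr_fun hr ω, TensorProduct.tmul_smul,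
        ← algebraMap_smul L (t ^ N), smul_smul, IsUnit.val_inv_mul, one_smul]
    haveI hloc := (isLocalizedModule_iff_isBaseChange (.powers t) L (KaehlerDifferential.map A A B L)).1 inferInstance
    exact Module.Projective.of_equiv hloc.equiv
  · refine ⟨fun x y => ?_⟩
    suffices h0 : ∀ x : Algebra.H1Cotangent A L, x = 0 by rw [h0 x, h0 y]
    intro x
    obtain ⟨⟨c, ⟨_, a, rfl⟩⟩, hc⟩ := IsLocalizedModule.surj (.powers t) (Algebra.H1Cotangent.map A A B L) x
    let e := E.equivH1CotangentOfFormallySmooth
    have h1 : t ^ N • c = 0 := by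
      obtain ⟨c', rfl⟩ := e.surjective c
      rw [← map_smul]
      refine Eq.trans (congrArg e (Subtype.ext ?_)) (map_zero e)
      show t ^ N • c'.1 = 0
      rw [← hs, show E.cotangentComplex c'.1 = 0 from c'.2, map_zero]
    have h2 := congrArg (fun z => t ^ N • z) hc
    simp only [Submonoid.smul_def] at h2
    rw [← map_smul, h1, map_zero, smul_smul, ← algebraMap_smul L] at h2
    have hu2 : IsUnit (algebraMap B L (t ^ N * t ^ a)) :=
      IsLocalization.map_units L (⟨t ^ N * t ^ a, N + a, pow_add t N a⟩ : Submonoid.powers t)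
    exact (hu2.smul_eq_zero).1 h2

end Groth.Agent.Lib.CotTwo.SmoothAway
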