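import Groth.Agent.Lib.CotTwo.Syzygetic
import Groth.Agent.Lib.Regular.Adapted
import Mathlib.RingTheory.Smooth.Basic
import Mathlib.RingTheory.RegularLocalRing.Polynomial
import Mathlib.RingTheory.Localization.Ideal

/-!
# Vanishing of `T¹` and `T²` for smooth algebras
-/

noncomputable section

universe u v w t m

open TensorProduct CotT

namespace Groth.Agent.Lib.CotTwo

section

variable {A : Type u} {B : Type v} [CommRing A] [CommRing B] [Algebra A B] {ι : Type w} {σ : Type t}
  (P : Algebra.Presentation A B ι σ)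

instance formallySmooth_ring : Algebra.FormallySmooth A P.toExtension.Ring :=
  inferInstanceAs (Algebra.FormallySmooth A (MvPolynomial ι A))

/-- `T¹` vanishes on all modules exactly for formally smooth algebras. -/
theorem subsingleton_T1_iff :
    (∀ (M : Type (max u w)) [AddCommGroup M] [Module B M], Subsingleton (T1 P M)) ↔ Algebra.FormallySmooth A B := by
  rw [P.toExtension.formallySmooth_iff_split_injection]
  constructor
  · intro h
    haveI := h P.toExtension.Cotangent
    exact (homToT1_eq_zero_iff P _ LinearMap.id).1 (Subsingleton.elim _ _)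
  · rintro ⟨l, hl⟩ M _ _
    refine ⟨fun x y => ?_⟩
    suffices h : ∀ z : T1 P M, z = 0 by rw [h x, h y]
    intro z
    obtain ⟨φ, rfl⟩ := homToT1_surjective P M z
    exact (homToT1_eq_zero_iff P M φ).2 ⟨φ ∘ₗ l, by rw [LinearMap.comp_assoc, hl, LinearMap.comp_id]⟩

theorem subsingleton_T1_of_formallySmooth [h : Algebra.FormallySmooth A B] (M : Type m) [AddCommGroup M]
    [Module B M] : Subsingleton (T1 P M) := by
  obtain ⟨l, hl⟩ := P.toExtension.formallySmooth_iff_split_injection.1 h
  refine ⟨fun x y => ?_⟩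
  suffices h : ∀ z : T1 P M, z = 0 by rw [h x, h y]
  intro z
  obtain ⟨φ, rfl⟩ := homToT1_surjective P M z
  exact (homToT1_eq_zero_iff P M φ).2 ⟨φ ∘ₗ l, by rw [LinearMap.comp_assoc, hl, LinearMap.comp_id]⟩

lemma span_range_rel : Ideal.span (Set.range (rel P)) = P.toExtension.ker :=
  P.span_range_relation_eq_ker

lemma injective_d2_of_isSyz (h : IsSyz (rel P)) : Function.Injective (d2 P) := by
  classical
  rw [injective_iff_map_eq_zero]
  intro z hz
  obtain ⟨y, rfl⟩ := Submodule.Quotient.mk_surjective _ z
  obtain ⟨q, rfl⟩ := exists_one_tmul P y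
  rw [d2_mk_tmul] at hz
  rw [mk_one_tmul_eq_zero_iff]
  show (q : relMod P) ∈ trivRel P
  refine h _ q.2 fun s => ?_
  rw [span_range_rel]
  show algebraMap P.toExtension.Ring B ((q : relMod P) s) = 0
  have h1 : (L1basis P).repr ((1 : B) ⊗ₜ (q : relMod P)) s = algebraMap P.toExtension.Ring B ((q : relMod P) s) := by
    simp [L1basis, Algebra.smul_def]
  rw [← h1, hz, map_zero, Finsupp.zero_apply]

/-- `T²` vanishes for a formally smooth algebra with syzygetic relations. -/
theorem subsingleton_T2_of_isSyz [h : Algebra.FormallySmooth A B] (hs : IsSyz (rel P)) (M : Type m)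
    [AddCommGroup M] [Module B M] : Subsingleton (T2 P M) := by
  obtain ⟨l, hl⟩ := P.toExtension.formallySmooth_iff_split_injection.1 h
  let s₀ : L0 P →ₗ[B] L1 P := P.cotangentSpaceBasis.constr B fun i =>
    Function.surjInv (toCot_surjective P) (l (P.cotangentSpaceBasis i))
  have hs₀ : toCot P ∘ₗ s₀ = l := P.cotangentSpaceBasis.ext fun i => by
    rw [LinearMap.comp_apply, Module.Basis.constr_basis, Function.surjInv_eq (toCot_surjective P)]
  let π : L1 P →ₗ[B] L1 P := LinearMap.id - s₀ ∘ₗ P.toExtension.cotangentComplex ∘ₗ toCot P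
  have hπ : ∀ x, π x ∈ LinearMap.range (d2 P) := fun x => (exact_d2_toCot P _).1 (by
    show toCot P (x - s₀ (P.toExtension.cotangentComplex (toCot P x))) = 0
    rw [map_sub, ← LinearMap.comp_apply (toCot P) s₀, hs₀, ← LinearMap.comp_apply l, hl, LinearMap.id_apply,
      sub_self])
  refine ⟨fun x y => ?_⟩
  suffices h : ∀ z : T2 P M, z = 0 by rw [h x, h y]
  intro z
  obtain ⟨ψ, rfl⟩ := Submodule.Quotient.mk_surjective _ z
  let φ : L1 P →ₗ[B] M := ψ ∘ₗ (LinearEquiv.ofInjective (d2 P) (injective_d2_of_isSyz P hs)).symm.toLinearMap ∘ₗ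
    π.codRestrict _ hπ
  refine (Submodule.Quotient.mk_eq_zero _).2 ⟨φ, LinearMap.ext fun w => ?_⟩
  refine congrArg ψ ((LinearEquiv.symm_apply_eq _).2 (Subtype.ext ?_))
  show d2 P w - s₀ (P.toExtension.cotangentComplex (toCot P (d2 P w))) = d2 P w
  rw [(exact_d2_toCot P).apply_apply_eq_zero, map_zero, map_zero, sub_zero]

end

/-- The relations of a regular algebra of finite type over a field are syzygetic. -/
theorem isSyz_rel_of_regular {k : Type u} {B : Type u} [Field k] [CommRing B] [Algebra k B] {ι : Type w} [Finite ι]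
    {σ : Type t} (P : Algebra.Presentation k B ι σ)
    (hreg : ∀ (q : Ideal B) [q.IsPrime], IsRegularLocalRing (Localization.AtPrime q)) : IsSyz (rel P) := by
  classical
  haveI : IsRegularRing P.toExtension.Ring := inferInstanceAs (IsRegularRing (MvPolynomial ι k))
  refine isSyz_of_localizations _ fun p _ hle => ?_
  let R := P.toExtension.Ring
  let f : R →+* B := algebraMap R B
  let I : Ideal R := Ideal.span (Set.range (rel P))
  have hker : I = RingHom.ker f := span_range_rel P
  let e : (R ⧸ I) ≃+* B :=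
    (Ideal.quotEquivOfEq hker).trans (RingHom.quotientKerEquivOfSurjective (f := f) (algebraMap_surjective P))
  let q : Ideal B := p.map f
  haveI : q.IsPrime := Ideal.map_isPrime_of_surjective (algebraMap_surjective P) (by rw [← hker]; exact hle)
  let S := Localization.AtPrime p
  have hM : (Algebra.algebraMapSubmonoid (R ⧸ I) p.primeCompl).map e.toMonoidHom = q.primeCompl := by
    ext b
    constructor
    · rintro ⟨_, ⟨r, hr, rfl⟩, rfl⟩ hb
      have hb' : f r ∈ p.map f := hb
      rw [← Ideal.mem_comap, Ideal.comap_map_of_surjective f (algebraMap_surjective P)] at hb'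
      refine hr (SetLike.le_def.1 (sup_le le_rfl ?_) hb')
      rw [← RingHom.ker_eq_comap_bot, ← hker]
      exact hle
    · intro hb
      obtain ⟨r, rfl⟩ := algebraMap_surjective P b
      exact ⟨_, ⟨r, fun hr => hb (Ideal.mem_map_of_mem f hr), rfl⟩, rfl⟩
  haveI : IsRegularLocalRing (Localization.AtPrime q) := hreg q
  let eloc : (S ⧸ I.map (algebraMap R S)) ≃+* Localization.AtPrime q :=
    IsLocalization.ringEquivOfRingEquiv (S ⧸ I.map (algebraMap R S)) (Localization.AtPrime q) e hM
  haveI : IsRegularLocalRing S := isRegularRing_iff.1 inferInstance p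
  haveI : IsRegularLocalRing (S ⧸ I.map (algebraMap R S)) := IsRegularLocalRing.of_ringEquiv eloc.symm
  obtain ⟨s, t, hs, hst, hlen, -⟩ := Regular.Adapted.exists_adapted _ S rfl (I.map (algebraMap R S))
  have hr := Regular.Quotient.isRegular_of_span_eq_maximalIdeal (s ++ t) hst (by rw [List.length_append]; exact hlen)
  let a : Fin s.length → S := fun i => s.get i
  have htake : ∀ i : Fin s.length, Ideal.span (a '' {j | j < i}) = Ideal.ofList ((s ++ t).take i.val) := fun i => by
    rw [List.take_append_of_le_length i.2.le]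
    refine congrArg Ideal.span (Set.ext fun x => ?_)
    constructor
    · rintro ⟨j, hj, rfl⟩
      exact List.mem_take_iff_getElem.2 ⟨j.val, lt_min (Fin.lt_def.1 hj) j.2, rfl⟩
    · intro hx
      obtain ⟨n, hn, hnx⟩ := List.mem_take_iff_getElem.1 hx
      exact ⟨⟨n, (lt_min_iff.1 hn).2⟩, Fin.lt_def.2 (lt_min_iff.1 hn).1, hnx⟩
  have hsyz : IsSyz a := isSyz_of_regular a fun i x hx => by
    rw [htake] at hx ⊢
    have hi : i.val < (s ++ t).length := by rw [List.length_append]; omega
    have h1 := hr.regular_mod_prev i.val hi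
    have htop : (Ideal.ofList ((s ++ t).take i.val) • ⊤ : Submodule S S) = Ideal.ofList ((s ++ t).take i.val) := by
      rw [smul_eq_mul, Ideal.mul_top]
    rw [isSMulRegular_quotient_iff_mem_of_smul_mem, htop] at h1
    refine h1 x ?_
    rw [List.getElem_append_left i.2, smul_eq_mul]
    exact hx
  refine hsyz.of_span_eq ?_
  have hra : Set.range a = {x | x ∈ s} := Set.ext fun x => ⟨fun ⟨i, hi⟩ => hi ▸ List.get_mem s i,
    fun hx => List.get_of_mem hx⟩
  rw [hra]
  show _ = Ideal.ofList s
  rw [hs, Ideal.map_span, ← Set.range_comp]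
  rfl

end Groth.Agent.Lib.CotTwo
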