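import Groth.Agent.Lib.CotTwo.NoSmoothing
import Mathlib.Algebra.TrivSqZeroExt.Basic

/-!
# Conormal sequences of square-zero extensions of a generically smooth reduced algebra
-/

noncomputable section

universe u

open TensorProduct

namespace Groth.Agent.Lib.CotTwo.SqZeroConormal

variable {A B : Type u} [CommRing A] [CommRing B] [Algebra A B]

/-- A splitting for a presentation gives one for any extension. -/
theorem exists_retraction_pow {n : ℕ} (f : MvPolynomial (Fin n) A →ₐ[A] B) (hf : Function.Surjective f) (r : B)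
    (s : (Algebra.Extension.ofSurjective f hf).CotangentSpace →ₗ[B] (Algebra.Extension.ofSurjective f hf).Cotangent)
    (hs : ∀ c, s ((Algebra.Extension.ofSurjective f hf).cotangentComplex c) = r • c)
    (P : Algebra.Extension.{u} A B) :
    ∃ ρ : P.CotangentSpace →ₗ[B] P.Cotangent, ∀ c, ρ (P.cotangentComplex c) = r • c := by
  let E := Algebra.Extension.ofSurjective f hf
  choose w hw using fun i => P.algebraMap_surjective (f (MvPolynomial.X i))
  let u : MvPolynomial (Fin n) A →ₐ[A] P.Ring := MvPolynomial.aeval w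
  have hu : ∀ p : MvPolynomial (Fin n) A, algebraMap P.Ring B (u p) = f p := fun p => by
    have h1 : (IsScalarTower.toAlgHom A P.Ring B).comp u = f := MvPolynomial.algHom_ext fun i => by
      rw [AlgHom.comp_apply, MvPolynomial.aeval_X]
      exact hw i
    exact AlgHom.congr_fun h1 p
  let g : E.Hom P := { toRingHom := u.toRingHom, toRingHom_algebraMap := u.commutes, algebraMap_toRingHom := hu }
  choose sec hsec using fun x : P.Ring =>
    (show ∃ p : E.Ring, algebraMap E.Ring B p = algebraMap P.Ring B x from hf (algebraMap P.Ring B x))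
  let v : E.Ring → P.Ring := g.toRingHom
  have hv : ∀ p : E.Ring, algebraMap P.Ring B (v p) = algebraMap E.Ring B p := hu
  let D : E.Ring → P.Cotangent := fun p =>
    Algebra.Extension.Cotangent.map g (s ((1 : B) ⊗ₜ KaehlerDifferential.D A E.Ring p))
  have hDadd : ∀ p q, D (p + q) = D p + D q := fun p q => by
    simp only [D, map_add, TensorProduct.tmul_add]
  have hDmul : ∀ p q, D (p * q) = algebraMap E.Ring B p • D q + algebraMap E.Ring B q • D p := fun p q => by
    simp only [D, Derivation.leibniz, map_add, TensorProduct.tmul_add, TensorProduct.tmul_smul,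
      ← algebraMap_smul B p, ← algebraMap_smul B q, map_smul]
  have hDC : ∀ a : A, D (algebraMap A E.Ring a) = 0 := fun a => by
    simp only [D, Derivation.map_algebraMap, TensorProduct.tmul_zero, map_zero]
  have hker : ∀ (x : P.Ring) (p : E.Ring), algebraMap E.Ring B p = algebraMap P.Ring B x → x - v p ∈ P.ker :=
    fun x p hp => by
      show algebraMap P.Ring B (x - v p) = 0
      rw [map_sub, hv, hp, sub_self]
  let δ : P.Ring → P.Cotangent := fun x =>
    r • Algebra.Extension.Cotangent.mk ⟨x - v (sec x), hker x (sec x) (hsec x)⟩ + D (sec x)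
  have key : ∀ (x : P.Ring) (p : E.Ring) (hp : algebraMap E.Ring B p = algebraMap P.Ring B x),
      δ x = r • Algebra.Extension.Cotangent.mk ⟨x - v p, hker x p hp⟩ + D p := by
    intro x p hp
    let p₀ : E.Ring := sec x
    have hi : p₀ - p ∈ E.ker := by
      show algebraMap E.Ring B (p₀ - p) = 0
      rw [map_sub, hp, show algebraMap E.Ring B p₀ = algebraMap P.Ring B x from hsec x, sub_self]
    have h1 : D p₀ = D p + D (p₀ - p) := by rw [← hDadd, add_sub_cancel]
    have h2 : D (p₀ - p) = r • Algebra.Extension.Cotangent.mk ⟨v (p₀ - p), by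
        show algebraMap P.Ring B (v (p₀ - p)) = 0
        rw [hv]; exact hi⟩ := by
      show Algebra.Extension.Cotangent.map g (s _) = _
      rw [← E.cotangentComplex_mk ⟨p₀ - p, hi⟩, hs, map_smul, Algebra.Extension.Cotangent.map_mk]
      rfl
    have hz : (⟨x - v p, hker x p hp⟩ : P.ker) = ⟨x - v p₀, hker x p₀ (hsec x)⟩ + ⟨v (p₀ - p), by
        show algebraMap P.Ring B (v (p₀ - p)) = 0
        rw [hv]; exact hi⟩ := Subtype.ext (by
      show x - v p = x - v p₀ + g.toRingHom (p₀ - p)
      rw [map_sub]
      show x - v p = x - v p₀ + (v p₀ - v p)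
      ring)
    rw [hz, map_add, smul_add]
    show r • _ + D p₀ = _
    rw [h1, h2]
    abel
  let Der : Derivation A P.Ring P.Cotangent :=
    Derivation.mk'
      { toFun := δ
        map_add' := fun x y => by
          rw [key (x + y) (sec x + sec y : E.Ring) (by rw [map_add, map_add]; exact congrArg₂ (· + ·) (hsec x) (hsec y)), hDadd]
          have hz : (⟨x + y - v (sec x + sec y : E.Ring), hker (x + y) _ (by rw [map_add, map_add]; exact congrArg₂ (· + ·) (hsec x) (hsec y))⟩ : P.ker) =
              ⟨x - v (sec x), hker x _ (hsec x)⟩ + ⟨y - v (sec y), hker y _ (hsec y)⟩ := Subtype.ext (by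
            show x + y - g.toRingHom ((sec x : E.Ring) + sec y) = x - v (sec x) + (y - v (sec y))
            rw [map_add]
            exact add_sub_add_comm _ _ _ _)
          rw [hz, map_add, smul_add]
          exact add_add_add_comm _ _ _ _
        map_smul' := fun a x => by
          simp only [RingHom.id_apply]
          have hp : algebraMap E.Ring B (algebraMap A E.Ring a * sec x) = algebraMap P.Ring B (a • x) := by
            rw [map_mul, ← IsScalarTower.algebraMap_apply, Algebra.smul_def, map_mul, ← IsScalarTower.algebraMap_apply]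
            exact congrArg (_ * ·) (hsec x)
          rw [key (a • x) _ hp, hDmul, hDC, smul_zero, add_zero, ← IsScalarTower.algebraMap_apply, algebraMap_smul]
          have hz : (⟨a • x - v (algebraMap A E.Ring a * sec x : E.Ring), hker _ _ hp⟩ : P.ker) =
              algebraMap A P.Ring a • ⟨x - v (sec x), hker x _ (hsec x)⟩ := Subtype.ext (by
            show a • x - g.toRingHom (algebraMap A E.Ring a * sec x) = algebraMap A P.Ring a * (x - v (sec x))
            rw [map_mul, g.toRingHom_algebraMap, Algebra.smul_def, mul_sub]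
            rfl)
          rw [hz, map_smul, ← algebraMap_smul B (algebraMap A P.Ring a), ← IsScalarTower.algebraMap_apply, algebraMap_smul,
            smul_add, smul_comm] }
      fun x y => by
        show δ (x * y) = x • δ y + y • δ x
        let p : E.Ring := sec x
        let q : E.Ring := sec y
        have hp : algebraMap E.Ring B (p * q) = algebraMap P.Ring B (x * y) := by
          rw [map_mul, map_mul]; exact congrArg₂ (· * ·) (hsec x) (hsec y)
        rw [key (x * y) _ hp, hDmul]
        have hz : (⟨x * y - v (p * q), hker _ _ hp⟩ : P.ker) =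
            x • ⟨y - v q, hker y _ (hsec y)⟩ + v q • ⟨x - v p, hker x _ (hsec x)⟩ := Subtype.ext (by
          show x * y - g.toRingHom (p * q) = x * (y - v q) + v q * (x - v p)
          rw [map_mul]
          show x * y - v p * v q = _
          ring)
        have hxp : algebraMap E.Ring B p = algebraMap P.Ring B x := hsec x
        have hyq : algebraMap E.Ring B q = algebraMap P.Ring B y := hsec y
        have hs1 : ∀ (z : P.Ring) (c : P.Cotangent), z • c = algebraMap P.Ring B z • c :=
          fun z c => (algebraMap_smul B z c).symm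
        rw [hz, map_add, map_smul, map_smul, hs1 (v q), hs1 x, hs1 x, hs1 y, hv, hxp, hyq]
        simp only [δ, smul_add, smul_comm r]
        abel
  refine ⟨(Der.liftKaehlerDifferential).liftBaseChange B, fun c => ?_⟩
  obtain ⟨⟨i, hi⟩, rfl⟩ := Algebra.Extension.Cotangent.mk_surjective c
  rw [P.cotangentComplex_mk, LinearMap.liftBaseChange_tmul, one_smul, Derivation.liftKaehlerDifferential_comp_D]
  show δ i = _
  rw [key i 0 (by rw [map_zero]; exact hi.symm)]
  have hD0 : D 0 = 0 := by rw [← map_zero (algebraMap A E.Ring)]; exact hDC 0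
  rw [hD0, add_zero]
  congr 2
  exact Subtype.ext (by show i - g.toRingHom 0 = i; rw [map_zero, sub_zero])

/-- Conormal sequences of extensions by projective modules are exact on the left. -/
theorem injective_cotangentComplex [IsNoetherianRing A] [Algebra.FiniteType A B] [IsReduced B]
    (hsm : ∀ p : PrimeSpectrum B, p.asIdeal ∈ minimalPrimes B → Algebra.IsSmoothAt A p.asIdeal)
    (P : Algebra.Extension.{u} A B) [Module.Finite B P.Cotangent] [Module.Projective B P.Cotangent] :
    Function.Injective P.cotangentComplex := by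
  classical
  obtain ⟨n, f, hf⟩ := Algebra.FiniteType.iff_quotient_mvPolynomial''.1 ‹Algebra.FiniteType A B›
  haveI : Algebra.FinitePresentation A B := Algebra.FinitePresentation.of_finiteType.1 inferInstance
  obtain ⟨i, hi⟩ := Module.projective_def.1 (inferInstance : Module.Projective B P.Cotangent)
  refine (injective_iff_map_eq_zero _).2 fun x hx => hi.injective ?_
  refine (Finsupp.ext fun j => ?_).trans (map_zero i).symm
  rw [Finsupp.zero_apply]
  refine isNilpotent_iff_eq_zero.1 ?_
  show i x j ∈ nilradical B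
  have hn : nilradical B = sInf (minimalPrimes B) := (Ideal.sInf_minimalPrimes).symm
  rw [hn, Ideal.mem_sInf]
  intro q hq
  obtain ⟨_, ⟨_, ⟨t, rfl⟩, rfl⟩, htq, hts⟩ := PrimeSpectrum.isBasis_basic_opens.exists_subset_of_mem_open
    (show (⟨q, hq.1.1⟩ : PrimeSpectrum B) ∈ Algebra.smoothLocus A B from hsm _ hq) Algebra.isOpen_smoothLocus
  obtain ⟨N, s, hs⟩ := NoSmooth.exists_splitting_pow f hf t hts
  obtain ⟨ρ, hρ⟩ := exists_retraction_pow f hf _ s hs P
  have h1 : t ^ N • x = 0 := by rw [← hρ, hx, map_zero]
  have h2 : t ^ N * i x j ∈ q := by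
    rw [← smul_eq_mul, ← Finsupp.smul_apply, ← map_smul, h1, map_zero, Finsupp.zero_apply]
    exact zero_mem _
  exact (hq.1.1.mem_or_mem h2).resolve_left fun h => (PrimeSpectrum.mem_basicOpen _ _).1 htq (hq.1.1.mem_of_pow_mem N h)

variable (P : Algebra.Extension.{u} A B)

/-- The conormal class of a kernel element of a square-zero extension determines it. -/
lemma mk_injective (hsq : P.ker ^ 2 = ⊥) {x : P.ker} (hx : Algebra.Extension.Cotangent.mk x = 0) : x = 0 := by
  have h1 : P.ker.toCotangent x = 0 := congrArg Algebra.Extension.Cotangent.val hx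
  rw [Ideal.toCotangent_eq_zero, hsq] at h1
  exact Subtype.ext ((Submodule.mem_bot _).1 h1)

/-- A square-zero extension with injective conormal map is the fibre product of `B` and its differentials. -/
lemma eq_of_proj_d (hsq : P.ker ^ 2 = ⊥) (hinj : Function.Injective P.cotangentComplex) {x y : P.Ring}
    (h1 : algebraMap P.Ring B x = algebraMap P.Ring B y)
    (h2 : (1 : B) ⊗ₜ[P.Ring] KaehlerDifferential.D A P.Ring x = (1 : B) ⊗ₜ KaehlerDifferential.D A P.Ring y) : x = y := by
  have hm : x - y ∈ P.ker := by
    show algebraMap P.Ring B (x - y) = 0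
    rw [map_sub, h1, sub_self]
  have h3 : P.cotangentComplex (Algebra.Extension.Cotangent.mk ⟨x - y, hm⟩) = P.cotangentComplex 0 := by
    rw [P.cotangentComplex_mk, map_zero]
    show (1 : B) ⊗ₜ[P.Ring] KaehlerDifferential.D A P.Ring (x - y) = 0
    rw [map_sub, TensorProduct.tmul_sub, h2, sub_self]
  exact sub_eq_zero.1 (congrArg Subtype.val (mk_injective P hsq (hinj h3)))

/-- Every pair of a function and a compatible differential comes from the extension. -/
lemma exists_proj_d (b : B) (ω : P.CotangentSpace) (h : P.toKaehler ω = KaehlerDifferential.D A B b) :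
    ∃ x : P.Ring, algebraMap P.Ring B x = b ∧ (1 : B) ⊗ₜ KaehlerDifferential.D A P.Ring x = ω := by
  obtain ⟨x, rfl⟩ := P.algebraMap_surjective b
  obtain ⟨c, hc⟩ := (P.exact_cotangentComplex_toKaehler (ω - (1 : B) ⊗ₜ KaehlerDifferential.D A P.Ring x)).1 (by
    rw [map_sub, h]
    simp [Algebra.Extension.toKaehler])
  obtain ⟨i, rfl⟩ := Algebra.Extension.Cotangent.mk_surjective c
  rw [P.cotangentComplex_mk] at hc
  refine ⟨x + i.1, by rw [map_add, show algebraMap P.Ring B i.1 = 0 from i.2, add_zero], ?_⟩
  rw [map_add, TensorProduct.tmul_add, hc, add_sub_cancel]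

variable {P}

/-- Extensions with isomorphic conormal sequences are isomorphic. -/
theorem exists_hom_bijective (P' : Algebra.Extension.{u} A B) (hsq : P.ker ^ 2 = ⊥) (hsq' : P'.ker ^ 2 = ⊥)
    (hinj : Function.Injective P.cotangentComplex) (hinj' : Function.Injective P'.cotangentComplex)
    (e₁ : P.Cotangent ≃ₗ[B] P'.Cotangent) (e₂ : P.CotangentSpace ≃ₗ[B] P'.CotangentSpace)
    (h₁ : ∀ x, e₂ (P.cotangentComplex x) = P'.cotangentComplex (e₁ x))
    (h₂ : ∀ y, P'.toKaehler (e₂ y) = P.toKaehler y) :
    ∃ f : P.Hom P', Function.Bijective f.toRingHom ∧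
      Algebra.Extension.Cotangent.map f = e₁.toLinearMap := by
  have hd : ∀ (Q : Algebra.Extension.{u} A B) (x : Q.Ring),
      Q.toKaehler ((1 : B) ⊗ₜ KaehlerDifferential.D A Q.Ring x) = KaehlerDifferential.D A B (algebraMap Q.Ring B x) :=
    fun Q x => by simp [Algebra.Extension.toKaehler]
  choose F hF1 hF2 using fun x : P.Ring => exists_proj_d P' (algebraMap P.Ring B x)
    (e₂ ((1 : B) ⊗ₜ KaehlerDifferential.D A P.Ring x)) (by rw [h₂, hd])
  have hleib : ∀ (Q : Algebra.Extension.{u} A B) (x y : Q.Ring),
      (1 : B) ⊗ₜ[Q.Ring] KaehlerDifferential.D A Q.Ring (x * y) =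
        algebraMap Q.Ring B x • ((1 : B) ⊗ₜ[Q.Ring] KaehlerDifferential.D A Q.Ring y) +
        algebraMap Q.Ring B y • ((1 : B) ⊗ₜ[Q.Ring] KaehlerDifferential.D A Q.Ring x) := fun Q x y => by
    rw [Derivation.leibniz, TensorProduct.tmul_add, TensorProduct.tmul_smul, TensorProduct.tmul_smul,
      algebraMap_smul, algebraMap_smul]
  let f : P.Ring →+* P'.Ring :=
    { toFun := F
      map_one' := eq_of_proj_d P' hsq' hinj' (by rw [hF1, map_one, map_one])
        (by rw [hF2, Derivation.map_one_eq_zero, TensorProduct.tmul_zero, map_zero, Derivation.map_one_eq_zero,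
          TensorProduct.tmul_zero])
      map_mul' := fun x y => eq_of_proj_d P' hsq' hinj' (by rw [hF1, map_mul, map_mul, hF1, hF1])
        (by rw [hF2, hleib, map_add, map_smul, map_smul, hleib, hF2, hF2, hF1, hF1])
      map_zero' := eq_of_proj_d P' hsq' hinj' (by rw [hF1, map_zero, map_zero])
        (by rw [hF2, map_zero, TensorProduct.tmul_zero, map_zero, map_zero, TensorProduct.tmul_zero])
      map_add' := fun x y => eq_of_proj_d P' hsq' hinj' (by rw [hF1, map_add, map_add, hF1, hF1])
        (by rw [hF2, map_add, TensorProduct.tmul_add, map_add, map_add, TensorProduct.tmul_add, hF2, hF2]) }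
  let hom : P.Hom P' :=
    { toRingHom := f
      toRingHom_algebraMap := fun a => eq_of_proj_d P' hsq' hinj'
        (by show algebraMap P'.Ring B (F _) = _
            rw [hF1, ← IsScalarTower.algebraMap_apply, ← IsScalarTower.algebraMap_apply]; rfl)
        (by show _ ⊗ₜ KaehlerDifferential.D A P'.Ring (F _) = _
            rw [hF2, Derivation.map_algebraMap, TensorProduct.tmul_zero, map_zero]
            simp)
      algebraMap_toRingHom := fun x => hF1 x }
  refine ⟨hom, ⟨fun x y hxy => ?_, fun x' => ?_⟩, LinearMap.ext fun c => hinj' ?_⟩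
  · change F x = F y at hxy
    exact eq_of_proj_d P hsq hinj (by rw [← hF1 x, hxy, hF1]) (e₂.injective (by rw [← hF2, hxy, hF2]))
  · obtain ⟨x, hx1, hx2⟩ := exists_proj_d P (algebraMap P'.Ring B x')
      (e₂.symm ((1 : B) ⊗ₜ KaehlerDifferential.D A P'.Ring x')) (by rw [← h₂, LinearEquiv.apply_symm_apply, hd])
    refine ⟨x, eq_of_proj_d P' hsq' hinj' ((hF1 x).trans hx1) ?_⟩
    show _ ⊗ₜ KaehlerDifferential.D A P'.Ring (F x) = _
    rw [hF2, hx2, LinearEquiv.apply_symm_apply]
  · obtain ⟨i, rfl⟩ := Algebra.Extension.Cotangent.mk_surjective c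
    rw [LinearEquiv.coe_coe, ← h₁, Algebra.Extension.Cotangent.map_mk, P'.cotangentComplex_mk, P.cotangentComplex_mk]
    exact hF2 i.1

attribute [local instance] Exal.opModule Exal.isCentralScalar_opModule

/-- Every extension of the differentials by a projective module is a conormal sequence. -/
theorem exists_extension [IsNoetherianRing A] [Algebra.FiniteType A B] [IsReduced B]
    (hsm : ∀ p : PrimeSpectrum B, p.asIdeal ∈ minimalPrimes B → Algebra.IsSmoothAt A p.asIdeal)
    (M N : Type u) [AddCommGroup M] [Module B M] [Module.Finite B M] [Module.Projective B M]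
    [AddCommGroup N] [Module B N]
    (i : M →ₗ[B] N) (q : N →ₗ[B] Ω[B⁄A]) (hi : Function.Injective i) (hq : Function.Surjective q)
    (hex : Function.Exact i q) :
    ∃ P : Algebra.Extension.{u} A B, P.ker ^ 2 = ⊥ ∧
      ∃ (e₁ : P.Cotangent ≃ₗ[B] M) (e₂ : P.CotangentSpace ≃ₗ[B] N),
        (∀ x, e₂ (P.cotangentComplex x) = i (e₁ x)) ∧ (∀ y, q (e₂ y) = P.toKaehler y) := by
  letI : Module A N := Module.compHom N (algebraMap A B)
  haveI : IsScalarTower A B N := IsScalarTower.of_compHom A B N
  let T := TrivSqZeroExt B N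
  let S : Subalgebra A T :=
    { carrier := {z | q (TrivSqZeroExt.snd z) = KaehlerDifferential.D A B (TrivSqZeroExt.fst z)}
      mul_mem' := fun {a b} ha hb => by
        show q (TrivSqZeroExt.snd (a * b)) = KaehlerDifferential.D A B (TrivSqZeroExt.fst (a * b))
        rw [TrivSqZeroExt.snd_mul, TrivSqZeroExt.fst_mul, Derivation.leibniz, map_add, map_smul, op_smul_eq_smul,
          map_smul, show q (TrivSqZeroExt.snd a) = _ from ha, show q (TrivSqZeroExt.snd b) = _ from hb]
      add_mem' := fun {a b} ha hb => by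
        show q (TrivSqZeroExt.snd (a + b)) = KaehlerDifferential.D A B (TrivSqZeroExt.fst (a + b))
        rw [TrivSqZeroExt.snd_add, TrivSqZeroExt.fst_add, map_add, map_add,
          show q (TrivSqZeroExt.snd a) = _ from ha, show q (TrivSqZeroExt.snd b) = _ from hb]
      algebraMap_mem' := fun a => by
        show q (TrivSqZeroExt.snd (TrivSqZeroExt.inl (M := N) (algebraMap A B a))) =
          KaehlerDifferential.D A B (TrivSqZeroExt.fst (TrivSqZeroExt.inl (M := N) (algebraMap A B a)))
        rw [TrivSqZeroExt.snd_inl, TrivSqZeroExt.fst_inl, map_zero, Derivation.map_algebraMap] }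
  let pr : S →ₐ[A] B := (TrivSqZeroExt.fstHom A B N).comp S.val
  have hpr : Function.Surjective pr := fun b => by
    obtain ⟨n, hn⟩ := hq (KaehlerDifferential.D A B b)
    exact ⟨⟨((b, n) : B × N), hn⟩, rfl⟩
  let P : Algebra.Extension.{u} A B := Algebra.Extension.ofSurjective pr hpr
  have hsq : P.ker ^ 2 = ⊥ := by
    rw [pow_two, eq_bot_iff, Ideal.mul_le]
    intro a ha b hb
    have ha' : TrivSqZeroExt.fst (S.val a) = 0 := ha
    have hb' : TrivSqZeroExt.fst (S.val b) = 0 := hb
    refine (Submodule.mem_bot _).2 (Subtype.ext (TrivSqZeroExt.ext ?_ ?_))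
    · show TrivSqZeroExt.fst (S.val a * S.val b) = 0
      rw [TrivSqZeroExt.fst_mul, ha', zero_mul]
    · show TrivSqZeroExt.snd (S.val a * S.val b) = 0
      rw [TrivSqZeroExt.snd_mul, ha', hb', zero_smul, MulOpposite.op_zero, zero_smul, add_zero]
  letI : Module P.Ring N := Module.compHom N (algebraMap P.Ring B)
  haveI : IsScalarTower P.Ring B N := IsScalarTower.of_compHom P.Ring B N
  haveI : IsScalarTower P.Ring B B := inferInstance
  haveI : IsScalarTower A P.Ring N := ⟨fun a x z => by
    show algebraMap P.Ring B (a • x) • z = algebraMap A B a • (algebraMap P.Ring B x • z)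
    rw [Algebra.smul_def, map_mul, ← IsScalarTower.algebraMap_apply, mul_smul]⟩
  let sn : P.Ring → N := fun z => TrivSqZeroExt.snd (S.val z)
  let Der : Derivation A P.Ring N := Derivation.mk'
    { toFun := sn
      map_add' := fun _ _ => rfl
      map_smul' := fun a z => by
        show TrivSqZeroExt.snd (a • S.val z) = algebraMap A B a • TrivSqZeroExt.snd (S.val z)
        rw [Algebra.smul_def]
        show TrivSqZeroExt.snd (TrivSqZeroExt.inl (algebraMap A B a) * S.val z) = _
        rw [TrivSqZeroExt.snd_mul, TrivSqZeroExt.fst_inl, TrivSqZeroExt.snd_inl]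
        simp }
    fun x y => by
      show TrivSqZeroExt.snd (S.val x * S.val y) = algebraMap P.Ring B x • sn y + algebraMap P.Ring B y • sn x
      rw [TrivSqZeroExt.snd_mul, op_smul_eq_smul]
      rfl
  let κ : P.CotangentSpace →ₗ[B] N := Der.liftKaehlerDifferential.liftBaseChange B
  have hκ : ∀ z : P.Ring, κ ((1 : B) ⊗ₜ KaehlerDifferential.D A P.Ring z) = sn z := fun z => by
    simp only [κ, LinearMap.liftBaseChange_tmul, one_smul, Derivation.liftKaehlerDifferential_comp_D]
    rfl
  have hqκ : ∀ y, q (κ y) = P.toKaehler y := by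
    refine LinearMap.congr_fun (TensorProduct.AlgebraTensorModule.ext fun b w => ?_ : q ∘ₗ κ = P.toKaehler)
    rw [LinearMap.comp_apply, ← mul_one b, ← smul_eq_mul, ← TensorProduct.smul_tmul', map_smul, map_smul, map_smul]
    congr 1
    induction (KaehlerDifferential.span_range_derivation A P.Ring).ge (Submodule.mem_top : w ∈ ⊤) using
      Submodule.span_induction with
    | mem w hw =>
      obtain ⟨z, rfl⟩ := hw
      rw [hκ]
      show q (TrivSqZeroExt.snd (S.val z)) = _
      rw [show q (TrivSqZeroExt.snd (S.val z)) = KaehlerDifferential.D A B (TrivSqZeroExt.fst (S.val z)) from z.2]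
      simp [Algebra.Extension.toKaehler]
      rfl
    | zero => simp
    | add v w _ _ hv hw => simp only [TensorProduct.tmul_add, map_add, hv, hw]
    | smul r w _ hw =>
      rw [TensorProduct.tmul_smul, ← algebraMap_smul B r, map_smul, map_smul, hw, map_smul]
  have hm : ∀ m : M, (TrivSqZeroExt.inr (i m) : T) ∈ S := fun m => by
    show q (TrivSqZeroExt.snd _) = KaehlerDifferential.D A B (TrivSqZeroExt.fst _)
    rw [TrivSqZeroExt.snd_inr, TrivSqZeroExt.fst_inr, map_zero, hex.apply_apply_eq_zero]
  let toKer : M → P.ker := fun m => ⟨⟨TrivSqZeroExt.inr (i m), hm m⟩, TrivSqZeroExt.fst_inr B (i m)⟩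
  let j : M →ₗ[B] P.Cotangent :=
    { toFun := fun m => Algebra.Extension.Cotangent.mk (toKer m)
      map_add' := fun m m' => by
        rw [← map_add]
        refine congrArg _ (Subtype.ext (Subtype.ext ?_))
        show TrivSqZeroExt.inr (i (m + m')) = TrivSqZeroExt.inr (i m) + TrivSqZeroExt.inr (i m')
        rw [map_add, TrivSqZeroExt.inr_add]
      map_smul' := fun b m => by
        obtain ⟨z, rfl⟩ := P.algebraMap_surjective b
        simp only [RingHom.id_apply]
        rw [algebraMap_smul B z (Algebra.Extension.Cotangent.mk (toKer m)), ← map_smul]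
        refine congrArg _ (Subtype.ext (Subtype.ext ?_))
        show TrivSqZeroExt.inr (i (algebraMap P.Ring B z • m)) = S.val z * TrivSqZeroExt.inr (i m)
        refine TrivSqZeroExt.ext ?_ ?_
        · rw [TrivSqZeroExt.fst_inr, TrivSqZeroExt.fst_mul, TrivSqZeroExt.fst_inr, mul_zero]
        · rw [TrivSqZeroExt.snd_inr, TrivSqZeroExt.snd_mul, TrivSqZeroExt.snd_inr, TrivSqZeroExt.fst_inr,
            MulOpposite.op_zero, zero_smul, add_zero, map_smul]
          rfl }
  have hjinj : Function.Injective j := (injective_iff_map_eq_zero j).2 fun m hm0 => hi (by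
    have h1 := congrArg (fun z : P.ker => TrivSqZeroExt.snd (S.val z.1)) (mk_injective P hsq hm0)
    rw [map_zero]
    exact (TrivSqZeroExt.snd_inr B (i m)).symm.trans h1)
  have hjsurj : Function.Surjective j := fun c => by
    obtain ⟨⟨z, hz⟩, rfl⟩ := Algebra.Extension.Cotangent.mk_surjective c
    have hz0 : TrivSqZeroExt.fst (S.val z) = 0 := hz
    have h1 : q (TrivSqZeroExt.snd (S.val z)) = KaehlerDifferential.D A B (TrivSqZeroExt.fst (S.val z)) := z.2
    rw [hz0, map_zero] at h1
    obtain ⟨m, hm'⟩ := (hex _).1 h1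
    exact ⟨m, congrArg Algebra.Extension.Cotangent.mk (Subtype.ext (Subtype.ext (TrivSqZeroExt.ext
      ((TrivSqZeroExt.fst_inr B (i m)).trans hz0.symm) ((TrivSqZeroExt.snd_inr B (i m)).trans hm'))))⟩
  let e₁ : P.Cotangent ≃ₗ[B] M := (LinearEquiv.ofBijective j ⟨hjinj, hjsurj⟩).symm
  haveI : Module.Finite B P.Cotangent := Module.Finite.equiv e₁.symm
  haveI : Module.Projective B P.Cotangent := Module.Projective.of_equiv e₁.symm
  have hd := injective_cotangentComplex hsm P
  have hκd : ∀ x, κ (P.cotangentComplex x) = i (e₁ x) := fun x => by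
    obtain ⟨m, rfl⟩ := hjsurj x
    rw [show e₁ (j m) = m from (LinearEquiv.ofBijective j ⟨hjinj, hjsurj⟩).symm_apply_apply m]
    show κ (P.cotangentComplex (Algebra.Extension.Cotangent.mk (toKer m))) = i m
    rw [P.cotangentComplex_mk, hκ]
    exact TrivSqZeroExt.snd_inr B _
  have hκbij : Function.Bijective κ := by
    refine ⟨(injective_iff_map_eq_zero κ).2 fun y hy => ?_, fun n => ?_⟩
    · obtain ⟨x, rfl⟩ := (P.exact_cotangentComplex_toKaehler y).1 (by rw [← hqκ, hy, map_zero])
      rw [hκd] at hy
      rw [e₁.injective ((hi (hy.trans (map_zero i).symm)).trans (map_zero e₁).symm), map_zero]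
    · obtain ⟨y, hy⟩ := P.toKaehler_surjective (q n)
      obtain ⟨m, hm'⟩ := (hex (n - κ y)).1 (by rw [map_sub, hqκ, hy, sub_self])
      refine ⟨y + P.cotangentComplex (j m), ?_⟩
      rw [map_add, hκd, show e₁ (j m) = m from (LinearEquiv.ofBijective j ⟨hjinj, hjsurj⟩).symm_apply_apply m, hm',
        add_sub_cancel]
  exact ⟨P, hsq, e₁, LinearEquiv.ofBijective κ hκbij, hκd, hqκ⟩

end Groth.Agent.Lib.CotTwo.SqZeroConormal
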