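import Groth.Agent.Lib.CotTwo.SmoothVanish

/-!
# Syzygetic at a prime
-/

noncomputable section

universe u v w t

open TensorProduct CotT

namespace Groth.Agent.Lib.CotTwo

/-- A relation with coefficients in the ideal is trivial up to a unit at a syzygetic prime. -/
theorem exists_smul_mem_triv {R : Type u} [CommRing R] {σ : Type t} (f : σ → R) (p : Ideal R) [p.IsPrime]
    (h : IsSyz (fun s => algebraMap R (Localization.AtPrime p) (f s))) (q : σ →₀ R)
    (hq : Finsupp.linearCombination R f q = 0) (hqJ : ∀ s, q s ∈ Ideal.span (Set.range f)) :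
    ∃ d, d ∉ p ∧ d • q ∈ triv f := by
  classical
  let T : Ideal R := Submodule.comap (LinearMap.toSpanSingleton R (σ →₀ R) q) (triv f)
  let S := Localization.AtPrime p
  let φ : (σ →₀ R) →ₗ[R] (σ →₀ S) := Finsupp.mapRange.linearMap (Algebra.linearMap R S)
  have hφlc : ∀ y, Finsupp.linearCombination S (fun s => algebraMap R S (f s)) (φ y) =
      algebraMap R S (Finsupp.linearCombination R f y) := fun y => by
    induction y using Finsupp.induction_linear with
    | zero => simp
    | add a b ha hb => rw [map_add, map_add, map_add, map_add, ha, hb]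
    | single s c =>
      simp only [φ, Finsupp.mapRange.linearMap_apply, Finsupp.mapRange_single, Algebra.linearMap_apply,
        Finsupp.linearCombination_single, smul_eq_mul, map_mul]
  have hφsmul : ∀ (c : R) y, φ (c • y) = algebraMap R S c • φ y := fun c y => by
    rw [map_smul, algebraMap_smul]
  have hclear : ∀ y : σ →₀ S, ∃ (d : p.primeCompl) (z : σ →₀ R), algebraMap R S d • y = φ z := fun y => by
    induction y using Finsupp.induction_linear with
    | zero => exact ⟨1, 0, by rw [map_zero, smul_zero]⟩
    | add a b ha hb =>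
      obtain ⟨d, z, hz⟩ := ha
      obtain ⟨d', z', hz'⟩ := hb
      refine ⟨d * d', (d' : R) • z + (d : R) • z', ?_⟩
      rw [map_add, hφsmul, hφsmul, ← hz, ← hz', smul_smul, smul_smul, smul_add, Submonoid.coe_mul, map_mul,
        mul_comm (algebraMap R S d' : S)]
    | single s c =>
      obtain ⟨⟨r, d⟩, hrd⟩ := IsLocalization.surj p.primeCompl c
      refine ⟨d, Finsupp.single s r, ?_⟩
      simp only [φ, Finsupp.mapRange.linearMap_apply, Finsupp.mapRange_single, Algebra.linearMap_apply,
        Finsupp.smul_single, smul_eq_mul]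
      rw [mul_comm, hrd]
  have hloc : φ q ∈ triv (fun s => algebraMap R S (f s)) := by
    refine h _ (by rw [hφlc, hq, map_zero]) fun s => ?_
    have h2 := Ideal.mem_map_of_mem (algebraMap R S) (hqJ s)
    rw [Ideal.map_span, ← Set.range_comp] at h2
    simp only [φ, Finsupp.mapRange.linearMap_apply, Finsupp.mapRange_apply, Algebra.linearMap_apply]
    exact h2
  have hlift : ∀ y ∈ triv (fun s => algebraMap R S (f s)),
      ∃ (d : p.primeCompl), ∃ z ∈ triv f, algebraMap R S d • y = φ z := by
    intro y hy
    induction hy using Submodule.span_induction with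
    | mem y hy =>
      obtain ⟨a, b, rfl⟩ := hy
      obtain ⟨d, za, hza⟩ := hclear a
      obtain ⟨d', zb, hzb⟩ := hclear b
      refine ⟨d * d', Finsupp.linearCombination R f za • zb - Finsupp.linearCombination R f zb • za,
        Submodule.subset_span ⟨za, zb, rfl⟩, ?_⟩
      rw [map_sub, hφsmul, hφsmul, ← hφlc, ← hφlc, ← hza, ← hzb, map_smul, map_smul, smul_sub,
        Submonoid.coe_mul, map_mul, smul_smul, smul_smul, smul_smul, smul_smul, smul_eq_mul, smul_eq_mul]
      congr 1 <;> congr 1 <;> ring
    | zero => exact ⟨1, 0, zero_mem _, by rw [map_zero, smul_zero]⟩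
    | add x y _ _ hx hy =>
      obtain ⟨d, z, hzm, hz⟩ := hx
      obtain ⟨d', z', hzm', hz'⟩ := hy
      refine ⟨d * d', (d' : R) • z + (d : R) • z', add_mem (Submodule.smul_mem _ _ hzm)
        (Submodule.smul_mem _ _ hzm'), ?_⟩
      rw [map_add, hφsmul, hφsmul, ← hz, ← hz', smul_smul, smul_smul, smul_add, Submonoid.coe_mul, map_mul,
        mul_comm (algebraMap R S d' : S)]
    | smul c x _ hx =>
      obtain ⟨d, z, hzm, hz⟩ := hx
      obtain ⟨⟨r, d'⟩, hrd⟩ := IsLocalization.surj p.primeCompl c
      refine ⟨d * d', r • z, Submodule.smul_mem _ _ hzm, ?_⟩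
      rw [hφsmul, ← hz, smul_smul, smul_smul, Submonoid.coe_mul, map_mul, ← hrd]
      congr 1
      ring
  obtain ⟨d, z, hzm, hz⟩ := hlift _ hloc
  rw [← hφsmul] at hz
  have hex : ∀ s, ∃ e : p.primeCompl, (e : R) * ((d : R) • q) s = (e : R) * z s := fun s => by
    have := congrArg (fun y : σ →₀ S => y s) hz
    simp only [φ, Finsupp.mapRange.linearMap_apply, Finsupp.mapRange_apply, Algebra.linearMap_apply] at this
    exact (IsLocalization.eq_iff_exists p.primeCompl S).1 this
  choose e he using hex
  let E : p.primeCompl := (((d : R) • q).support ∪ z.support).prod e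
  have hE : (E : R) • ((d : R) • q) = (E : R) • z := Finsupp.ext fun s => by
    rw [Finsupp.smul_apply, Finsupp.smul_apply (v := z), smul_eq_mul, smul_eq_mul]
    by_cases hs : s ∈ ((d : R) • q).support ∪ z.support
    · have hE' : (E : R) = (e s : R) * ((((d : R) • q).support ∪ z.support).erase s).prod fun x => (e x : R) := by
        simp only [E, Submonoid.coe_finsetProd]
        exact (Finset.mul_prod_erase _ _ hs).symm
      rw [hE', mul_assoc, mul_assoc, mul_left_comm, mul_left_comm (e s : R) _ (z s), he]
    · simp only [Finset.mem_union, Finsupp.mem_support_iff, not_or, not_not] at hs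
      rw [hs.1, hs.2]
  have hmem : ((E * d : p.primeCompl) : R) ∈ T := by
    show ((E * d : p.primeCompl) : R) • q ∈ triv f
    rw [Submonoid.coe_mul, ← smul_smul, hE]
    exact Submodule.smul_mem _ _ hzm
  exact ⟨_, (E * d).2, hmem⟩


/-- The relations are syzygetic at the primes over regular points. -/
theorem isSyz_rel_localized_of_regular {k : Type u} {B : Type u} [Field k] [CommRing B] [Algebra k B] {ι : Type w}
    [Finite ι] {σ : Type t} (P : Algebra.Presentation k B ι σ) (p : Ideal P.toExtension.Ring) [p.IsPrime]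
    (hle : Ideal.span (Set.range (rel P)) ≤ p)
    (hreg : ∀ _ : (p.map (algebraMap P.toExtension.Ring B)).IsPrime,
      IsRegularLocalRing (Localization.AtPrime (p.map (algebraMap P.toExtension.Ring B)))) :
    IsSyz (fun s => algebraMap P.toExtension.Ring (Localization.AtPrime p) (rel P s)) := by
  classical
  haveI : IsRegularRing P.toExtension.Ring := inferInstanceAs (IsRegularRing (MvPolynomial ι k))
  let R := P.toExtension.Ring
  let f : R →+* B := algebraMap R B
  let I : Ideal R := Ideal.span (Set.range (rel P))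
  have hker : I = RingHom.ker f := span_range_rel P
  let e : (R ⧸ I) ≃+* B :=
    (Ideal.quotEquivOfEq hker).trans (RingHom.quotientKerEquivOfSurjective (f := f) (algebraMap_surjective P))
  let q : Ideal B := p.map f
  haveI : q.IsPrime := Ideal.map_isPrime_of_surjective (algebraMap_surjective P) (by rw [← hker]; exact hle)
  let S := Localization.AtPrime p
  have hM : (Algebra.algebraMapSubmonoid (R ⧸ I) p.primeCompl).map e.toMonoidHom = q.primeCompl := by
    ext b
    constructor
    · rintro ⟨_, ⟨r, hr, rfl⟩, rfl⟩ hb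
      have hb' : f r ∈ p.map f := hb
      rw [← Ideal.mem_comap, Ideal.comap_map_of_surjective f (algebraMap_surjective P)] at hb'
      refine hr (SetLike.le_def.1 (sup_le le_rfl ?_) hb')
      rw [← RingHom.ker_eq_comap_bot, ← hker]
      exact hle
    · intro hb
      obtain ⟨r, rfl⟩ := algebraMap_surjective P b
      exact ⟨_, ⟨r, fun hr => hb (Ideal.mem_map_of_mem f hr), rfl⟩, rfl⟩
  haveI : IsRegularLocalRing (Localization.AtPrime q) := hreg inferInstance
  let eloc : (S ⧸ I.map (algebraMap R S)) ≃+* Localization.AtPrime q :=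
    IsLocalization.ringEquivOfRingEquiv (S ⧸ I.map (algebraMap R S)) (Localization.AtPrime q) e hM
  haveI : IsRegularLocalRing S := isRegularRing_iff.1 inferInstance p
  haveI : IsRegularLocalRing (S ⧸ I.map (algebraMap R S)) := IsRegularLocalRing.of_ringEquiv eloc.symm
  obtain ⟨s, t, hs, hst, hlen, -⟩ := Regular.Adapted.exists_adapted _ S rfl (I.map (algebraMap R S))
  have hr := Regular.Quotient.isRegular_of_span_eq_maximalIdeal (s ++ t) hst (by rw [List.length_append]; exact hlen)
  let a : Fin s.length → S := fun i => s.get i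
  have htake : ∀ i : Fin s.length, Ideal.span (a '' {j | j < i}) = Ideal.ofList ((s ++ t).take i.val) := fun i => by
    rw [List.take_append_of_le_length i.2.le]
    refine congrArg Ideal.span (Set.ext fun x => ?_)
    constructor
    · rintro ⟨j, hj, rfl⟩
      exact List.mem_take_iff_getElem.2 ⟨j.val, lt_min (Fin.lt_def.1 hj) j.2, rfl⟩
    · intro hx
      obtain ⟨n, hn, hnx⟩ := List.mem_take_iff_getElem.1 hx
      exact ⟨⟨n, (lt_min_iff.1 hn).2⟩, Fin.lt_def.2 (lt_min_iff.1 hn).1, hnx⟩
  have hsyz : IsSyz a := isSyz_of_regular a fun i x hx => by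
    rw [htake] at hx ⊢
    have hi : i.val < (s ++ t).length := by rw [List.length_append]; omega
    have h1 := hr.regular_mod_prev i.val hi
    have htop : (Ideal.ofList ((s ++ t).take i.val) • ⊤ : Submodule S S) = Ideal.ofList ((s ++ t).take i.val) := by
      rw [smul_eq_mul, Ideal.mul_top]
    rw [isSMulRegular_quotient_iff_mem_of_smul_mem, htop] at h1
    refine h1 x ?_
    rw [List.getElem_append_left i.2, smul_eq_mul]
    exact hx
  refine hsyz.of_span_eq ?_
  have hra : Set.range a = {x | x ∈ s} := Set.ext fun x => ⟨fun ⟨i, hi⟩ => hi ▸ List.get_mem s i,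
    fun hx => List.get_of_mem hx⟩
  rw [hra]
  show _ = Ideal.ofList s
  rw [hs, Ideal.map_span, ← Set.range_comp]
  rfl


end Groth.Agent.Lib.CotTwo
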