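import Groth.Agent.Lib.CotTwo.Koszul
import Mathlib.RingTheory.Localization.AtPrime.Basic

/-!
# Syzygetic families of generators
-/

noncomputable section

universe u v w t

namespace Groth.Agent.Lib.CotTwo

variable {R : Type u} [CommRing R] {σ : Type t}

/-- The trivial relations of a family. -/
def triv (f : σ → R) : Submodule R (σ →₀ R) :=
  Submodule.span R {y | ∃ p q : σ →₀ R,
    y = Finsupp.linearCombination R f p • q - Finsupp.linearCombination R f q • p}

/-- Relations with coefficients in the ideal generated are trivial. -/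
def IsSyz (f : σ → R) : Prop :=
  ∀ q : σ →₀ R, Finsupp.linearCombination R f q = 0 → (∀ s, q s ∈ Ideal.span (Set.range f)) → q ∈ triv f

theorem smul_mem_triv (f : σ → R) {x : R} (hx : x ∈ Ideal.span (Set.range f)) {q : σ →₀ R}
    (hq : Finsupp.linearCombination R f q = 0) : x • q ∈ triv f := by
  obtain ⟨a, rfl⟩ := Finsupp.mem_span_range_iff_exists_finsupp.1 hx
  exact Submodule.subset_span ⟨a, q, by rw [hq, zero_smul, sub_zero, ← Finsupp.linearCombination_apply]⟩

theorem isSyz_of_regular {n : ℕ} (a : Fin n → R)
    (hreg : ∀ (i : Fin n) (x : R), a i * x ∈ Ideal.span (a '' {j | j < i}) → x ∈ Ideal.span (a '' {j | j < i})) :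
    IsSyz a := fun q hq _ => mem_span_trivial_of_regular a hreg q hq

/-- Independence of the generators. -/
theorem IsSyz.of_span_eq {τ : Type w} {f : σ → R} {g : τ → R} (hg : IsSyz g)
    (h : Ideal.span (Set.range f) = Ideal.span (Set.range g)) : IsSyz f := by
  classical
  have ha : ∀ s, ∃ a : τ →₀ R, Finsupp.linearCombination R g a = f s := fun s => by
    rw [← LinearMap.mem_range, Finsupp.range_linearCombination]
    exact h.le (Ideal.subset_span ⟨s, rfl⟩)
  have hb : ∀ s, ∃ b : σ →₀ R, Finsupp.linearCombination R f b = g s := fun s => by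
    rw [← LinearMap.mem_range, Finsupp.range_linearCombination]
    exact h.ge (Ideal.subset_span ⟨s, rfl⟩)
  choose a ha using ha
  choose b hb using hb
  let Φ := Finsupp.linearCombination R a
  let Ψ := Finsupp.linearCombination R b
  have hΦ : ∀ q, Finsupp.linearCombination R g (Φ q) = Finsupp.linearCombination R f q := fun q => by
    rw [Finsupp.apply_linearCombination]
    exact congrArg (fun v => Finsupp.linearCombination R v q) (funext ha)
  have hΨ : ∀ q, Finsupp.linearCombination R f (Ψ q) = Finsupp.linearCombination R g q := fun q => by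
    rw [Finsupp.apply_linearCombination]
    exact congrArg (fun v => Finsupp.linearCombination R v q) (funext hb)
  intro q hq hqJ
  have h1 : Φ q ∈ triv g := by
    refine hg _ ((hΦ q).trans hq) fun t => ?_
    show (Finsupp.linearCombination R a q) t ∈ _
    rw [Finsupp.linearCombination_apply, Finsupp.sum, Finsupp.finsetSum_apply]
    refine Ideal.sum_mem _ fun s _ => ?_
    rw [Finsupp.smul_apply, smul_eq_mul, ← h]
    exact Ideal.mul_mem_right _ _ (hqJ s)
  have h2 : Ψ (Φ q) ∈ triv f := by
    have hmap : ∀ y ∈ triv g, Ψ y ∈ triv f := by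
      intro y hy
      induction hy using Submodule.span_induction with
      | mem y hy =>
        obtain ⟨p, p', rfl⟩ := hy
        rw [map_sub, map_smul, map_smul, ← hΨ p, ← hΨ p']
        exact Submodule.subset_span ⟨Ψ p, Ψ p', rfl⟩
      | zero => rw [map_zero]; exact zero_mem _
      | add x y _ _ hx hy => rw [map_add]; exact add_mem hx hy
      | smul c x _ hx => rw [map_smul]; exact Submodule.smul_mem _ c hx
    exact hmap _ h1
  have h3 : ∀ y, (∀ s, y s ∈ Ideal.span (Set.range f)) → Ψ (Φ y) - y ∈ triv f := fun y hy => by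
    have : Ψ (Φ y) - y = y.sum fun s c => c • (Ψ (a s) - Finsupp.single s 1) := by
      rw [show Φ y = y.sum fun s c => c • a s from Finsupp.linearCombination_apply R y, map_finsuppSum]
      conv_lhs => arg 2; rw [← Finsupp.sum_single y]
      rw [← Finsupp.sum_sub]
      refine Finsupp.sum_congr fun s _ => ?_
      rw [map_smul, smul_sub, Finsupp.smul_single, smul_eq_mul, mul_one]
    rw [this]
    refine Submodule.sum_mem _ fun s _ => smul_mem_triv f (hy s) ?_
    rw [map_sub, hΨ, ha, Finsupp.linearCombination_single, one_smul, sub_self]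
  have := sub_mem h2 (h3 q hqJ)
  rwa [sub_sub_cancel] at this

/-- Syzygetic may be tested at the primes containing the ideal. -/
theorem isSyz_of_localizations (f : σ → R)
    (h : ∀ (p : Ideal R) [p.IsPrime], Ideal.span (Set.range f) ≤ p →
      IsSyz (fun s => algebraMap R (Localization.AtPrime p) (f s))) : IsSyz f := by
  classical
  intro q hq hqJ
  let T : Ideal R := Submodule.comap (LinearMap.toSpanSingleton R (σ →₀ R) q) (triv f)
  have hJT : Ideal.span (Set.range f) ≤ T := fun x hx => smul_mem_triv f hx hq
  by_contra hne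
  have hT : T ≠ ⊤ := fun hT => hne (by
    have : (1 : R) ∈ T := hT ▸ trivial
    simpa [T] using this)
  obtain ⟨p, hp, hTp⟩ := Ideal.exists_le_maximal T hT
  haveI := hp.isPrime
  let S := Localization.AtPrime p
  let φ : (σ →₀ R) →ₗ[R] (σ →₀ S) := Finsupp.mapRange.linearMap (Algebra.linearMap R S)
  have hφlc : ∀ y, Finsupp.linearCombination S (fun s => algebraMap R S (f s)) (φ y) =
      algebraMap R S (Finsupp.linearCombination R f y) := fun y => by
    induction y using Finsupp.induction_linear with
    | zero => simp
    | add a b ha hb => rw [map_add, map_add, map_add, map_add, ha, hb]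
    | single s c =>
      simp only [φ, Finsupp.mapRange.linearMap_apply, Finsupp.mapRange_single, Algebra.linearMap_apply,
        Finsupp.linearCombination_single, smul_eq_mul, map_mul]
  have hφsmul : ∀ (c : R) y, φ (c • y) = algebraMap R S c • φ y := fun c y => by
    rw [map_smul, algebraMap_smul]
  have hclear : ∀ y : σ →₀ S, ∃ (d : p.primeCompl) (z : σ →₀ R), algebraMap R S d • y = φ z := fun y => by
    induction y using Finsupp.induction_linear with
    | zero => exact ⟨1, 0, by rw [map_zero, smul_zero]⟩
    | add a b ha hb =>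
      obtain ⟨d, z, hz⟩ := ha
      obtain ⟨d', z', hz'⟩ := hb
      refine ⟨d * d', (d' : R) • z + (d : R) • z', ?_⟩
      rw [map_add, hφsmul, hφsmul, ← hz, ← hz', smul_smul, smul_smul, smul_add, Submonoid.coe_mul, map_mul,
        mul_comm (algebraMap R S d' : S)]
    | single s c =>
      obtain ⟨⟨r, d⟩, hrd⟩ := IsLocalization.surj p.primeCompl c
      refine ⟨d, Finsupp.single s r, ?_⟩
      simp only [φ, Finsupp.mapRange.linearMap_apply, Finsupp.mapRange_single, Algebra.linearMap_apply,
        Finsupp.smul_single, smul_eq_mul]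
      rw [mul_comm, hrd]
  have hloc : φ q ∈ triv (fun s => algebraMap R S (f s)) := by
    refine h p (hJT.trans hTp) _ (by rw [hφlc, hq, map_zero]) fun s => ?_
    have h2 := Ideal.mem_map_of_mem (algebraMap R S) (hqJ s)
    rw [Ideal.map_span, ← Set.range_comp] at h2
    simp only [φ, Finsupp.mapRange.linearMap_apply, Finsupp.mapRange_apply, Algebra.linearMap_apply]
    exact h2
  have hlift : ∀ y ∈ triv (fun s => algebraMap R S (f s)),
      ∃ (d : p.primeCompl), ∃ z ∈ triv f, algebraMap R S d • y = φ z := by
    intro y hy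
    induction hy using Submodule.span_induction with
    | mem y hy =>
      obtain ⟨a, b, rfl⟩ := hy
      obtain ⟨d, za, hza⟩ := hclear a
      obtain ⟨d', zb, hzb⟩ := hclear b
      refine ⟨d * d', Finsupp.linearCombination R f za • zb - Finsupp.linearCombination R f zb • za,
        Submodule.subset_span ⟨za, zb, rfl⟩, ?_⟩
      rw [map_sub, hφsmul, hφsmul, ← hφlc, ← hφlc, ← hza, ← hzb, map_smul, map_smul, smul_sub,
        Submonoid.coe_mul, map_mul, smul_smul, smul_smul, smul_smul, smul_smul, smul_eq_mul, smul_eq_mul]
      congr 1 <;> congr 1 <;> ring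
    | zero => exact ⟨1, 0, zero_mem _, by rw [map_zero, smul_zero]⟩
    | add x y _ _ hx hy =>
      obtain ⟨d, z, hzm, hz⟩ := hx
      obtain ⟨d', z', hzm', hz'⟩ := hy
      refine ⟨d * d', (d' : R) • z + (d : R) • z', add_mem (Submodule.smul_mem _ _ hzm)
        (Submodule.smul_mem _ _ hzm'), ?_⟩
      rw [map_add, hφsmul, hφsmul, ← hz, ← hz', smul_smul, smul_smul, smul_add, Submonoid.coe_mul, map_mul,
        mul_comm (algebraMap R S d' : S)]
    | smul c x _ hx =>
      obtain ⟨d, z, hzm, hz⟩ := hx
      obtain ⟨⟨r, d'⟩, hrd⟩ := IsLocalization.surj p.primeCompl c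
      refine ⟨d * d', r • z, Submodule.smul_mem _ _ hzm, ?_⟩
      rw [hφsmul, ← hz, smul_smul, smul_smul, Submonoid.coe_mul, map_mul, ← hrd]
      congr 1
      ring
  obtain ⟨d, z, hzm, hz⟩ := hlift _ hloc
  rw [← hφsmul] at hz
  have hex : ∀ s, ∃ e : p.primeCompl, (e : R) * ((d : R) • q) s = (e : R) * z s := fun s => by
    have := congrArg (fun y : σ →₀ S => y s) hz
    simp only [φ, Finsupp.mapRange.linearMap_apply, Finsupp.mapRange_apply, Algebra.linearMap_apply] at this
    exact (IsLocalization.eq_iff_exists p.primeCompl S).1 this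
  choose e he using hex
  let E : p.primeCompl := (((d : R) • q).support ∪ z.support).prod e
  have hE : (E : R) • ((d : R) • q) = (E : R) • z := Finsupp.ext fun s => by
    rw [Finsupp.smul_apply, Finsupp.smul_apply (v := z), smul_eq_mul, smul_eq_mul]
    by_cases hs : s ∈ ((d : R) • q).support ∪ z.support
    · have hE' : (E : R) = (e s : R) * ((((d : R) • q).support ∪ z.support).erase s).prod fun x => (e x : R) := by
        simp only [E, Submonoid.coe_finsetProd]
        exact (Finset.mul_prod_erase _ _ hs).symm
      rw [hE', mul_assoc, mul_assoc, mul_left_comm, mul_left_comm (e s : R) _ (z s), he]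
    · simp only [Finset.mem_union, Finsupp.mem_support_iff, not_or, not_not] at hs
      rw [hs.1, hs.2]
  have hmem : ((E * d : p.primeCompl) : R) ∈ T := by
    show ((E * d : p.primeCompl) : R) • q ∈ triv f
    rw [Submonoid.coe_mul, ← smul_smul, hE]
    exact Submodule.smul_mem _ _ hzm
  exact (E * d).2 (hTp hmem)

end Groth.Agent.Lib.CotTwo
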