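import Groth.Agent.Lib.CotTwo.SyzAt
import Groth.Agent.Lib.CotTwo.ExtOne
import Mathlib.RingTheory.KrullDimension.Zero
import Mathlib.RingTheory.LocalProperties.Reduced
import Mathlib.RingTheory.RegularLocalRing.Defs

/-!
# `T²` of a reduced algebra
-/

noncomputable section

universe u

open TensorProduct CotT

namespace Groth.Agent.Lib.CotTwo

/-- `T²` of a reduced algebra of finite type is `Ext¹` of the conormal module. -/
theorem nonempty_T2_equiv_ext_one {k : Type u} [Field k] {B : Type u} [CommRing B] [Algebra k B] {ι σ : Type u}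
    [Finite ι] (P : Algebra.Presentation k B ι σ) [IsReduced B] :
    Nonempty (T2 P B ≃ₗ[B]
      CategoryTheory.Abelian.Ext.{u} (ModuleCat.of B P.toExtension.Cotangent) (ModuleCat.of B B) 1) := by
  classical
  let K := LinearMap.range (d2 P)
  haveI : Module.Free B (L1 P) := Module.Free.of_basis (L1basis P)
  obtain ⟨e⟩ := nonempty_coker_equiv_ext_one (R := B) (C := K) (F := L1 P) (N := P.toExtension.Cotangent) (M := B)
    K.subtype (toCot P) K.subtype_injective
    (LinearMap.exact_iff.2 ((LinearMap.exact_iff.1 (exact_d2_toCot P)).trans (Submodule.range_subtype K).symm))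
    (toCot_surjective P)
  let r : L2 P →ₗ[B] K := (d2 P).rangeRestrict
  have hkill : ∀ (ψ : L2 P →ₗ[B] B) z, d2 P z = 0 → ψ z = 0 := by
    intro ψ z hz
    obtain ⟨y, rfl⟩ := Submodule.Quotient.mk_surjective _ z
    obtain ⟨q, rfl⟩ := exists_one_tmul P y
    rw [d2_mk_tmul] at hz
    have hqJ : ∀ s, (q : relMod P) s ∈ Ideal.span (Set.range (rel P)) := fun s => by
      rw [span_range_rel]
      show algebraMap P.toExtension.Ring B ((q : relMod P) s) = 0
      have h1 : (L1basis P).repr ((1 : B) ⊗ₜ (q : relMod P)) s = algebraMap P.toExtension.Ring B ((q : relMod P) s) := by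
        simp [L1basis, Algebra.smul_def]
      rw [← h1, hz, map_zero, Finsupp.zero_apply]
    have h0 : ∀ 𝔮 ∈ minimalPrimes B, ψ (Submodule.Quotient.mk ((1 : B) ⊗ₜ q)) ∈ 𝔮 := by
      intro 𝔮 h𝔮
      haveI := h𝔮.1.1
      let f : P.toExtension.Ring →+* B := algebraMap P.toExtension.Ring B
      have hle : Ideal.span (Set.range (rel P)) ≤ 𝔮.comap f := by
        rw [span_range_rel]
        exact fun x hx => by rw [Ideal.mem_comap, show f x = 0 from hx]; exact zero_mem _
      have hmap : (𝔮.comap f).map f = 𝔮 := Ideal.map_comap_of_surjective f (algebraMap_surjective P) 𝔮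
      have hsyz := isSyz_rel_localized_of_regular P (𝔮.comap f) hle (fun h => by
        haveI : ((𝔮.comap f).map f).IsPrime := h
        have hmin : (𝔮.comap f).map f ∈ minimalPrimes B := hmap.symm ▸ h𝔮
        haveI : Ring.KrullDimLE 0 (Localization.AtPrime ((𝔮.comap f).map f)) :=
          .of_isLocalization _ hmin _
        letI : Field (Localization.AtPrime ((𝔮.comap f).map f)) :=
          (Ring.KrullDimLE.isField_of_isReduced).toField
        infer_instance)
      obtain ⟨d, hd, hdq⟩ := exists_smul_mem_triv (rel P) (𝔮.comap f) hsyz (q : relMod P) q.2 hqJ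
      have h2 : f d • (Submodule.Quotient.mk ((1 : B) ⊗ₜ q) : L2 P) = 0 := by
        rw [← Submodule.Quotient.mk_smul, TensorProduct.smul_tmul', smul_eq_mul, mul_one,
          show f d = d • (1 : B) from Algebra.algebraMap_eq_smul_one _, TensorProduct.smul_tmul,
          mk_one_tmul_eq_zero_iff]
        exact hdq
      have h3 : f d * ψ (Submodule.Quotient.mk ((1 : B) ⊗ₜ q)) ∈ 𝔮 := by
        rw [← smul_eq_mul, ← map_smul, h2, map_zero]
        exact zero_mem _
      exact (h𝔮.1.1.mem_or_mem h3).resolve_left hd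
    have h4 : ψ (Submodule.Quotient.mk ((1 : B) ⊗ₜ q)) ∈ sInf (minimalPrimes B) := Ideal.mem_sInf.2 fun {𝔮} h => h0 𝔮 h
    rw [show minimalPrimes B = (⊥ : Ideal B).minimalPrimes from rfl, Ideal.sInf_minimalPrimes] at h4
    exact isNilpotent_iff_eq_zero.1 h4
  obtain ⟨e'⟩ := nonempty_coker_equiv_of_surjective (R := B) (C := K) (F := L2 P) (N := L1 P) (M := B) r
    (d2 P).surjective_rangeRestrict K.subtype fun ψ z hz => hkill ψ z (congrArg Subtype.val hz)
  exact ⟨e'.trans e⟩

end Groth.Agent.Lib.CotTwo
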