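import Mathlib.Algebra.MvPolynomial.Equiv
import Mathlib.LinearAlgebra.Finsupp.LinearCombination
import Mathlib.RingTheory.MvPolynomial.Ideal

/-!
# Syzygies of constants in a polynomial ring
-/

noncomputable section

universe u v w t

namespace Groth.Agent.Lib.CotTwo

variable {R : Type u} [CommRing R] {T : Type v} [CommRing T] {κ : Type w} {σ : Type t}

/-- Syzygies of constants of a polynomial ring come from syzygies of the base ring. -/
theorem mem_span_of_syzygy (E : T ≃+* MvPolynomial κ R) (i : R →+* T)
    (hi : ∀ r, E (i r) = MvPolynomial.C r) (f : σ → R) (u : σ →₀ T)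
    (hu : Finsupp.linearCombination T (fun s => i (f s)) u = 0) :
    u ∈ Submodule.span T
      {y | ∃ v : σ →₀ R, Finsupp.linearCombination R f v = 0 ∧ y = Finsupp.mapRange i (map_zero i) v} := by
  classical
  let S : Finset (κ →₀ ℕ) := u.support.biUnion fun s => (E (u s)).support
  let c : (κ →₀ ℕ) → (σ →₀ R) := fun m =>
    Finsupp.onFinset u.support (fun s => MvPolynomial.coeff m (E (u s))) fun s hs => Finsupp.mem_support_iff.2 fun h0 => hs (by
      rw [h0, map_zero, MvPolynomial.coeff_zero])
  have hc : ∀ m, Finsupp.linearCombination R f (c m) = 0 := fun m => by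
    have h1 := congrArg (fun t => MvPolynomial.coeff m (E t)) hu
    simp only [Finsupp.linearCombination_apply, Finsupp.sum, map_sum, smul_eq_mul, map_mul, hi,
      MvPolynomial.coeff_sum, map_zero, MvPolynomial.coeff_zero] at h1
    rw [Finsupp.linearCombination_apply, Finsupp.onFinset_sum]
    · exact (Finset.sum_congr rfl fun s _ => by
        rw [mul_comm (E (u s)), MvPolynomial.coeff_C_mul, mul_comm, smul_eq_mul]).trans h1
    · exact fun s => zero_smul R (f s)
  have hdec : u = ∑ m ∈ S, E.symm (MvPolynomial.monomial m 1) • Finsupp.mapRange i (map_zero i) (c m) := by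
    refine Finsupp.ext fun s => E.injective ?_
    simp only [Finsupp.finsetSum_apply, Finsupp.smul_apply, smul_eq_mul, Finsupp.mapRange_apply, map_sum, map_mul,
      RingEquiv.apply_symm_apply, hi, c, Finsupp.onFinset_apply]
    by_cases hs : s ∈ u.support
    · have hsub : (E (u s)).support ⊆ S := fun m hm => Finset.mem_biUnion.2 ⟨s, hs, hm⟩
      conv_lhs => rw [MvPolynomial.as_sum (E (u s))]
      rw [Finset.sum_subset hsub]
      · refine Finset.sum_congr rfl fun m _ => ?_
        rw [mul_comm, MvPolynomial.C_mul_monomial, mul_one]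
      · intro m _ hm
        rw [MvPolynomial.notMem_support_iff.1 hm, map_zero]
    · rw [Finsupp.notMem_support_iff.1 hs, map_zero]
      refine (Finset.sum_eq_zero fun m _ => ?_).symm
      rw [MvPolynomial.coeff_zero, map_zero, mul_zero]
  rw [hdec]
  exact Submodule.sum_mem _ fun m _ => Submodule.smul_mem _ _ (Submodule.subset_span ⟨c m, hc m, rfl⟩)

end Groth.Agent.Lib.CotTwo
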