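import Groth.Agent.Lib.CotTwo.CompHom
import Groth.Agent.Lib.CotTwo.TriangleAlg
import Groth.Agent.Lib.CotTwo.Special

/-!
# The sequence of complexes of a composite presentation
-/

noncomputable section

universe u

open TensorProduct CotT

namespace Groth.Agent.Lib.CotTwo

variable {A B C : Type u} [CommRing A] [CommRing B] [CommRing C] [Algebra A B] [Algebra B C] [Algebra A C]
  [IsScalarTower A B C] {ι σ κ τ : Type u}
variable (P : Algebra.Presentation A B ι σ) (Q : Algebra.Presentation B C κ τ)

/-- The composite presentation. -/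
abbrev P3 : Algebra.Presentation A C (κ ⊕ ι) (τ ⊕ σ) := Q.comp P

/-- From the presentation of `B`. -/
def h13 : PresHom P (P3 P Q) where
  hom := Q.toGenerators.toComp P.toGenerators
  relVal s := Finsupp.single (Sum.inr s) 1
  jmap_relVal s := by
    rw [jmap_single, one_mul]
    exact (AlgHom.congr_fun (Algebra.Generators.toComp_toAlgHom Q.toGenerators P.toGenerators) (P.relation s)).symm

lemma ofComp_C (b : A) :
    (Q.toGenerators.ofComp P.toGenerators).toAlgHom (MvPolynomial.C b) = MvPolynomial.C (algebraMap A B b) :=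
  Algebra.Generators.Hom.toAlgHom_C _ b

/-- To the presentation over `B`. -/
def h23 : PresHom (P3 P Q) Q where
  hom := Q.toGenerators.ofComp P.toGenerators
  relVal := Sum.elim (fun r => Finsupp.single r 1) fun _ => 0
  jmap_relVal x := by
    rcases x with r | s
    · show jmap Q (Finsupp.single r 1) = _
      rw [jmap_single, one_mul]
      exact (Algebra.Presentation.comp_aeval_relation_inl Q P r).symm
    · show jmap Q 0 = _
      rw [map_zero]
      refine ((Algebra.Generators.toAlgHom_ofComp_rename Q.toGenerators P.toGenerators (P.relation s)).trans ?_).symm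
      refine (congrArg (cst Q) (show algebraMap P.toExtension.Ring B (rel P s) = 0 from ?_)).trans (map_zero _)
      exact algebraMap_rel P s

lemma h13_ringHom (r : P.toExtension.Ring) :
    (h13 P Q).ringHom r = (MvPolynomial.rename Sum.inr (r : MvPolynomial ι A) : (P3 P Q).toExtension.Ring) :=
  AlgHom.congr_fun (Algebra.Generators.toComp_toAlgHom Q.toGenerators P.toGenerators) r

lemma h23_h13 (r : P.toExtension.Ring) :
    (h23 P Q).ringHom ((h13 P Q).ringHom r) = cst Q (algebraMap P.toExtension.Ring B r) := by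
  rw [h13_ringHom]
  refine (Algebra.Generators.toAlgHom_ofComp_rename Q.toGenerators P.toGenerators r).trans ?_
  rfl

lemma h23_var_inl (k : κ) : (h23 P Q).ringHom (var (P3 P Q) (Sum.inl k)) = var Q k :=
  Algebra.Generators.Hom.toAlgHom_X (Q.toGenerators.ofComp P.toGenerators) (Sum.inl k)

lemma h23_var_inr (i : ι) : (h23 P Q).ringHom (var (P3 P Q) (Sum.inr i)) = cst Q (P.val i) :=
  Algebra.Generators.Hom.toAlgHom_X (Q.toGenerators.ofComp P.toGenerators) (Sum.inr i)

lemma h13_var (i : ι) : (h13 P Q).ringHom (var P i) = var (P3 P Q) (Sum.inr i) :=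
  Algebra.Generators.Hom.toAlgHom_X (Q.toGenerators.toComp P.toGenerators) i

lemma h23_ringHom_surjective : Function.Surjective (h23 P Q).ringHom := fun p => by
  refine MvPolynomial.induction_on (motive := fun p : MvPolynomial κ B => ∃ t, (h23 P Q).ringHom t = p) p
    (fun b => ?_) (fun p q hp hq => ?_) (fun p k hp => ?_)
  · obtain ⟨r, rfl⟩ := algebraMap_surjective P b
    exact ⟨(h13 P Q).ringHom r, h23_h13 P Q r⟩
  · obtain ⟨a, rfl⟩ := hp
    obtain ⟨b, rfl⟩ := hq
    exact ⟨a + b, map_add _ _ _⟩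
  · obtain ⟨a, rfl⟩ := hp
    exact ⟨a * var (P3 P Q) (Sum.inl k), (map_mul _ _ _).trans (congrArg (_ * ·) (h23_var_inl P Q k))⟩

/-- The ring of the composite presentation over the ring of `P`. -/
def ringEquiv : (P3 P Q).toExtension.Ring ≃+* MvPolynomial κ P.toExtension.Ring :=
  (MvPolynomial.sumAlgEquiv A κ ι).toRingEquiv

lemma ringEquiv_h13 (r : P.toExtension.Ring) : ringEquiv P Q ((h13 P Q).ringHom r) = MvPolynomial.C r := by
  rw [h13_ringHom]
  exact AlgHom.congr_fun (MvPolynomial.sumAlgEquiv_comp_rename_inr A κ ι) r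

lemma ker_h23 {t : (P3 P Q).toExtension.Ring} (ht : (h23 P Q).ringHom t = 0) :
    ∃ a : σ →₀ (P3 P Q).toExtension.Ring,
      Finsupp.linearCombination _ (fun s => (h13 P Q).ringHom (rel P s)) a = t := by
  have heq : (Q.toGenerators.ofComp P.toGenerators).toAlgHom =
      (MvPolynomial.mapAlgHom (MvPolynomial.aeval (R := A) P.val)).comp (MvPolynomial.sumAlgEquiv A κ ι).toAlgHom := by
    ext i : 1
    cases i <;> simp [Algebra.Generators.Hom.toAlgHom_X]
  have ht' : MvPolynomial.sumAlgEquiv A κ ι (t : MvPolynomial (κ ⊕ ι) A) ∈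
      RingHom.ker (MvPolynomial.mapAlgHom (σ := κ) (MvPolynomial.aeval (R := A) P.val)) :=
    (AlgHom.congr_fun heq t).symm.trans ht
  rw [MvPolynomial.ker_mapAlgHom] at ht'
  have hker : RingHom.ker (MvPolynomial.aeval (R := A) P.val) = Ideal.span (Set.range P.relation) := by
    rw [← P.ker_eq_ker_aeval_val, ← P.span_range_relation_eq_ker]
  rw [hker] at ht'
  change ringEquiv P Q t ∈ Ideal.map (MvPolynomial.C (R := P.toExtension.Ring)) (Ideal.span (Set.range (rel P))) at ht'
  rw [Ideal.map_span, ← Set.range_comp, Ideal.span, Finsupp.mem_span_range_iff_exists_finsupp] at ht'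
  obtain ⟨a, ha⟩ := ht'
  refine ⟨Finsupp.mapRange (ringEquiv P Q).symm (map_zero _) a, (ringEquiv P Q).injective ?_⟩
  rw [Finsupp.linearCombination_apply, Finsupp.sum_mapRange_index (h := fun i a => a • (h13 P Q).ringHom (rel P i)) (fun s => zero_smul _ _), map_finsuppSum, ← ha]
  refine Finsupp.sum_congr fun s _ => ?_
  rw [smul_eq_mul, map_mul, RingEquiv.apply_symm_apply, ringEquiv_h13]
  rfl

lemma h13_relModMap_single (s : σ) :
    (h13 P Q).relModMap (Finsupp.single s 1) = Finsupp.single (Sum.inr s) 1 := by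
  rw [PresHom.relModMap_single, map_one, one_smul]
  rfl

lemma h13_relModMap (f : relMod P) : (h13 P Q).relModMap f =
    Finsupp.mapDomain Sum.inr (Finsupp.mapRange (h13 P Q).ringHom (map_zero _) f) := by
  induction f using Finsupp.induction_linear with
  | zero => rw [map_zero, Finsupp.mapRange_zero, Finsupp.mapDomain_zero]
  | add a b ha hb => rw [map_add, ha, hb, Finsupp.mapRange_add (map_add _), Finsupp.mapDomain_add]
  | single s r =>
    rw [PresHom.relModMap_single, Finsupp.mapRange_single, Finsupp.mapDomain_single]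
    show (h13 P Q).ringHom r • (Finsupp.single (Sum.inr s) 1 : relMod (P3 P Q)) = _
    rw [Finsupp.smul_single, smul_eq_mul, mul_one]

lemma h23_relModMap_apply (f : relMod (P3 P Q)) (r : τ) :
    (h23 P Q).relModMap f r = (h23 P Q).ringHom (f (Sum.inl r)) := by
  classical
  induction f using Finsupp.induction_linear with
  | zero => rw [map_zero, Finsupp.zero_apply, Finsupp.zero_apply, map_zero]
  | add a b ha hb => rw [map_add, Finsupp.add_apply, Finsupp.add_apply, ha, hb, map_add]
  | single x c =>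
    rw [PresHom.relModMap_single]
    rcases x with r' | s
    · show ((h23 P Q).ringHom c • (Finsupp.single r' 1 : relMod Q)) r = _
      rw [Finsupp.smul_apply, smul_eq_mul, Finsupp.single_apply, Finsupp.single_apply]
      by_cases h : r' = r
      · subst h; simp
      · rw [if_neg h, if_neg (fun h' => h (Sum.inl.inj h')), mul_zero, map_zero]
    · show ((h23 P Q).ringHom c • (0 : relMod Q)) r = _
      rw [smul_zero, Finsupp.zero_apply, Finsupp.single_apply, if_neg Sum.inr_ne_inl, map_zero]

lemma h23_relModMap_surjective (g : relMod Q) :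
    ∃ f : relMod (P3 P Q), (h23 P Q).relModMap f = g ∧ ∀ s, f (Sum.inr s) = 0 := by
  induction g using Finsupp.induction_linear with
  | zero => exact ⟨0, map_zero _, fun s => rfl⟩
  | add a b ha hb =>
    obtain ⟨x, rfl, hx⟩ := ha
    obtain ⟨y, rfl, hy⟩ := hb
    exact ⟨x + y, map_add _ _ _, fun s => by rw [Finsupp.add_apply, hx, hy, add_zero]⟩
  | single r c =>
    obtain ⟨t, rfl⟩ := h23_ringHom_surjective P Q c
    refine ⟨Finsupp.single (Sum.inl r) t, ?_, fun s => Finsupp.single_eq_of_ne Sum.inr_ne_inl⟩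
    rw [PresHom.relModMap_single]
    show (h23 P Q).ringHom t • (Finsupp.single r 1 : relMod Q) = _
    rw [Finsupp.smul_single, smul_eq_mul, mul_one]

theorem h23_relKerMap_surjective (q : relKer Q) : ∃ f : relKer (P3 P Q), (h23 P Q).relKerMap f = q := by
  obtain ⟨f₀, hf₀, -⟩ := h23_relModMap_surjective P Q (q : relMod Q)
  have h0 : (h23 P Q).ringHom (jmap (P3 P Q) f₀) = 0 := by
    rw [← PresHom.jmap_relModMap, hf₀]
    exact q.2
  obtain ⟨a, ha⟩ := ker_h23 P Q h0
  let g : relMod (P3 P Q) := Finsupp.mapDomain Sum.inr a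
  have hg : jmap (P3 P Q) g = jmap (P3 P Q) f₀ := by
    rw [← ha]
    show Finsupp.linearCombination _ (rel (P3 P Q)) (Finsupp.mapDomain Sum.inr a) = _
    rw [Finsupp.linearCombination_mapDomain]
    refine congrArg (fun v => Finsupp.linearCombination _ v a) (funext fun s => ?_)
    exact (h13_ringHom P Q (rel P s)).symm
  refine ⟨⟨f₀ - g, LinearMap.mem_ker.2 (by rw [map_sub, hg, sub_self])⟩, Subtype.ext ?_⟩
  rw [PresHom.relKerMap_coe, map_sub, hf₀, sub_eq_self]
  refine Finsupp.ext fun r => ?_
  rw [h23_relModMap_apply, show g (Sum.inl r) = 0 from Finsupp.mapDomain_of_notMem_range _ _ (by rintro ⟨s, hs⟩; exact Sum.inr_ne_inl hs),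
    map_zero, Finsupp.zero_apply]

theorem mem_of_h23_mem_trivRel {f : relMod (P3 P Q)} (hf : f ∈ relKer (P3 P Q))
    (hΦ : (h23 P Q).relModMap f ∈ trivRel Q) :
    f ∈ trivRel (P3 P Q) ⊔
      Submodule.span (P3 P Q).toExtension.Ring ((h13 P Q).relModMap '' (relKer P : Set (relMod P))) := by
  classical
  -- lift of the trivial relation
  have hlift : ∀ y ∈ trivRel Q, ∃ x ∈ trivRel (P3 P Q), (h23 P Q).relModMap x = y := by
    intro y hy
    induction hy using Submodule.span_induction with
    | mem y hy =>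
      obtain ⟨a', b', rfl⟩ := hy
      obtain ⟨a, rfl, -⟩ := h23_relModMap_surjective P Q a'
      obtain ⟨b, rfl, -⟩ := h23_relModMap_surjective P Q b'
      refine ⟨jmap _ a • b - jmap _ b • a, Submodule.subset_span ⟨a, b, rfl⟩, ?_⟩
      rw [map_sub, LinearMap.map_smulₛₗ, LinearMap.map_smulₛₗ, PresHom.jmap_relModMap, PresHom.jmap_relModMap]
    | zero => exact ⟨0, zero_mem _, map_zero _⟩
    | add x y _ _ hx hy =>
      obtain ⟨a, ha, rfl⟩ := hx
      obtain ⟨b, hb, rfl⟩ := hy
      exact ⟨a + b, add_mem ha hb, map_add _ _ _⟩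
    | smul c x _ hx =>
      obtain ⟨a, ha, rfl⟩ := hx
      obtain ⟨c, rfl⟩ := h23_ringHom_surjective P Q c
      exact ⟨c • a, Submodule.smul_mem _ c ha, LinearMap.map_smulₛₗ _ _ _⟩
  obtain ⟨x, hx, hxf⟩ := hlift _ hΦ
  have hf₁ : f - x ∈ relKer (P3 P Q) := sub_mem hf (trivRel_le_relKer _ hx)
  have hl : ∀ r, (h23 P Q).ringHom ((f - x) (Sum.inl r)) = 0 := fun r => by
    rw [← h23_relModMap_apply, map_sub, hxf, sub_self, Finsupp.zero_apply]
  -- move the left coordinates to the right
  choose a ha using fun r => ker_h23 P Q (hl r)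
  let g : τ → relMod (P3 P Q) := fun r => Finsupp.mapDomain Sum.inr (a r)
  have hg : ∀ r, jmap (P3 P Q) (g r) = (f - x) (Sum.inl r) := fun r => by
    rw [← ha r]
    show Finsupp.linearCombination _ (rel (P3 P Q)) (Finsupp.mapDomain Sum.inr (a r)) = _
    rw [Finsupp.linearCombination_mapDomain]
    exact congrArg (fun v => Finsupp.linearCombination _ v (a r))
      (funext fun s => (h13_ringHom P Q (rel P s)).symm)
  let y : τ → relMod (P3 P Q) := fun r => jmap (P3 P Q) (g r) • Finsupp.single (Sum.inl r) 1 -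
    jmap (P3 P Q) (Finsupp.single (Sum.inl r) 1) • g r
  let S : Finset τ := (f - x).support.toLeft
  let f₂ : relMod (P3 P Q) := f - x - ∑ r ∈ S, y r
  have hy : ∑ r ∈ S, y r ∈ trivRel (P3 P Q) :=
    Submodule.sum_mem _ fun r _ => Submodule.subset_span ⟨g r, Finsupp.single (Sum.inl r) 1, rfl⟩
  have hgl : ∀ r r', g r (Sum.inl r') = 0 := fun r r' =>
    Finsupp.mapDomain_of_notMem_range _ _ (by rintro ⟨s, hs⟩; exact Sum.inr_ne_inl hs)
  have hf₂ : ∀ r', f₂ (Sum.inl r') = 0 := fun r' => by
    simp only [f₂, Finsupp.sub_apply, Finsupp.finsetSum_apply, y, Finsupp.smul_apply, hgl, smul_zero, sub_zero,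
      Finsupp.single_apply, Sum.inl.injEq, smul_eq_mul, mul_ite, mul_one, mul_zero]
    rw [Finset.sum_ite_eq', hg, Finsupp.sub_apply]
    split
    · exact sub_self _
    · next h =>
      simp only [S, Finset.mem_toLeft, Finsupp.mem_support_iff, ne_eq, not_not, Finsupp.sub_apply] at h
      rw [h, sub_zero]
  -- now only right coordinates
  let u : σ →₀ (P3 P Q).toExtension.Ring := Finsupp.comapDomain Sum.inr f₂ Sum.inr_injective.injOn
  have hu₂ : Finsupp.mapDomain Sum.inr u = f₂ := Finsupp.ext fun z => by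
    rcases z with r | s
    · rw [Finsupp.mapDomain_of_notMem_range _ _ (by rintro ⟨s, hs⟩; exact Sum.inr_ne_inl hs), hf₂]
    · rw [Finsupp.mapDomain_apply Sum.inr_injective]
      rfl
  have hu : Finsupp.linearCombination _ (fun s => (h13 P Q).ringHom (rel P s)) u = 0 := by
    have h0 : jmap (P3 P Q) f₂ = 0 := sub_mem hf₁ (trivRel_le_relKer _ hy)
    rw [← hu₂] at h0
    change Finsupp.linearCombination _ (rel (P3 P Q)) (Finsupp.mapDomain Sum.inr u) = 0 at h0
    rw [Finsupp.linearCombination_mapDomain] at h0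
    exact (congrArg (fun v => Finsupp.linearCombination _ v u)
      (funext fun s => (h13_ringHom P Q (rel P s)))).trans h0
  have hspan := mem_span_of_syzygy (ringEquiv P Q) (h13 P Q).ringHom (ringEquiv_h13 P Q) (rel P) u hu
  have h2 : f₂ ∈ Submodule.span (P3 P Q).toExtension.Ring ((h13 P Q).relModMap '' (relKer P : Set (relMod P))) := by
    rw [← hu₂]
    have hmap : Submodule.map (Finsupp.lmapDomain (P3 P Q).toExtension.Ring _ Sum.inr)
        (Submodule.span (P3 P Q).toExtension.Ring {y | ∃ v : relMod P, Finsupp.linearCombination _ (rel P) v = 0 ∧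
          y = Finsupp.mapRange (h13 P Q).ringHom (map_zero _) v}) ≤
        Submodule.span (P3 P Q).toExtension.Ring ((h13 P Q).relModMap '' (relKer P : Set (relMod P))) := by
      rw [Submodule.map_span, Submodule.span_le]
      rintro _ ⟨_, ⟨v, hv, rfl⟩, rfl⟩
      exact Submodule.subset_span ⟨v, hv, h13_relModMap P Q v⟩
    exact hmap ⟨u, hspan, rfl⟩
  have : f = (x + ∑ r ∈ S, y r) + f₂ := by simp only [f₂]; abel
  rw [this]
  exact Submodule.add_mem_sup (add_mem hx hy) h2

end Groth.Agent.Lib.CotTwo
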