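import Groth.Agent.Lib.CotTwo.Syzygetic
import Groth.Agent.Lib.CotTwo.Special
import Groth.Agent.Lib.Depth.CM
import Mathlib.RingTheory.KrullDimension.Regular
import Mathlib.RingTheory.Nakayama

/-!
# Regular sequences, trivial syzygies and complete intersections
-/

noncomputable section

universe u

open CotT IsLocalRing

namespace Groth.Agent.Lib.CotTwo

/-- Elementwise regular sequences. -/
def RegFam {A : Type u} [CommRing A] {n : ℕ} (a : Fin n → A) : Prop :=
  ∀ (i : Fin n) (x : A), a i * x ∈ Ideal.span (a '' {j | j < i}) → x ∈ Ideal.span (a '' {j | j < i})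

lemma exists_nat_dim (A : Type u) [CommRing A] [IsNoetherianRing A] [IsLocalRing A] :
    ∃ d : ℕ, ringKrullDim A = ((d : ℕ∞) : WithBot ℕ∞) := by
  obtain ⟨d, hd⟩ := Depth.CM.supportDim_eq_nat (R := A) A
  exact ⟨d, (Module.supportDim_self_eq_ringKrullDim (R := A)).symm.trans hd⟩

/-- In a Cohen-Macaulay local ring, elements cutting the dimension by their number form a regular sequence. -/
theorem regFam_of_ringKrullDim : ∀ (n : ℕ) (A : Type u) [CommRing A] [LocCoh.IsCohenMacaulayLocalRing A]
    (a : Fin n → A), (∀ i, a i ∈ maximalIdeal A) →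
    (n : WithBot ℕ∞) + ringKrullDim (A ⧸ Ideal.span (Set.range a)) ≤ ringKrullDim A → RegFam a := by
  intro n
  induction n with
  | zero => exact fun A _ _ a _ _ i => i.elim0
  | succ n ih =>
    intro A _ _ a ha hdim
    classical
    let x := a 0
    let J := Ideal.span {x}
    let π : A →+* A ⧸ J := Ideal.Quotient.mk J
    haveI : Nontrivial (A ⧸ J) := Ideal.Quotient.nontrivial_iff.2 fun h =>
      ha 0 (Ideal.span_singleton_eq_top.1 h)
    haveI : IsLocalRing (A ⧸ J) := .of_surjective' π Ideal.Quotient.mk_surjective
    let b : Fin n → A ⧸ J := fun i => π (a i.succ)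
    have hb : ∀ i, b i ∈ maximalIdeal (A ⧸ J) := fun i hu => by
      haveI : IsLocalHom π := IsLocalHom.of_surjective π Ideal.Quotient.mk_surjective
      exact ha i.succ (isUnit_of_map_unit π _ hu)
    have hrange : (Ideal.span (Set.range a)).map π = Ideal.span (Set.range b) := by
      rw [Ideal.map_span]
      refine le_antisymm (Ideal.span_le.2 ?_) (Ideal.span_le.2 ?_)
      · rintro _ ⟨_, ⟨i, rfl⟩, rfl⟩
        induction i using Fin.cases with
        | zero =>
          rw [SetLike.mem_coe, show π (a 0) = 0 from Ideal.Quotient.eq_zero_iff_mem.2 (Ideal.subset_span rfl)]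
          exact zero_mem _
        | succ i => exact Ideal.subset_span ⟨i, rfl⟩
      · rintro _ ⟨i, rfl⟩
        exact Ideal.subset_span ⟨_, ⟨i.succ, rfl⟩, rfl⟩
    have hJa : J ≤ Ideal.span (Set.range a) := Ideal.span_mono (Set.singleton_subset_iff.2 ⟨0, rfl⟩)
    have hquot : ringKrullDim ((A ⧸ J) ⧸ Ideal.span (Set.range b)) = ringKrullDim (A ⧸ Ideal.span (Set.range a)) := by
      rw [← hrange]
      exact ringKrullDim_eq_of_ringEquiv (DoubleQuot.quotQuotEquivQuotOfLE hJa)
    haveI : Nontrivial (A ⧸ Ideal.span (Set.range a)) := Ideal.Quotient.nontrivial_iff.2 fun h =>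
      (maximalIdeal.isMaximal A).ne_top (top_le_iff.1 (h.ge.trans (Ideal.span_le.2 (Set.range_subset_iff.2 ha))))
    haveI : IsLocalRing (A ⧸ Ideal.span (Set.range a)) := .of_surjective' (Ideal.Quotient.mk _) Ideal.Quotient.mk_surjective
    obtain ⟨D, hD⟩ := exists_nat_dim (A ⧸ Ideal.span (Set.range a))
    obtain ⟨d, hd⟩ := exists_nat_dim A
    obtain ⟨d₁, hd₁⟩ := exists_nat_dim (A ⧸ J)
    have hle : d₁ ≤ D + n := by
      have hS : ((Finset.univ.image b : Finset (A ⧸ J)) : Set (A ⧸ J)) = Set.range b := by simp
      have := ringKrullDim_le_ringKrullDim_quotient_add_card (R := A ⧸ J) (s := Finset.univ.image b) (by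
        rw [hS, IsLocalRing.ringJacobson_eq_maximalIdeal]
        exact Set.range_subset_iff.2 hb)
      rw [hS, hquot, hD, hd₁] at this
      norm_cast at this
      have hc : (Finset.univ.image b).card ≤ n := Finset.card_image_le.trans (le_of_eq (Finset.card_fin n))
      omega
    have hD' : n + 1 + D ≤ d := by
      rw [hD, hd] at hdim
      norm_cast at hdim
    have hreg : IsSMulRegular A x := by
      by_contra hnr
      have hmem : x ∈ ⋃ p ∈ associatedPrimes A A, (p : Set A) := by
        rw [biUnion_associatedPrimes_eq_compl_regular A A]; exact hnr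
      simp only [Set.mem_iUnion, SetLike.mem_coe] at hmem
      obtain ⟨p, hp, hxp⟩ := hmem
      have h1 := Depth.CM.ringKrullDim_quotient_eq (Depth.CM.isCohenMacaulayModule_self (R := A)) hp
      rw [Module.supportDim_self_eq_ringKrullDim, hd] at h1
      have h2 : ringKrullDim (A ⧸ p) ≤ ringKrullDim (A ⧸ J) :=
        ringKrullDim_le_of_surjective (Ideal.Quotient.factor ((Ideal.span_singleton_le_iff_mem p).2 hxp))
          (Ideal.Quotient.factor_surjective _)
      rw [h1, hd₁] at h2
      norm_cast at h2
      omega
    haveI : LocCoh.IsCohenMacaulayLocalRing (A ⧸ J) :=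
      (Depth.CM.isCohenMacaulayLocalRing_quotient_span_singleton_iff (ha 0) hreg).2 inferInstance
    have hih : RegFam b := by
      refine ih (A ⧸ J) b hb ?_
      have h3 : d₁ + 1 = d := by
        have := ringKrullDim_quotient_span_singleton_succ_eq_ringKrullDim hreg (ha 0)
        rw [show ringKrullDim (A ⧸ Ideal.span {x}) = _ from hd₁, hd] at this
        norm_cast at this
      rw [hquot, hD, hd₁]
      norm_cast
      omega
    intro i y hy
    induction i using Fin.cases with
    | zero =>
      have he : {j : Fin (n + 1) | j < 0} = ∅ := Set.eq_empty_of_forall_notMem fun j hj => Nat.not_lt_zero _ hj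
      rw [he, Set.image_empty, Ideal.span_empty, Ideal.mem_bot] at hy ⊢
      exact hreg (show x • y = x • (0 : A) by rw [smul_eq_mul, smul_zero]; exact hy)
    | succ i =>
      have hJle : J ≤ Ideal.span (a '' {j | j < i.succ}) :=
        Ideal.span_mono (Set.singleton_subset_iff.2 ⟨0, Fin.succ_pos i, rfl⟩)
      have himg : (Ideal.span (a '' {j | j < i.succ})).map π = Ideal.span (b '' {j | j < i}) := by
        rw [Ideal.map_span]
        refine le_antisymm (Ideal.span_le.2 ?_) (Ideal.span_le.2 ?_)
        · rintro _ ⟨_, ⟨j, hj, rfl⟩, rfl⟩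
          induction j using Fin.cases with
          | zero =>
            rw [SetLike.mem_coe, show π (a 0) = 0 from Ideal.Quotient.eq_zero_iff_mem.2 (Ideal.subset_span rfl)]
            exact zero_mem _
          | succ j => exact Ideal.subset_span ⟨j, Fin.succ_lt_succ_iff.1 hj, rfl⟩
        · rintro _ ⟨j, hj, rfl⟩
          exact Ideal.subset_span ⟨_, ⟨j.succ, Fin.succ_lt_succ_iff.2 hj, rfl⟩, rfl⟩
      have h4 : π y ∈ (Ideal.span (a '' {j | j < i.succ})).map π := by
        rw [himg]
        refine hih i (π y) ?_
        show π (a i.succ) * π y ∈ _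
        rw [← himg, ← map_mul]
        exact Ideal.mem_map_of_mem π hy
      obtain ⟨z, hz, hzy⟩ := (Ideal.mem_map_iff_of_surjective π Ideal.Quotient.mk_surjective).1 h4
      have := sub_mem hz (hJle (Ideal.Quotient.eq.1 hzy))
      rwa [sub_sub_cancel] at this

/-- If all syzygies are trivial, the family is regular. -/
theorem regFam_of_syz_le_triv {A : Type u} [CommRing A] [IsNoetherianRing A] [IsLocalRing A] :
    ∀ (n : ℕ) (a : Fin n → A), (∀ i, a i ∈ maximalIdeal A) →
      (∀ q : Fin n →₀ A, Finsupp.linearCombination A a q = 0 → q ∈ triv a) → RegFam a := by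
  intro n
  induction n with
  | zero => exact fun a _ _ i => i.elim0
  | succ n ih =>
    intro a ha hsyz
    classical
    let a' : Fin n → A := a ∘ Fin.castSucc
    let f : A := a (Fin.last n)
    have hcs : Function.Injective (Fin.castSucc : Fin n → Fin (n + 1)) := Fin.castSucc_injective n
    let res : (Fin (n + 1) →₀ A) →ₗ[A] (Fin n →₀ A) := Finsupp.lcomapDomain Fin.castSucc hcs
    have hres : ∀ q i, res q i = q i.castSucc := fun q i => rfl
    have hlc : ∀ q, Finsupp.linearCombination A a q =
        Finsupp.linearCombination A a' (res q) + q (Fin.last n) * f := fun q => by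
      rw [Finsupp.linearCombination_apply, Finsupp.linearCombination_apply,
        Finsupp.sum_fintype q (fun i c => c • a i) (fun _ => zero_smul _ _), Finsupp.sum_fintype (res q) (fun i c => c • a' i) (fun _ => zero_smul _ _),
        Fin.sum_univ_castSucc]
      rfl
    have key : ∀ q ∈ triv a, ∃ z : Fin n →₀ A,
        res q - f • z ∈ triv a' ∧ q (Fin.last n) = - Finsupp.linearCombination A a' z := by
      intro q hq
      induction hq using Submodule.span_induction with
      | mem q hq =>
        obtain ⟨p, r, rfl⟩ := hq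
        refine ⟨p (Fin.last n) • res r - r (Fin.last n) • res p, ?_, ?_⟩
        · have : res (Finsupp.linearCombination A a p • r - Finsupp.linearCombination A a r • p) -
              f • (p (Fin.last n) • res r - r (Fin.last n) • res p) =
              Finsupp.linearCombination A a' (res p) • res r - Finsupp.linearCombination A a' (res r) • res p := by
            ext i
            simp only [Finsupp.sub_apply, Finsupp.smul_apply, smul_eq_mul, hlc, hres]
            ring
          rw [this]
          exact Submodule.subset_span ⟨res p, res r, rfl⟩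
        · simp only [Finsupp.sub_apply, Finsupp.smul_apply, smul_eq_mul, hlc, map_sub, map_smul]
          ring
      | zero => exact ⟨0, by simp, by simp⟩
      | add p r _ _ hp hr =>
        obtain ⟨z, hz, hzl⟩ := hp
        obtain ⟨w, hw, hwl⟩ := hr
        refine ⟨z + w, ?_, ?_⟩
        · have := add_mem hz hw
          rwa [sub_add_sub_comm, ← map_add, ← smul_add] at this
        · rw [Finsupp.add_apply, hzl, hwl, map_add, neg_add]
      | smul c p _ hp =>
        obtain ⟨z, hz, hzl⟩ := hp
        refine ⟨c • z, ?_, ?_⟩
        · have := Submodule.smul_mem _ c hz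
          rwa [smul_sub, ← map_smul, smul_comm] at this
        · rw [Finsupp.smul_apply, hzl, map_smul, smul_eq_mul, smul_eq_mul, mul_neg]
    let K : Submodule A (Fin n →₀ A) := LinearMap.ker (Finsupp.linearCombination A a')
    have hembed : ∀ q : Fin n →₀ A, res (Finsupp.mapDomain Fin.castSucc q) = q :=
      fun q => Finsupp.ext fun i => (hres _ i).trans (Finsupp.mapDomain_apply hcs q i)
    have hlast : ∀ q : Fin n →₀ A, Finsupp.mapDomain Fin.castSucc q (Fin.last n) = 0 :=
      fun q => Finsupp.mapDomain_of_notMem_range _ _ (by rintro ⟨i, hi⟩; exact i.castSucc_ne_last hi)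
    have hK : K ≤ triv a' := by
      refine Submodule.le_of_le_smul_of_le_jacobson_bot (I := Ideal.span {f}) (IsNoetherian.noetherian K) ?_ ?_
      · rw [IsLocalRing.jacobson_eq_maximalIdeal (I := ⊥) bot_ne_top, Ideal.span_singleton_le_iff_mem]
        exact ha _
      · intro q hq
        obtain ⟨z, hz, hzl⟩ := key (Finsupp.mapDomain Fin.castSucc q) (hsyz _ (by
          rw [hlc, hembed, hlast, zero_mul, add_zero]; exact hq))
        rw [hembed] at hz
        rw [hlast, eq_comm, neg_eq_zero] at hzl
        have := Submodule.add_mem_sup hz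
          (Submodule.smul_mem_smul (Ideal.mem_span_singleton_self f) (show z ∈ K from hzl))
        rwa [sub_add_cancel] at this
    have ih' : RegFam a' := ih a' (fun i => ha _) hK
    intro i y hy
    have himg : ∀ i : Fin n, a '' {j | j < i.castSucc} = a' '' {j | j < i} := fun i => by
      ext z
      constructor
      · rintro ⟨j, hj, rfl⟩
        have hjn : j.val < n := lt_trans (Fin.lt_def.1 hj) i.2
        exact ⟨⟨j.val, hjn⟩, Fin.lt_def.2 (Fin.lt_def.1 hj), rfl⟩
      · rintro ⟨j, hj, rfl⟩
        exact ⟨j.castSucc, Fin.castSucc_lt_castSucc_iff.2 hj, rfl⟩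
    induction i using Fin.lastCases with
    | cast i =>
      rw [himg] at hy ⊢
      exact ih' i y hy
    | last =>
      have himg' : a '' {j | j < Fin.last n} = Set.range a' := by
        ext z
        constructor
        · rintro ⟨j, hj, rfl⟩
          exact ⟨⟨j.val, Fin.lt_def.1 hj⟩, rfl⟩
        · rintro ⟨j, rfl⟩
          exact ⟨j.castSucc, Fin.castSucc_lt_last j, rfl⟩
      rw [himg'] at hy ⊢
      obtain ⟨c, hc⟩ := Finsupp.mem_span_range_iff_exists_finsupp.1 hy
      rw [← Finsupp.linearCombination_apply] at hc
      let q : Fin (n + 1) →₀ A := Finsupp.mapDomain Fin.castSucc c - Finsupp.single (Fin.last n) y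
      have hq0 : Finsupp.linearCombination A a q = 0 := by
        simp only [q, map_sub, Finsupp.linearCombination_mapDomain, Finsupp.linearCombination_single, smul_eq_mul]
        rw [show Finsupp.linearCombination A (a ∘ Fin.castSucc) c = f * y from hc, mul_comm y, sub_self]
      obtain ⟨z, -, hzl⟩ := key q (hsyz q hq0)
      rw [show q (Fin.last n) = -y by simp [q, hlast], neg_inj] at hzl
      rw [hzl]
      exact Finsupp.mem_span_range_iff_exists_finsupp.2 ⟨z, (Finsupp.linearCombination_apply A z).symm⟩

end Groth.Agent.Lib.CotTwo
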