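import Groth.Agent.Lib.CotTwo.TrivSyz
import Groth.Agent.Lib.CotTwo.Koszul

/-!
# Vanishing of `T²` of a quotient and syzygies
-/

noncomputable section

universe u

open CotT IsLocalRing TensorProduct

namespace Groth.Agent.Lib.CotTwo

variable {A B : Type u} [CommRing A] [CommRing B] [Algebra A B] (hs : Function.Surjective (algebraMap A B))
  {n : ℕ} (a : Fin n → A) (hI : RingHom.ker (algebraMap A B) = Ideal.span (Set.range a))

set_option maxHeartbeats 1000000 in
/-- If `T²` vanishes, each syzygy is trivial up to combinations of syzygies with its coefficients. -/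
theorem exists_syz_of_T2
    (h : ∀ (M : Type u) [AddCommGroup M] [Module B M], Subsingleton (T2 (quotPres.{u, u, u, u} hs a hI) M)) :
    ∃ r : Fin n → (Fin n →₀ A), (∀ s, Finsupp.linearCombination A a (r s) = 0) ∧
      ∀ q : Fin n →₀ A, Finsupp.linearCombination A a q = 0 →
        q - Finsupp.linearCombination A r q ∈ triv a := by
  classical
  let P := quotPres.{u, u, u, u} hs a hI
  let R := P.toExtension.Ring
  let C' : A →+* R := cst P
  let Ci : R →+* A := (MvPolynomial.aeval (R := A) (fun x : PEmpty.{u + 1} => x.elim)).toRingHom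
  have hCi : ∀ x : A, Ci (C' x) = x := fun x => MvPolynomial.aeval_C _ x
  -- back to families over `A`
  let π : relMod P → (Fin n →₀ A) := fun f =>
    Finsupp.mapDomain ULift.down (Finsupp.mapRange Ci (map_zero Ci) f)
  have π_add : ∀ f g, π (f + g) = π f + π g := fun f g => by
    show Finsupp.mapDomain _ (Finsupp.mapRange _ _ (f + g)) = _
    rw [Finsupp.mapRange_add (map_add Ci), Finsupp.mapDomain_add]
  have π_zero : π 0 = 0 := by
    show Finsupp.mapDomain _ (Finsupp.mapRange _ _ (0 : relMod P)) = _
    rw [Finsupp.mapRange_zero, Finsupp.mapDomain_zero]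
  have π_single : ∀ s c, π (Finsupp.single s c) = Finsupp.single s.down (Ci c) := fun s c => by
    show Finsupp.mapDomain _ (Finsupp.mapRange _ _ (Finsupp.single s c)) = _
    rw [Finsupp.mapRange_single, Finsupp.mapDomain_single]
  have π_smul : ∀ (c : R) f, π (c • f) = Ci c • π f := fun c f => by
    induction f using Finsupp.induction_linear with
    | zero => rw [smul_zero, π_zero, smul_zero]
    | add x y hx hy => rw [smul_add, π_add, π_add, hx, hy, smul_add]
    | single s d => rw [Finsupp.smul_single, π_single, π_single, Finsupp.smul_single, smul_eq_mul, smul_eq_mul, map_mul]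
  have π_sub : ∀ f g, π (f - g) = π f - π g := fun f g => by
    rw [eq_sub_iff_add_eq, ← π_add, sub_add_cancel]
  have π_lc : ∀ f, Finsupp.linearCombination A a (π f) = Ci (jmap P f) := fun f => by
    induction f using Finsupp.induction_linear with
    | zero => rw [π_zero, map_zero, map_zero, map_zero]
    | add x y hx hy => rw [π_add, map_add, map_add, hx, hy, map_add]
    | single s d =>
      rw [π_single, jmap_single, Finsupp.linearCombination_single, smul_eq_mul, map_mul]
      exact congrArg (Ci d * ·) (hCi (a s.down)).symm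
  have π_triv : ∀ f ∈ trivRel P, π f ∈ triv a := by
    intro f hf
    induction hf using Submodule.span_induction with
    | mem f hf =>
      obtain ⟨x, y, rfl⟩ := hf
      rw [π_sub, π_smul, π_smul, ← π_lc, ← π_lc]
      exact Submodule.subset_span ⟨π x, π y, rfl⟩
    | zero => rw [π_zero]; exact zero_mem _
    | add x y _ _ hx hy => rw [π_add]; exact add_mem hx hy
    | smul c x _ hx => rw [π_smul]; exact Submodule.smul_mem _ _ hx
  -- into the relation module
  let ι : (Fin n →₀ A) → relMod P := fun q => Finsupp.mapDomain ULift.up (Finsupp.mapRange C' (map_zero C') q)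
  have hπι : ∀ q, π (ι q) = q := fun q => by
    refine Finsupp.ext fun i => ?_
    show Finsupp.mapDomain ULift.down (Finsupp.mapRange Ci _ (ι q)) (ULift.up i).down = q i
    rw [Finsupp.mapDomain_apply ULift.down_injective, Finsupp.mapRange_apply]
    show Ci (Finsupp.mapDomain ULift.up (Finsupp.mapRange C' _ q) (ULift.up i)) = q i
    rw [Finsupp.mapDomain_apply ULift.up_injective, Finsupp.mapRange_apply, hCi]
  have hι : ∀ q, jmap P (ι q) = C' (Finsupp.linearCombination A a q) := fun q => by
    induction q using Finsupp.induction_linear with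
    | zero =>
      show jmap P (Finsupp.mapDomain _ (Finsupp.mapRange _ _ 0)) = _
      rw [Finsupp.mapRange_zero, Finsupp.mapDomain_zero, map_zero, map_zero, map_zero]
    | add x y hx hy =>
      show jmap P (Finsupp.mapDomain _ (Finsupp.mapRange _ _ (x + y))) = _
      rw [Finsupp.mapRange_add (map_add C'), Finsupp.mapDomain_add, map_add]
      exact (congrArg₂ (· + ·) hx hy).trans (by rw [map_add, map_add])
    | single s c =>
      show jmap P (Finsupp.mapDomain _ (Finsupp.mapRange _ _ (Finsupp.single s c))) = _
      rw [Finsupp.mapRange_single, Finsupp.mapDomain_single, jmap_single, Finsupp.linearCombination_single,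
        smul_eq_mul, map_mul]
      rfl
  haveI := h (L2 P)
  obtain ⟨l, hl⟩ := (Submodule.Quotient.mk_eq_zero _).1
    (Subsingleton.elim (Submodule.Quotient.mk (LinearMap.id : L2 P →ₗ[B] L2 P) : T2 P (L2 P)) 0)
  have hrep : ∀ s, ∃ r : relKer P, l (L1basis P s) = Submodule.Quotient.mk ((1 : B) ⊗ₜ r) := fun s => by
    obtain ⟨y, hy⟩ := Submodule.Quotient.mk_surjective _ (l (L1basis P s))
    obtain ⟨r, rfl⟩ := exists_one_tmul P y
    exact ⟨r, hy.symm⟩
  choose ρ hρ using hrep
  have key : ∀ f : relMod P,
      l ((1 : B) ⊗ₜ f) = Submodule.Quotient.mk ((1 : B) ⊗ₜ Finsupp.linearCombination R ρ f) := fun f => by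
    induction f using Finsupp.induction_linear with
    | zero => simp
    | add x y hx hy =>
      rw [TensorProduct.tmul_add, map_add, hx, hy, map_add, TensorProduct.tmul_add, Submodule.Quotient.mk_add]
    | single s c =>
      rw [Finsupp.linearCombination_single, ← mul_one c, ← smul_eq_mul, ← Finsupp.smul_single, ← tmul_eq P, smul_eq_mul,
        mul_one, show algebraMap P.toExtension.Ring B c ⊗ₜ[R] Finsupp.single s (1 : R) =
          algebraMap P.toExtension.Ring B c • ((1 : B) ⊗ₜ[R] Finsupp.single s (1 : R)) by
            rw [TensorProduct.smul_tmul', smul_eq_mul, mul_one],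
        map_smul, ← L1basis_apply, hρ, ← Submodule.Quotient.mk_smul, TensorProduct.smul_tmul', smul_eq_mul, mul_one]
      refine congrArg Submodule.Quotient.mk ?_
      rw [← TensorProduct.smul_tmul, Algebra.smul_def, mul_one]
  refine ⟨fun s => π (ρ (ULift.up s) : relMod P), fun s => ?_, fun q hq => ?_⟩
  · rw [π_lc, show jmap P (ρ (ULift.up s) : relMod P) = 0 from (ρ (ULift.up s)).2, map_zero]
  · let q' : relKer P := ⟨ι q, LinearMap.mem_ker.2 (by rw [hι, hq, map_zero])⟩
    have h1 : l (d2 P (Submodule.Quotient.mk ((1 : B) ⊗ₜ q'))) = Submodule.Quotient.mk ((1 : B) ⊗ₜ q') :=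
      LinearMap.congr_fun hl _
    rw [d2_mk_tmul, key] at h1
    have h1' : q' - Finsupp.linearCombination R ρ (q' : relMod P) ∈ trivRelKer P := (mk_one_tmul_eq_zero_iff P _).1 (by
      refine (congrArg (Submodule.Quotient.mk (p := LinearMap.range ((trivRelKer P).subtype.baseChange B))) ((TensorProduct.mk P.toExtension.Ring B (relKer P) 1).map_sub q' _)).trans ?_
      exact (Submodule.Quotient.mk_eq_zero _).2 ((Submodule.Quotient.eq _).1 h1.symm))
    have h2 := π_triv _ h1'
    change π ((q' : relMod P) - ((Finsupp.linearCombination R ρ (q' : relMod P) : relKer P) : relMod P)) ∈ triv a at h2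
    rw [π_sub] at h2
    have h3 : ∀ g : relMod P, π ((Finsupp.linearCombination R ρ g : relKer P) : relMod P) =
        Finsupp.linearCombination A (fun s => π (ρ (ULift.up s) : relMod P)) (π g) := fun g => by
      induction g using Finsupp.induction_linear with
      | zero => simp [π_zero]
      | add x y hx hy => rw [map_add, Submodule.coe_add, π_add, hx, hy, π_add, map_add]
      | single s c =>
        rw [Finsupp.linearCombination_single, Submodule.coe_smul, π_smul, π_single, Finsupp.linearCombination_single]
    rw [h3] at h2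
    rw [show (q' : relMod P) = ι q from rfl, hπι] at h2
    exact h2

end Groth.Agent.Lib.CotTwo
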